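import Mathlib
import Cfsg.Prelude.Def_Blocks
import Cfsg.Prelude.Def_BlockRank
import Cfsg.Agent.Blocks.Blau
import Cfsg.Agent.Blocks.Knorr
import Cfsg.Agent.S0961

/-!
# The Gram matrix of a block on the `p`-regular elements

`rg p ξ η = |G|⁻¹ ∑_{x p-regular} ξ x * conj (η x)`.

* `rg_comm`, `conj_rg`, `rg_eq_zero` (different blocks);
* `sum_rg_mul_rg`: idempotency inside a block, sums over the subtype `B`;
* `sum_rg_self`: the trace over `B` is `blockRank p B` (the rank `l(B)`);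
* `exists_int_rg`: `p ^ blockDefect p B * rg p ξ η` is a rational integer for `ξ`, `η ∈ B`;
* `memLocalIdeal_rg_sub`, `not_memLocalIdeal_rg_self`: `p ^ d * rg p ξ η` is congruent to
  `(p ^ d * rg p ξ₀ ξ₀) * (ξ 1 / ξ₀ 1) * (η 1 / ξ₀ 1)` modulo `M`, and `p ^ d * rg p ξ₀ ξ₀` is a
  unit, for `ξ₀` of height zero in `B`.
-/

set_option autoImplicit false

open Cfsg
open scoped ComplexConjugate

namespace Cfsg.Agent.H613.RegGram

open Cfsg.Agent.Blocks.Blau Cfsg.Agent.Blocks.Local Cfsg.Agent.Characters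

section basic

variable {G : Type*} [Group G]

/-- The Hermitian product of the restrictions to the `p`-regular elements. -/
noncomputable def rg [Fintype G] (p : ℕ) (ξ η : G → ℂ) : ℂ := (Nat.card G : ℂ)⁻¹ * pair p ξ η

theorem rg_def [Fintype G] (p : ℕ) (ξ η : G → ℂ) :
    rg p ξ η = (Nat.card G : ℂ)⁻¹ * pair p ξ η := rfl

theorem rg_eq_classInner [Fintype G] (p : ℕ) (ξ η : G → ℂ) :
    rg p ξ η = classInner (regPart p ξ) η := (classInner_regPart ξ η).symm

theorem classInner_regPart_regPart [Fintype G] (p : ℕ) (ξ η : G → ℂ) :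
    classInner (regPart p ξ) (regPart p η) = rg p ξ η := by
  rw [rg_eq_classInner]
  unfold classInner
  congr 1
  refine Finset.sum_congr rfl fun x _ => ?_
  by_cases h : p ∣ orderOf x
  · rw [regPart_of_dvd h, zero_mul, zero_mul]
  · rw [regPart_of_not_dvd (f := η) h]

theorem rg_comm [Fintype G] (p : ℕ) {ξ η : G → ℂ} (hξ : IsCharacter G ξ) (hη : IsCharacter G η) :
    rg p ξ η = rg p η ξ := by
  unfold rg
  rw [pair_comm p (Core.isCharacter_apply_inv hξ) (Core.isCharacter_apply_inv hη)]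

theorem conj_pair [Fintype G] (p : ℕ) (ξ η : G → ℂ) : conj (pair p ξ η) = pair p η ξ := by
  rw [pair_def, pair_def, map_sum]
  refine Finset.sum_congr rfl fun x _ => ?_
  by_cases h : p ∣ orderOf x
  · rw [regPart_of_dvd h, regPart_of_dvd h]; simp
  · rw [regPart_of_not_dvd h, regPart_of_not_dvd h, map_mul, Complex.conj_conj, mul_comm]

theorem conj_rg [Fintype G] (p : ℕ) (ξ η : G → ℂ) : conj (rg p ξ η) = rg p η ξ := by
  unfold rg
  rw [map_mul, conj_pair, map_inv₀, Complex.conj_natCast]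

theorem sum_eq_sum_coe [Fintype (IrrCharacter G)] (B : Set (IrrCharacter G)) [Fintype B]
    {A : Type*} [AddCommMonoid A] (F : IrrCharacter G → A) (h : ∀ ζ, ζ ∉ B → F ζ = 0) :
    ∑ ζ, F ζ = ∑ ζ : B, F ζ := by
  classical
  rw [← Finset.sum_filter_of_ne (p := fun ζ => ζ ∈ B)
    (fun ζ _ hζ => by_contra fun h' => hζ (h ζ h'))]
  exact Finset.sum_subtype _ (by simp) _

/-- Parseval for the products over the `p`-regular elements. -/
theorem rg_eq_sum [Fintype G] [Fintype (IrrCharacter G)] (p : ℕ) {f f' : G → ℂ}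
    (hf : IsClassFunction G f) (hf' : IsClassFunction G f') :
    rg p f f' = ∑ ζ : IrrCharacter G, rg p f (ζ : G → ℂ) * conj (rg p f' (ζ : G → ℂ)) := by
  rw [← classInner_regPart_regPart, Core.classInner_eq_sum (regPart_isClassFunction hf)
    (regPart_isClassFunction hf')]
  simp only [rg_eq_classInner]

theorem regPart_eq_sum [Fintype G] [Fintype (IrrCharacter G)] (p : ℕ) {f : G → ℂ}
    (hf : IsClassFunction G f) :
    regPart p f = ∑ ζ : IrrCharacter G, rg p f (ζ : G → ℂ) • (ζ : G → ℂ) := by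
  conv_lhs => rw [Core.classFunction_eq_sum (regPart_isClassFunction (p := p) hf)]
  simp only [rg_eq_classInner]

end basic

section block

variable {G : Type*} [Group G] {p : ℕ} {M : Ideal AlgInt}

theorem rg_eq_zero [Fintype G] [Fact p.Prime] (hM : IsPModular p M) {B : Set (IrrCharacter G)}
    (hB : IsPBlock M B) {χ ψ : IrrCharacter G} (hχ : χ ∈ B) (hψ : ψ ∉ B) :
    rg p (χ : G → ℂ) (ψ : G → ℂ) = 0 := by
  rw [rg_def, pair_eq_zero hM hB hχ hψ, mul_zero]

theorem rg_eq_zero' [Fintype G] [Fact p.Prime] (hM : IsPModular p M) {B : Set (IrrCharacter G)}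
    (hB : IsPBlock M B) {χ ψ : IrrCharacter G} (hχ : χ ∉ B) (hψ : ψ ∈ B) :
    rg p (χ : G → ℂ) (ψ : G → ℂ) = 0 := by
  rw [rg_comm p (Core.isIrr_isCharacter χ.2) (Core.isIrr_isCharacter ψ.2),
    rg_eq_zero hM hB hψ hχ]

/-- Idempotency of the matrix `rg` on a block. -/
theorem sum_rg_mul_rg [Fintype G] [Fact p.Prime] (hM : IsPModular p M)
    {B : Set (IrrCharacter G)} [Fintype B] (hB : IsPBlock M B) {χ ψ : IrrCharacter G}
    (hχ : χ ∈ B) :
    ∑ ζ : B, rg p (χ : G → ℂ) (ζ : G → ℂ) * rg p (ζ : G → ℂ) (ψ : G → ℂ) =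
      rg p (χ : G → ℂ) (ψ : G → ℂ) := by
  have := Core.finite_irr (G := G)
  have := Fintype.ofFinite (IrrCharacter G)
  rw [rg_eq_sum p (Core.isIrr_isClassFunction χ.2) (Core.isIrr_isClassFunction ψ.2),
    sum_eq_sum_coe B]
  · exact Finset.sum_congr rfl fun ζ _ => by rw [conj_rg]
  · intro ζ hζ
    rw [rg_eq_zero hM hB hχ hζ, zero_mul]

theorem regPart_eq_sum_block [Fintype G] [Fact p.Prime] (hM : IsPModular p M)
    {B : Set (IrrCharacter G)} [Fintype B] (hB : IsPBlock M B) {χ : IrrCharacter G}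
    (hχ : χ ∈ B) :
    regPart p (χ : G → ℂ) = ∑ ζ : B, rg p (χ : G → ℂ) (ζ : G → ℂ) • (ζ : G → ℂ) := by
  have := Core.finite_irr (G := G)
  have := Fintype.ofFinite (IrrCharacter G)
  rw [regPart_eq_sum p (Core.isIrr_isClassFunction χ.2), sum_eq_sum_coe B]
  intro ζ hζ
  rw [rg_eq_zero hM hB hχ hζ, zero_smul]

theorem pRegularPart_eq_regPart (p : ℕ) (f : G → ℂ) : pRegularPart p f = regPart p f := by
  funext x
  unfold pRegularPart regPart IsPRegular
  by_cases h : p ∣ orderOf x <;> simp [h]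

theorem regPart_regPart (p : ℕ) (f : G → ℂ) : regPart p (regPart p f) = regPart p f := by
  funext x
  by_cases h : p ∣ orderOf x
  · rw [regPart_of_dvd h, regPart_of_dvd h]
  · rw [regPart_of_not_dvd h]

theorem regPart_sum_smul (p : ℕ) {ι : Type*} (s : Finset ι) (c : ι → ℂ) (f : ι → G → ℂ) :
    regPart p (∑ i ∈ s, c i • f i) = ∑ i ∈ s, c i • regPart p (f i) := by
  funext x
  rw [Finset.sum_apply]
  by_cases h : p ∣ orderOf x
  · rw [regPart_of_dvd h]
    symm
    refine Finset.sum_eq_zero fun i _ => ?_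
    rw [Pi.smul_apply, regPart_of_dvd h, smul_zero]
  · rw [regPart_of_not_dvd h, Finset.sum_apply]
    refine Finset.sum_congr rfl fun i _ => ?_
    rw [Pi.smul_apply, Pi.smul_apply, regPart_of_not_dvd h]

/-- The restrictions to the `p`-regular elements satisfy `χ° = ∑ rg χ ζ • ζ°`. -/
theorem regPart_eq_sum_regPart [Fintype G] [Fact p.Prime] (hM : IsPModular p M)
    {B : Set (IrrCharacter G)} [Fintype B] (hB : IsPBlock M B) {χ : IrrCharacter G}
    (hχ : χ ∈ B) :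
    regPart p (χ : G → ℂ) =
      ∑ ζ : B, rg p (χ : G → ℂ) (ζ : G → ℂ) • regPart p (ζ : G → ℂ) := by
  rw [← regPart_sum_smul, ← regPart_eq_sum_block hM hB hχ, regPart_regPart]

/-- The trace of the matrix `rg` on a block is the `p`-regular rank of the block. -/
theorem sum_rg_self [Fintype G] [Fact p.Prime] (hM : IsPModular p M)
    {B : Set (IrrCharacter G)} [Fintype B] (hB : IsPBlock M B) :
    ∑ ζ : B, rg p (ζ : G → ℂ) (ζ : G → ℂ) = blockRank p B := by
  classical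
  let T : Matrix B B ℂ := fun η ζ => rg p (ζ : G → ℂ) (η : G → ℂ)
  let v : B → (G → ℂ) := fun ζ => regPart p (ζ : G → ℂ)
  let Φ : (B → ℂ) →ₗ[ℂ] (G → ℂ) := Fintype.linearCombination ℂ v
  let P : (B → ℂ) →ₗ[ℂ] (B → ℂ) := Matrix.toLin' T
  have hPapp : ∀ (c : B → ℂ) (η : B), P c η = ∑ ζ : B, rg p (ζ : G → ℂ) (η : G → ℂ) * c ζ := by
    intro c η
    rw [Matrix.toLin'_apply]
    rfl
  have hΦapp : ∀ c : B → ℂ, Φ c = ∑ ζ : B, c ζ • v ζ := fun c => by
    simp [Φ, Fintype.linearCombination_apply]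
  have h1 : Φ ∘ₗ P = Φ := by
    apply LinearMap.ext
    intro c
    rw [LinearMap.comp_apply, hΦapp, hΦapp]
    simp only [hPapp, Finset.sum_smul]
    rw [Finset.sum_comm]
    refine Finset.sum_congr rfl fun ζ _ => ?_
    have h2 : v ζ = ∑ η : B, rg p (ζ : G → ℂ) (η : G → ℂ) • v η :=
      regPart_eq_sum_regPart hM hB ζ.2
    conv_rhs => rw [h2, Finset.smul_sum]
    exact Finset.sum_congr rfl fun η _ => by rw [smul_smul, mul_comm]
  -- the other map
  let Ψ : (G → ℂ) →ₗ[ℂ] (B → ℂ) :=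
    { toFun := fun f η => classInner f (η : G → ℂ)
      map_add' := fun f f' => by
        funext η
        exact Core.classInner_add_left f f' _
      map_smul' := fun c f => by
        funext η
        exact Core.classInner_smul_left c f _ }
  have hΨ : ∀ (f : G → ℂ) (η : B), Ψ f η = classInner f (η : G → ℂ) := fun _ _ => rfl
  have h2 : Ψ ∘ₗ Φ = P := by
    apply LinearMap.ext
    intro c
    funext η
    rw [LinearMap.comp_apply, hΨ, hΦapp, hPapp, Core.classInner_sum_left]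
    refine Finset.sum_congr rfl fun ζ _ => ?_
    rw [Core.classInner_smul_left, rg_eq_classInner, mul_comm]
  have h3 : IsIdempotentElem P := by
    change P ∘ₗ P = P
    conv_lhs => rw [← h2, LinearMap.comp_assoc, h2, h1]
    exact h2
  have h4 : LinearMap.trace ℂ _ P = (Module.finrank ℂ (LinearMap.range P) : ℂ) :=
    ((LinearMap.isProj_range_iff_isIdempotentElem P).2 h3).trace
  have h5 : LinearMap.trace ℂ _ P = ∑ ζ : B, rg p (ζ : G → ℂ) (ζ : G → ℂ) := by
    rw [Matrix.trace_toLin'_eq]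
    rfl
  rw [← h5, h4]
  congr 1
  -- ranks
  have h6 : LinearMap.range P = (LinearMap.range Φ).map Ψ := by
    rw [← h2, LinearMap.range_comp]
  have h7 : Function.Injective (Ψ.domRestrict (LinearMap.range Φ)) := by
    rw [injective_iff_map_eq_zero]
    rintro ⟨f, ⟨c, rfl⟩⟩ hf
    have h8 : Ψ (Φ c) = 0 := hf
    have h9 : P c = 0 := by rw [← h2]; exact h8
    have h10 : Φ c = 0 := by
      rw [← h1, LinearMap.comp_apply, h9, map_zero]
    exact Subtype.ext h10
  have h8 : Module.finrank ℂ ((LinearMap.range Φ).map Ψ) = Module.finrank ℂ (LinearMap.range Φ) := by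
    have h9 := LinearMap.finrank_range_of_inj h7
    rw [LinearMap.range_domRestrict] at h9
    exact h9
  rw [h6, h8]
  unfold blockRank
  have h9 : LinearMap.range Φ =
      Submodule.span ℂ ((fun χ : IrrCharacter G => pRegularPart p (χ : G → ℂ)) '' B) := by
    rw [Fintype.range_linearCombination]
    congr 1
    ext f
    constructor
    · rintro ⟨ζ, rfl⟩
      exact ⟨ζ, ζ.2, pRegularPart_eq_regPart p _⟩
    · rintro ⟨ζ, hζ, rfl⟩
      exact ⟨⟨ζ, hζ⟩, (pRegularPart_eq_regPart p _).symm⟩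
  rw [h9]

end block

section padic

variable {G : Type*} [Group G] {p : ℕ} {M : Ideal AlgInt}

/-- If `k / p ^ t` is a local integer then `p ^ t` divides `k`. -/
theorem pow_dvd_of_memLocalRing (hM : IsPModular p M) (t : ℕ) {k : ℤ}
    (h : MemLocalRing M ((k : ℂ) / (p : ℂ) ^ t)) : (p : ℤ) ^ t ∣ k := by
  have := isPrime_of_isPModular hM
  have hp0 : (p : ℂ) ≠ 0 := by exact_mod_cast hM.1.ne_zero
  induction t generalizing k with
  | zero => simp
  | succ t ih =>
    have h1 : (k : ℂ) / (p : ℂ) ^ t = (p : ℂ) * ((k : ℂ) / (p : ℂ) ^ (t + 1)) := by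
      rw [pow_succ]
      field_simp
    have h2 : MemLocalIdeal M ((k : ℂ) / (p : ℂ) ^ t) := by
      rw [h1]
      exact memLocalIdeal_mul_right (memLocalIdeal_p hM) h
    obtain ⟨k', rfl⟩ := ih (memLocalRing_of_memLocalIdeal h2)
    have h3 : ((((p : ℤ) ^ t * k' : ℤ)) : ℂ) / (p : ℂ) ^ t = (k' : ℂ) := by
      push_cast
      field_simp
    rw [h3, memLocalIdeal_intCast_iff hM] at h2
    rw [pow_succ]
    exact mul_dvd_mul_left _ h2

theorem sInf_le_factorization_card [Finite G] {B : Set (IrrCharacter G)} (hB : B.Nonempty) :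
    sInf ((fun ψ : IrrCharacter G => (charDegree (ψ : G → ℂ)).factorization p) '' B) ≤
      (Nat.card G).factorization p := by
  obtain ⟨ψ, hψ⟩ := hB
  refine (Nat.sInf_le (Set.mem_image_of_mem
    (fun ψ : IrrCharacter G => (charDegree (ψ : G → ℂ)).factorization p) hψ)).trans ?_
  exact (Nat.factorization_le_iff_dvd (by
    obtain ⟨n, hn, h⟩ := Core.isIrr_apply_one ψ.2
    rw [charDegree_eq h]
    exact hn.ne') Nat.card_pos.ne').2 (Blocks.Knorr.charDegree_dvd ψ.2) p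

theorem defect_add_le [Finite G] {B : Set (IrrCharacter G)} {ψ : IrrCharacter G} (hψ : ψ ∈ B) :
    (Nat.card G).factorization p ≤
      blockDefect p B + (charDegree (ψ : G → ℂ)).factorization p := by
  have h1 := sInf_le_factorization_card (p := p) (G := G) ⟨ψ, hψ⟩
  have h2 : sInf ((fun ψ : IrrCharacter G => (charDegree (ψ : G → ℂ)).factorization p) '' B) ≤
    (charDegree (ψ : G → ℂ)).factorization p := Nat.sInf_le ⟨ψ, hψ, rfl⟩
  unfold blockDefect
  omega

theorem defect_add_eq [Finite G] {B : Set (IrrCharacter G)} {ψ : IrrCharacter G} (hψ : ψ ∈ B)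
    (h0 : blockHeight p B (ψ : G → ℂ) = 0) :
    blockDefect p B + (charDegree (ψ : G → ℂ)).factorization p = (Nat.card G).factorization p := by
  have h1 := sInf_le_factorization_card (p := p) (G := G) ⟨ψ, hψ⟩
  have h2 : sInf ((fun ψ : IrrCharacter G => (charDegree (ψ : G → ℂ)).factorization p) '' B) ≤
    (charDegree (ψ : G → ℂ)).factorization p := Nat.sInf_le ⟨ψ, hψ, rfl⟩
  unfold blockHeight at h0
  unfold blockDefect
  omega

/-- General heights. -/
theorem defect_add_eq_add [Finite G] {B : Set (IrrCharacter G)} {ψ : IrrCharacter G} (hψ : ψ ∈ B) :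
    blockDefect p B + (charDegree (ψ : G → ℂ)).factorization p =
      (Nat.card G).factorization p + blockHeight p B (ψ : G → ℂ) := by
  have h1 := sInf_le_factorization_card (p := p) (G := G) ⟨ψ, hψ⟩
  have h2 : sInf ((fun ψ : IrrCharacter G => (charDegree (ψ : G → ℂ)).factorization p) '' B) ≤
    (charDegree (ψ : G → ℂ)).factorization p := Nat.sInf_le ⟨ψ, hψ, rfl⟩
  unfold blockHeight blockDefect
  omega

theorem memLocalRing_natCast_mul_inv (hM : IsPModular p M) {n m : ℕ} (hm : m ≠ 0)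
    (h : m.factorization p ≤ n.factorization p) : MemLocalRing M ((n : ℂ) / (m : ℂ)) :=
  memLocalRing_natCast_div hM hm h

theorem apply_one_eq_charDegree (ψ : IrrCharacter G) :
    (ψ : G → ℂ) 1 = (charDegree (ψ : G → ℂ) : ℂ) := by
  obtain ⟨n, hn, h⟩ := Core.isIrr_apply_one ψ.2
  rw [charDegree_eq h, h]

theorem charDegree_ne_zero (ψ : IrrCharacter G) : charDegree (ψ : G → ℂ) ≠ 0 := by
  obtain ⟨n, hn, h⟩ := Core.isIrr_apply_one ψ.2
  rw [charDegree_eq h]
  exact hn.ne'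

/-- `p ^ d * ψ 1 / |G|` is a local integer. -/
theorem memLocalRing_defect_mul_div [Finite G] (hM : IsPModular p M) {B : Set (IrrCharacter G)}
    {ψ : IrrCharacter G} (hψ : ψ ∈ B) :
    MemLocalRing M ((p : ℂ) ^ blockDefect p B * (ψ : G → ℂ) 1 / (Nat.card G : ℂ)) := by
  have hp := hM.1
  have h1 : (p : ℂ) ^ blockDefect p B * (ψ : G → ℂ) 1 =
      ((p ^ blockDefect p B * charDegree (ψ : G → ℂ) : ℕ) : ℂ) := by
    rw [apply_one_eq_charDegree]
    push_cast
    ring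
  rw [h1]
  refine memLocalRing_natCast_div hM Nat.card_pos.ne' ?_
  rw [Nat.factorization_mul (pow_ne_zero _ hp.ne_zero) (charDegree_ne_zero ψ),
    Nat.factorization_pow]
  simp only [Finsupp.add_apply, Finsupp.smul_apply, smul_eq_mul, hp.factorization_self, mul_one]
  exact defect_add_le hψ

/-- For `ψ` of height zero, `|G| / (p ^ d * ψ 1)` is a local integer. -/
theorem memLocalRing_card_div_defect [Finite G] (hM : IsPModular p M) {B : Set (IrrCharacter G)}
    {ψ : IrrCharacter G} (hψ : ψ ∈ B) (h0 : blockHeight p B (ψ : G → ℂ) = 0) :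
    MemLocalRing M ((Nat.card G : ℂ) / ((p : ℂ) ^ blockDefect p B * (ψ : G → ℂ) 1)) := by
  have hp := hM.1
  have h1 : (p : ℂ) ^ blockDefect p B * (ψ : G → ℂ) 1 =
      ((p ^ blockDefect p B * charDegree (ψ : G → ℂ) : ℕ) : ℂ) := by
    rw [apply_one_eq_charDegree]
    push_cast
    ring
  rw [h1]
  refine memLocalRing_natCast_div hM
    (mul_ne_zero (pow_ne_zero _ hp.ne_zero) (charDegree_ne_zero ψ)) ?_
  rw [Nat.factorization_mul (pow_ne_zero _ hp.ne_zero) (charDegree_ne_zero ψ),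
    Nat.factorization_pow]
  simp only [Finsupp.add_apply, Finsupp.smul_apply, smul_eq_mul, hp.factorization_self, mul_one]
  exact (defect_add_eq hψ h0).le

theorem not_memLocalIdeal_defect_mul_div [Finite G] (hM : IsPModular p M)
    {B : Set (IrrCharacter G)} {ψ : IrrCharacter G} (hψ : ψ ∈ B)
    (h0 : blockHeight p B (ψ : G → ℂ) = 0) :
    ¬ MemLocalIdeal M ((p : ℂ) ^ blockDefect p B * (ψ : G → ℂ) 1 / (Nat.card G : ℂ)) := by
  have := isPrime_of_isPModular hM
  intro h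
  have h1 := memLocalIdeal_mul_right h (memLocalRing_card_div_defect hM hψ h0)
  have hp0 : (p : ℂ) ≠ 0 := by exact_mod_cast hM.1.ne_zero
  have hG : (Nat.card G : ℂ) ≠ 0 := by exact_mod_cast Nat.card_pos.ne'
  have hψ1 := apply_one_ne_zero ψ
  have h2 : (p : ℂ) ^ blockDefect p B * (ψ : G → ℂ) 1 / (Nat.card G : ℂ) *
      ((Nat.card G : ℂ) / ((p : ℂ) ^ blockDefect p B * (ψ : G → ℂ) 1)) = 1 := by
    field_simp
  rw [h2] at h1
  exact not_memLocalIdeal_one h1

theorem pow_mul_rg_eq [Fintype G] (p : ℕ) (d : ℕ) (ξ : IrrCharacter G) (η : G → ℂ) :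
    (p : ℂ) ^ d * rg p (ξ : G → ℂ) η =
      ((p : ℂ) ^ d * (ξ : G → ℂ) 1 / (Nat.card G : ℂ)) *
        (pair p (ξ : G → ℂ) η / (ξ : G → ℂ) 1) := by
  have hG : (Nat.card G : ℂ) ≠ 0 := by exact_mod_cast Nat.card_pos.ne'
  have hξ1 := apply_one_ne_zero ξ
  rw [rg_def]
  field_simp

theorem memLocalRing_pow_mul_rg [Fintype G] (hM : IsPModular p M) {B : Set (IrrCharacter G)}
    {ξ : IrrCharacter G} (hξ : ξ ∈ B) {η : G → ℂ} (hη : IsCharacter G η) :
    MemLocalRing M ((p : ℂ) ^ blockDefect p B * rg p (ξ : G → ℂ) η) := by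
  have := isPrime_of_isPModular hM
  rw [pow_mul_rg_eq]
  exact memLocalRing_mul (memLocalRing_defect_mul_div hM hξ) (memLocalRing_pair_div hM ξ.2 hη)

theorem exists_int_card_mul_rg [Fintype G] [Fact p.Prime] (ξ η : IrrCharacter G) :
    ∃ k : ℤ, (p : ℂ) ^ (Nat.card G).factorization p * rg p (ξ : G → ℂ) (η : G → ℂ) = k := by
  have := Core.finite_irr (G := G)
  have := Fintype.ofFinite (IrrCharacter G)
  obtain ⟨m, hm⟩ := Core.isGeneralizedCharacter_iff.1 (S0961.result p ξ)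
  refine ⟨m η, ?_⟩
  rw [← Core.classInner_sum_zsmul_irr m η, ← hm, rg_eq_classInner, ← Core.classInner_smul_left]
  congr 1
  funext x
  rw [Pi.smul_apply]
  by_cases h : p ∣ orderOf x
  · rw [regPart_of_dvd h, if_pos h, smul_zero]
  · rw [regPart_of_not_dvd h, if_neg h, smul_eq_mul]
    push_cast
    ring

/-- `p ^ d * rg p ξ η` is a rational integer for `ξ`, `η` in a block of defect `d`. -/
theorem exists_int_rg [Fintype G] [Fact p.Prime] (hM : IsPModular p M)
    {B : Set (IrrCharacter G)} {ξ : IrrCharacter G} (hξ : ξ ∈ B) (η : IrrCharacter G) :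
    ∃ k : ℤ, (p : ℂ) ^ blockDefect p B * rg p (ξ : G → ℂ) (η : G → ℂ) = k := by
  obtain ⟨k, hk⟩ := exists_int_card_mul_rg (p := p) ξ η
  have hp0 : (p : ℂ) ≠ 0 := by exact_mod_cast hM.1.ne_zero
  have hle : blockDefect p B ≤ (Nat.card G).factorization p := Nat.sub_le _ _
  obtain ⟨t, ht⟩ := Nat.exists_eq_add_of_le hle
  have h1 : (p : ℂ) ^ blockDefect p B * rg p (ξ : G → ℂ) (η : G → ℂ) = (k : ℂ) / (p : ℂ) ^ t := by
    rw [← hk, ht, pow_add]
    field_simp
  have h2 := memLocalRing_pow_mul_rg hM hξ (Core.isIrr_isCharacter η.2)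
  rw [h1] at h2
  obtain ⟨k', rfl⟩ := pow_dvd_of_memLocalRing hM t h2
  refine ⟨k', ?_⟩
  rw [h1]
  push_cast
  field_simp

/-- The congruence for the normalised products. -/
theorem memLocalIdeal_rg_sub [Fintype G] (hM : IsPModular p M)
    {B : Set (IrrCharacter G)} (hB : IsPBlock M B) {ξ₀ ξ η : IrrCharacter G} (hξ₀ : ξ₀ ∈ B)
    (h0 : blockHeight p B (ξ₀ : G → ℂ) = 0) (hξ : ξ ∈ B) (hη : η ∈ B) :
    MemLocalIdeal M ((p : ℂ) ^ blockDefect p B * rg p (ξ : G → ℂ) (η : G → ℂ) -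
      ((p : ℂ) ^ blockDefect p B * rg p (ξ₀ : G → ℂ) (ξ₀ : G → ℂ)) *
        ((ξ : G → ℂ) 1 / (ξ₀ : G → ℂ) 1) * ((η : G → ℂ) 1 / (ξ₀ : G → ℂ) 1)) := by
  have := isPrime_of_isPModular hM
  have hξc := Core.isIrr_isCharacter ξ.2
  have hηc := Core.isIrr_isCharacter η.2
  have hξ₀c := Core.isIrr_isCharacter ξ₀.2
  have hp0 : (p : ℂ) ≠ 0 := by exact_mod_cast hM.1.ne_zero
  have hG : (Nat.card G : ℂ) ≠ 0 := by exact_mod_cast Nat.card_pos.ne'
  have e1 := apply_one_ne_zero ξ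
  have e2 := apply_one_ne_zero η
  have e3 := apply_one_ne_zero ξ₀
  set s : ℂ := (p : ℂ) ^ blockDefect p B * (ξ₀ : G → ℂ) 1 / (Nat.card G : ℂ) with hs
  have hsR : MemLocalRing M s := memLocalRing_defect_mul_div hM hξ₀
  have hδξ := memLocalRing_degree_div hM h0 hξ
  have hδη := memLocalRing_degree_div hM h0 hη
  have c1 := pair_div_sub_pair_div hM ξ.2 ξ₀.2 hηc (sameBlock_of_mem hM hB hξ hξ₀)
  have c2 := pair_div_sub_pair_div hM η.2 ξ₀.2 hξ₀c (sameBlock_of_mem hM hB hη hξ₀)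
  have hcomm : pair p (ξ₀ : G → ℂ) (η : G → ℂ) = pair p (η : G → ℂ) (ξ₀ : G → ℂ) :=
    pair_comm p (Core.isCharacter_apply_inv hξ₀c) (Core.isCharacter_apply_inv hηc)
  have c3 : MemLocalIdeal M (s * ((ξ : G → ℂ) 1 / (ξ₀ : G → ℂ) 1) *
      (pair p (ξ : G → ℂ) (η : G → ℂ) / (ξ : G → ℂ) 1 -
        pair p (ξ₀ : G → ℂ) (η : G → ℂ) / (ξ₀ : G → ℂ) 1)) :=
    memLocalIdeal_mul_left (memLocalRing_mul hsR hδξ) c1
  have c4 : MemLocalIdeal M (s * ((ξ : G → ℂ) 1 / (ξ₀ : G → ℂ) 1) *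
      ((η : G → ℂ) 1 / (ξ₀ : G → ℂ) 1) * (pair p (η : G → ℂ) (ξ₀ : G → ℂ) / (η : G → ℂ) 1 -
        pair p (ξ₀ : G → ℂ) (ξ₀ : G → ℂ) / (ξ₀ : G → ℂ) 1)) :=
    memLocalIdeal_mul_left (memLocalRing_mul (memLocalRing_mul hsR hδξ) hδη) c2
  have h := memLocalIdeal_add c3 c4
  have e : (p : ℂ) ^ blockDefect p B * rg p (ξ : G → ℂ) (η : G → ℂ) -
      ((p : ℂ) ^ blockDefect p B * rg p (ξ₀ : G → ℂ) (ξ₀ : G → ℂ)) *
        ((ξ : G → ℂ) 1 / (ξ₀ : G → ℂ) 1) * ((η : G → ℂ) 1 / (ξ₀ : G → ℂ) 1) =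
      s * ((ξ : G → ℂ) 1 / (ξ₀ : G → ℂ) 1) *
      (pair p (ξ : G → ℂ) (η : G → ℂ) / (ξ : G → ℂ) 1 -
        pair p (ξ₀ : G → ℂ) (η : G → ℂ) / (ξ₀ : G → ℂ) 1) +
      s * ((ξ : G → ℂ) 1 / (ξ₀ : G → ℂ) 1) *
      ((η : G → ℂ) 1 / (ξ₀ : G → ℂ) 1) * (pair p (η : G → ℂ) (ξ₀ : G → ℂ) / (η : G → ℂ) 1 -
        pair p (ξ₀ : G → ℂ) (ξ₀ : G → ℂ) / (ξ₀ : G → ℂ) 1) := by
    rw [hcomm, hs, rg_def, rg_def]
    field_simp
    ring
  rw [e]
  exact h

theorem not_memLocalIdeal_rg_self [Fintype G] [Fact p.Prime] (hM : IsPModular p M)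
    {B : Set (IrrCharacter G)} (hB : IsPBlock M B) {ξ₀ : IrrCharacter G} (hξ₀ : ξ₀ ∈ B)
    (h0 : blockHeight p B (ξ₀ : G → ℂ) = 0) :
    ¬ MemLocalIdeal M ((p : ℂ) ^ blockDefect p B * rg p (ξ₀ : G → ℂ) (ξ₀ : G → ℂ)) := by
  have := isPrime_of_isPModular hM
  rw [pow_mul_rg_eq]
  intro h
  rcases memLocalIdeal_or_of_mul (memLocalRing_defect_mul_div hM hξ₀)
    (memLocalRing_pair_div hM ξ₀.2 (Core.isIrr_isCharacter ξ₀.2)) h with h | h
  · exact not_memLocalIdeal_defect_mul_div hM hξ₀ h0 h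
  · exact not_memLocalIdeal_pair_div hM hB hξ₀ h0 hξ₀ h

end padic

end Cfsg.Agent.H613.RegGram
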