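import Mathlib
import Cfsg.Agent.H613.Contrib
import Cfsg.Agent.Blocks.ClassSum
import Cfsg.Agent.S0908

/-!
# Values of contributions modulo `M`
-/

set_option autoImplicit false
set_option linter.unusedSectionVars false

open Cfsg
open scoped ComplexConjugate

namespace Cfsg.Agent.H613.ContribVal

open Cfsg.Agent.Blocks.Blau Cfsg.Agent.Blocks.Local Cfsg.Agent.Characters
open Cfsg.Agent.H613.RegGram Cfsg.Agent.H613.Contrib
open Cfsg.Agent.Blocks.Basic (isPBlock_blockOf mem_blockOf_self isPBlock_eq_blockOf)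

section formula

variable {G : Type*} [Group G] [Finite G] {p : ℕ} [Fact p.Prime] {M : Ideal AlgInt}

/-- Multiplicities and scalars attached to `u ^ k * c`. -/
structure Exp (u : G) (H : Subgroup G) (q : ℕ) (n : IrrCharacter G → IrrCharacter H → ℕ)
    (e : IrrCharacter H → ℂ) [Fintype (IrrCharacter H)] : Prop where
  root : ∀ ξ, e ξ ^ q = 1
  expand : ∀ (ψ : IrrCharacter G) (k : ℕ) (c : H),
        (ψ : G → ℂ) (u ^ k * (c : G)) = ∑ ξ : IrrCharacter H, (n ψ ξ : ℂ) * e ξ ^ k *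
          (ξ : H → ℂ) c

theorem exists_exp {u : G} {H : Subgroup G} (hH : H = Subgroup.centralizer ({u} : Set G))
    {q : ℕ} (huq : u ^ q = 1) [Fintype (IrrCharacter H)] :
    ∃ n e, Exp u H q n e := by
  obtain ⟨n, e, h1, h2⟩ := exists_expansion hH huq
  exact ⟨n, e, h1, h2⟩

theorem pair_sum_smul_left {K : Type*} [Group K] [Fintype K] (p : ℕ) (g : K → ℂ) {ι : Type*}
    (s : Finset ι) (a : ι → ℂ) (f : ι → K → ℂ) :
    pair p (∑ i ∈ s, a i • f i) g = ∑ i ∈ s, a i * pair p (f i) g := by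
  classical
  simp only [pair_eq_sum_filter, Finset.mul_sum]
  rw [Finset.sum_comm]
  refine Finset.sum_congr rfl fun x _ => ?_
  rw [Finset.sum_apply, Finset.sum_mul]
  refine Finset.sum_congr rfl fun i _ => ?_
  rw [Pi.smul_apply, smul_eq_mul, mul_assoc]

theorem rg_sum_smul_left {K : Type*} [Group K] [Fintype K] (p : ℕ) (g : K → ℂ) {ι : Type*}
    (s : Finset ι) (a : ι → ℂ) (f : ι → K → ℂ) :
    rg p (∑ i ∈ s, a i • f i) g = ∑ i ∈ s, a i * rg p (f i) g := by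
  simp only [rg_def]
  rw [pair_sum_smul_left, Finset.mul_sum]
  exact Finset.sum_congr rfl fun i _ => by ring

variable {u : G} {H : Subgroup G} [Fintype H] [Fintype (IrrCharacter H)] {q : ℕ}
  {n : IrrCharacter G → IrrCharacter H → ℕ} {e : IrrCharacter H → ℂ}

theorem wt_eq_sum (hM : IsPModular p M) (hE : Exp u H q n e) {b : Set (IrrCharacter H)}
    [Fintype b] (hb : IsPBlock M b) (ψ : IrrCharacter G) (k : ℕ) {η : IrrCharacter H}
    (hη : η ∈ b) :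
    wt p (u ^ k) (ψ : G → ℂ) (η : H → ℂ) =
      ∑ ξ : b, (n ψ ξ : ℂ) * e ξ ^ k * rg p (ξ : H → ℂ) (η : H → ℂ) := by
  have h1 : (fun c : H => (ψ : G → ℂ) (u ^ k * (c : G))) =
      ∑ ξ : IrrCharacter H, ((n ψ ξ : ℂ) * e ξ ^ k) • (ξ : H → ℂ) := by
    funext c
    rw [hE.expand ψ k c, Finset.sum_apply]
    rfl
  rw [wt_def, h1, rg_sum_smul_left, sum_eq_sum_coe b]
  intro ξ hξ
  rw [rg_eq_zero' hM hb hξ hη, mul_zero]

theorem root_ne_zero (hE : Exp u H q n e) (hq : q ≠ 0) (ξ : IrrCharacter H) : e ξ ≠ 0 := by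
  intro h
  have := hE.root ξ
  rw [h, zero_pow hq] at this
  exact zero_ne_one this

theorem norm_root (hE : Exp u H q n e) (hq : q ≠ 0) (ξ : IrrCharacter H) : ‖e ξ‖ = 1 :=
  Complex.norm_eq_one_of_pow_eq_one (hE.root ξ) hq

theorem contr_eq_sum_wt (hM : IsPModular p M) (hE : Exp u H q n e) {b : Set (IrrCharacter H)}
    [Fintype b] (hb : IsPBlock M b) {χ : G → ℂ} (hχ : IsClassFunction G χ)
    (ψ : IrrCharacter G) {k : ℕ} (hk : H = Subgroup.centralizer ({u ^ k} : Set G)) :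
    contr p (u ^ k) b χ (ψ : G → ℂ) =
      ∑ ξ : b, (n ψ ξ : ℂ) * conj (e ξ ^ k) * wt p (u ^ k) χ (ξ : H → ℂ) := by
  rw [contr_def]
  have h1 : ∀ η : b, wt p (u ^ k) χ (η : H → ℂ) * conj (wt p (u ^ k) (ψ : G → ℂ) (η : H → ℂ)) =
      ∑ ξ : b, (n ψ ξ : ℂ) * conj (e ξ ^ k) * (wt p (u ^ k) χ (η : H → ℂ) *
        rg p (η : H → ℂ) (ξ : H → ℂ)) := by
    intro η
    rw [wt_eq_sum hM hE hb ψ k η.2, map_sum, Finset.mul_sum]
    refine Finset.sum_congr rfl fun ξ _ => ?_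
    rw [map_mul, map_mul, conj_rg, Complex.conj_natCast]
    ring
  rw [Finset.sum_congr rfl fun η _ => h1 η, Finset.sum_comm]
  refine Finset.sum_congr rfl fun ξ _ => ?_
  rw [← Finset.mul_sum, sum_wt_mul_rg hM hk hb hχ ξ.2]

/-- The contribution in terms of multiplicities and scalars. -/
theorem contr_eq_sum (hM : IsPModular p M) (hE : Exp u H q n e) {b : Set (IrrCharacter H)}
    [Fintype b] (hb : IsPBlock M b) (χ ψ : IrrCharacter G) {k : ℕ}
    (hk : H = Subgroup.centralizer ({u ^ k} : Set G)) :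
    contr p (u ^ k) b (χ : G → ℂ) (ψ : G → ℂ) =
      ∑ ξ : b, ∑ η : b, (n χ ξ : ℂ) * (n ψ η : ℂ) * (e ξ * conj (e η)) ^ k *
        rg p (ξ : H → ℂ) (η : H → ℂ) := by
  rw [contr_eq_sum_wt hM hE hb (Core.isIrr_isClassFunction χ.2) ψ hk]
  have h1 : ∀ η : b, (n ψ η : ℂ) * conj (e η ^ k) * wt p (u ^ k) (χ : G → ℂ) (η : H → ℂ) =
      ∑ ξ : b, (n χ ξ : ℂ) * (n ψ η : ℂ) * (e ξ * conj (e η)) ^ k *
        rg p (ξ : H → ℂ) (η : H → ℂ) := by
    intro η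
    rw [wt_eq_sum hM hE hb χ k η.2, Finset.mul_sum]
    refine Finset.sum_congr rfl fun ξ _ => ?_
    rw [mul_pow, map_pow]
    ring
  rw [Finset.sum_congr rfl fun η _ => h1 η, Finset.sum_comm]

theorem wt_one_eq (ψ : G → ℂ) (η : H → ℂ) :
    wt p (1 : G) ψ η = rg p (fun c : H => ψ (c : G)) η := by
  rw [wt_def]
  simp only [one_mul]

/-- `p ^ d * wt` in terms of the degrees, for a block `b` inducing `B`. -/
theorem not_memLocalIdeal_pow_mul_wt_one [Fintype G] (hM : IsPModular p M)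
    {b : Set (IrrCharacter H)} {B : Set (IrrCharacter G)} (hind : IsInducedBlock M H b B)
    {χ : IrrCharacter G} (hχ : χ ∈ B) (h0 : blockHeight p B (χ : G → ℂ) = 0)
    {ξ₀ : IrrCharacter H} (hξ₀ : ξ₀ ∈ b) (hξ₀0 : blockHeight p b (ξ₀ : H → ℂ) = 0) :
    ¬ MemLocalIdeal M ((p : ℂ) ^ blockDefect p b * wt p (1 : G) (χ : G → ℂ) (ξ₀ : H → ℂ)) := by
  have := isPrime_of_isPModular hM
  have hχc := Core.isIrr_isCharacter χ.2
  have hres : IsCharacter H (fun c : H => (χ : G → ℂ) c) := Core.isCharacter_comp H.subtype hχc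
  rw [wt_one_eq, rg_comm p hres (Core.isIrr_isCharacter ξ₀.2), pow_mul_rg_eq]
  have h1 := pair_div_sub_pair_div_of_induced hM hind hξ₀ hχ hχc
  have h2 := not_memLocalIdeal_pair_div hM hind.2.1 hχ h0 hχ
  have h3 : ¬ MemLocalIdeal M (pair p (ξ₀ : H → ℂ) (fun c : H => (χ : G → ℂ) c) /
      (ξ₀ : H → ℂ) 1) := fun h => h2 ((memLocalIdeal_iff_of_sub h1).1 h)
  intro h
  rcases memLocalIdeal_or_of_mul (memLocalRing_defect_mul_div hM hξ₀)
    (memLocalRing_pair_div hM ξ₀.2 hres) h with h | h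
  · exact not_memLocalIdeal_defect_mul_div hM hξ₀ hξ₀0 h
  · exact h3 h

/-- The normalised degree of the `b`-part of the restriction of `ψ`. -/
noncomputable def dg (n : IrrCharacter G → IrrCharacter H → ℕ) (b : Set (IrrCharacter H))
    [Fintype b] (ξ₀ : H → ℂ) (ψ : IrrCharacter G) : ℂ :=
  ∑ ξ : b, (n ψ ξ : ℂ) * ((ξ : H → ℂ) 1 / ξ₀ 1)

theorem dg_def (b : Set (IrrCharacter H)) [Fintype b] (ξ₀ : H → ℂ) (ψ : IrrCharacter G) :
    dg n b ξ₀ ψ = ∑ ξ : b, (n ψ ξ : ℂ) * ((ξ : H → ℂ) 1 / ξ₀ 1) := rfl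

theorem memLocalRing_dg (hM : IsPModular p M) {b : Set (IrrCharacter H)} [Fintype b]
    {ξ₀ : IrrCharacter H} (hξ₀0 : blockHeight p b (ξ₀ : H → ℂ) = 0) (ψ : IrrCharacter G) :
    MemLocalRing M (dg n b (ξ₀ : H → ℂ) ψ) := by
  have := isPrime_of_isPModular hM
  exact memLocalRing_sum fun ξ _ => memLocalRing_mul (memLocalRing_natCast _)
    (memLocalRing_degree_div hM hξ₀0 ξ.2)

/-- `e ξ ≡ 1`. -/
theorem memLocalIdeal_root_pow_sub_one (hM : IsPModular p M) {j : ℕ} (hE : Exp u H (p ^ j) n e)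
    (ξ : IrrCharacter H) (k : ℕ) : MemLocalIdeal M (e ξ ^ k - 1) := by
  refine memLocalIdeal_root_sub_one hM (j := j) ?_
  rw [← pow_mul, mul_comm, pow_mul, hE.root, one_pow]

theorem memLocalRing_root (hM : IsPModular p M) {j : ℕ} (hE : Exp u H (p ^ j) n e)
    (ξ : IrrCharacter H) : MemLocalRing M (e ξ) := by
  have := isPrime_of_isPModular hM
  refine memLocalRing_of_isIntegral (IsIntegral.of_pow (pow_pos hM.1.pos j) ?_)
  rw [hE.root]
  exact isIntegral_one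

/-- `p ^ d * wt (u ^ k) ψ η ≡ κ * dg ψ * (η 1 / ξ₀ 1)`. -/
theorem memLocalIdeal_wt_sub (hM : IsPModular p M) {j : ℕ} (hE : Exp u H (p ^ j) n e)
    {b : Set (IrrCharacter H)} [Fintype b] (hb : IsPBlock M b) {ξ₀ : IrrCharacter H}
    (hξ₀ : ξ₀ ∈ b) (hξ₀0 : blockHeight p b (ξ₀ : H → ℂ) = 0) (ψ : IrrCharacter G) (k : ℕ)
    {η : IrrCharacter H} (hη : η ∈ b) :
    MemLocalIdeal M ((p : ℂ) ^ blockDefect p b * wt p (u ^ k) (ψ : G → ℂ) (η : H → ℂ) -
      ((p : ℂ) ^ blockDefect p b * rg p (ξ₀ : H → ℂ) (ξ₀ : H → ℂ)) * dg n b (ξ₀ : H → ℂ) ψ *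
        ((η : H → ℂ) 1 / (ξ₀ : H → ℂ) 1)) := by
  have := isPrime_of_isPModular hM
  rw [wt_eq_sum hM hE hb ψ k hη, dg_def, Finset.mul_sum, Finset.mul_sum, Finset.sum_mul]
  refine memLocalIdeal_sum_sub_sum fun ξ _ => ?_
  have h1 := memLocalIdeal_rg_sub hM hb hξ₀ hξ₀0 ξ.2 hη
  have h2 := memLocalIdeal_root_pow_sub_one hM hE (ξ : IrrCharacter H) k
  have h3 := memLocalRing_pow_mul_rg hM (B := b) ξ.2 (Core.isIrr_isCharacter η.2)
  have h4 := memLocalIdeal_mul_left (memLocalRing_natCast (M := M) (n ψ ξ))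
    (memLocalIdeal_add (memLocalIdeal_mul_right h2 h3) h1)
  convert h4 using 1
  ring

theorem not_memLocalIdeal_dg [Fintype G] (hM : IsPModular p M) {j : ℕ}
    (hE : Exp u H (p ^ j) n e)
    {b : Set (IrrCharacter H)} [Fintype b] {B : Set (IrrCharacter G)}
    (hind : IsInducedBlock M H b B) {ξ₀ : IrrCharacter H} (hξ₀ : ξ₀ ∈ b)
    (hξ₀0 : blockHeight p b (ξ₀ : H → ℂ) = 0) {χ : IrrCharacter G} (hχ : χ ∈ B)
    (h0 : blockHeight p B (χ : G → ℂ) = 0) :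
    ¬ MemLocalIdeal M (dg n b (ξ₀ : H → ℂ) χ) := by
  have := isPrime_of_isPModular hM
  intro h
  apply not_memLocalIdeal_pow_mul_wt_one hM hind hχ h0 hξ₀ hξ₀0
  have h1 := memLocalIdeal_wt_sub hM hE hind.1 hξ₀ hξ₀0 χ 0 hξ₀
  rw [pow_zero] at h1
  rw [memLocalIdeal_iff_of_sub h1]
  refine memLocalIdeal_mul_right (memLocalIdeal_mul_left ?_ h)
    (memLocalRing_degree_div hM hξ₀0 hξ₀)
  exact memLocalRing_pow_mul_rg hM hξ₀ (Core.isIrr_isCharacter ξ₀.2)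

/-- `p ^ d * contr (u ^ k) χ ψ ≡ κ * dg χ * dg ψ`. -/
theorem memLocalIdeal_contr_sub (hM : IsPModular p M) {j : ℕ} (hE : Exp u H (p ^ j) n e)
    {b : Set (IrrCharacter H)} [Fintype b] (hb : IsPBlock M b) {ξ₀ : IrrCharacter H}
    (hξ₀ : ξ₀ ∈ b) (hξ₀0 : blockHeight p b (ξ₀ : H → ℂ) = 0) (χ ψ : IrrCharacter G) {k : ℕ}
    (hk : H = Subgroup.centralizer ({u ^ k} : Set G)) :
    MemLocalIdeal M ((p : ℂ) ^ blockDefect p b * contr p (u ^ k) b (χ : G → ℂ) (ψ : G → ℂ) -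
      ((p : ℂ) ^ blockDefect p b * rg p (ξ₀ : H → ℂ) (ξ₀ : H → ℂ)) * dg n b (ξ₀ : H → ℂ) χ *
        dg n b (ξ₀ : H → ℂ) ψ) := by
  have := isPrime_of_isPModular hM
  rw [contr_eq_sum_wt hM hE hb (Core.isIrr_isClassFunction χ.2) ψ hk, dg_def b _ ψ,
    Finset.mul_sum, Finset.mul_sum]
  refine memLocalIdeal_sum_sub_sum fun ξ _ => ?_
  have h1 := memLocalIdeal_wt_sub hM hE hb hξ₀ hξ₀0 χ k ξ.2
  -- `conj (e ξ ^ k) = e ξ ^ (k (p ^ j - 1))` is congruent to one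
  have hq : p ^ j ≠ 0 := pow_ne_zero _ hM.1.ne_zero
  have h2 : conj (e ξ ^ k) = (e ξ ^ (p ^ j - 1)) ^ k := by
    have h3 : conj (e ξ) = e ξ ^ (p ^ j - 1) := by
      have h4 : conj (e ξ) * e ξ = 1 := by
        rw [mul_comm, Complex.mul_conj, Complex.normSq_eq_norm_sq, norm_root hE hq]
        norm_num
      have h5 : e ξ ^ (p ^ j - 1) * e ξ = 1 := by
        rw [← pow_succ, Nat.sub_add_cancel (Nat.one_le_iff_ne_zero.2 hq), hE.root]
      exact mul_right_cancel₀ (root_ne_zero hE hq _) (h4.trans h5.symm)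
    rw [map_pow, h3]
  have h3 : MemLocalIdeal M (conj (e ξ ^ k) - 1) := by
    rw [h2, ← pow_mul]
    exact memLocalIdeal_root_pow_sub_one hM hE _ _
  have h5 : MemLocalRing M ((p : ℂ) ^ blockDefect p b * wt p (u ^ k) (χ : G → ℂ) (ξ : H → ℂ)) := by
    rw [memLocalRing_iff_of_sub h1]
    exact memLocalRing_mul (memLocalRing_mul
      (memLocalRing_pow_mul_rg hM hξ₀ (Core.isIrr_isCharacter ξ₀.2))
      (memLocalRing_dg hM hξ₀0 χ)) (memLocalRing_degree_div hM hξ₀0 ξ.2)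
  have h4 := memLocalIdeal_mul_left (memLocalRing_natCast (M := M) (n ψ ξ))
    (memLocalIdeal_add (memLocalIdeal_mul_right h3 h5) h1)
  convert h4 using 1
  ring

/-- Contributions of pairs of characters of height zero are units. -/
theorem not_memLocalIdeal_contr [Fintype G] (hM : IsPModular p M) {j : ℕ}
    (hE : Exp u H (p ^ j) n e) {b : Set (IrrCharacter H)} [Fintype b]
    {B : Set (IrrCharacter G)} (hind : IsInducedBlock M H b B) {χ ψ : IrrCharacter G}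
    (hχ : χ ∈ B) (hψ : ψ ∈ B) (hχ0 : blockHeight p B (χ : G → ℂ) = 0)
    (hψ0 : blockHeight p B (ψ : G → ℂ) = 0) {k : ℕ}
    (hk : H = Subgroup.centralizer ({u ^ k} : Set G)) :
    ¬ MemLocalIdeal M ((p : ℂ) ^ blockDefect p b *
      contr p (u ^ k) b (χ : G → ℂ) (ψ : G → ℂ)) := by
  have := isPrime_of_isPModular hM
  obtain ⟨ξ₀, hξ₀, hξ₀0⟩ := exists_blockHeight_eq_zero p (isPBlock_nonempty hM hind.1)
  have h1 := memLocalIdeal_contr_sub hM hE hind.1 hξ₀ hξ₀0 χ ψ hk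
  rw [memLocalIdeal_iff_of_sub h1]
  have hκ := memLocalRing_pow_mul_rg hM hξ₀ (Core.isIrr_isCharacter ξ₀.2)
  intro h
  rcases memLocalIdeal_or_of_mul (memLocalRing_mul hκ (memLocalRing_dg hM hξ₀0 χ))
    (memLocalRing_dg hM hξ₀0 ψ) h with h | h
  · rcases memLocalIdeal_or_of_mul hκ (memLocalRing_dg hM hξ₀0 χ) h with h | h
    · exact not_memLocalIdeal_rg_self hM hind.1 hξ₀ hξ₀0 h
    · exact not_memLocalIdeal_dg hM hE hind hξ₀ hξ₀0 hχ hχ0 h
  · exact not_memLocalIdeal_dg hM hE hind hξ₀ hξ₀0 hψ hψ0 h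

end formula

end Cfsg.Agent.H613.ContribVal
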