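import Mathlib
import Cfsg.Agent.H639.Sec
import Cfsg.Agent.H649.ConjPair
import Cfsg.Agent.H649.PairInduced
import Cfsg.Agent.H613.ContribVal

/-!
# Complete systems of subsections of a block

`W p u b χ η` is the product of `c ↦ χ (u c)` and `η` over the `p`-regular elements of `C_G(b.1)`,
for a pair `b` with `b.1 = ⟨u⟩`.  `IsSys p M B u b`: the `(u i, b i)` are representatives of the
`G`-classes of the subsections `(u, b)`, `u ≠ 1`, of the block `B`.

* `IsSys.rg_add_sum`: `rg ψ χ + ∑ᵢ Cᵢ ψ χ = δ` on `B`;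
* `IsSys.card_eq`: `k(B) = l(B) + ∑ᵢ l(bᵢ)`;
* `IsSys.orth`: the columns of different members of the system are orthogonal.
-/

set_option autoImplicit false
set_option linter.unusedSectionVars false

open Cfsg
open scoped ComplexConjugate

namespace Cfsg.Agent.H613.SubSys

open Cfsg.Agent.Blocks.Blau Cfsg.Agent.Blocks.Local Cfsg.Agent.Characters
open Cfsg.Agent.H613.RegGram Cfsg.Agent.H613.Contrib
open Cfsg.Agent.H639 Cfsg.Agent.H649
open Cfsg.Agent.Blocks.Basic (isPBlock_blockOf mem_blockOf_self isPBlock_eq_blockOf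
  isPBlock_eq_of_mem)

universe u

variable {G : Type u} [Group G] [Finite G] {p : ℕ}

theorem centralizer_zpowers (u : G) :
    Subgroup.centralizer ((Subgroup.zpowers u : Subgroup G) : Set G) =
      Subgroup.centralizer ({u} : Set G) := by
  ext x
  rw [Subgroup.mem_centralizer_iff, Subgroup.mem_centralizer_singleton_iff]
  constructor
  · intro h
    exact (h u (Subgroup.mem_zpowers u)).symm
  · rintro h _ ⟨k, rfl⟩
    have h1 : Commute x u := h
    exact (h1.zpow_right k).symm.eq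

/-- The product at the pair `b`. -/
noncomputable def W (p : ℕ) (u : G) (b : BrauerPairIdx G) (χ : G → ℂ)
    (η : IrrCharacter (Subgroup.centralizer (b.1 : Set G))) : ℂ :=
  letI := Fintype.ofFinite (Subgroup.centralizer (b.1 : Set G))
  wt p u χ (η : Subgroup.centralizer (b.1 : Set G) → ℂ)

theorem W_eq (p : ℕ) (u : G) (b : BrauerPairIdx G) (χ : G → ℂ)
    (η : IrrCharacter (Subgroup.centralizer (b.1 : Set G)))
    [Fintype (Subgroup.centralizer (b.1 : Set G))] : W p u b χ η = wt p u χ (η : Subgroup.centralizer (b.1 : Set G) → ℂ) := by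
  have h : Fintype.ofFinite (Subgroup.centralizer (b.1 : Set G)) =
    ‹Fintype (Subgroup.centralizer (b.1 : Set G))› := Subsingleton.elim _ _
  unfold W
  rw [h]

open Classical in
theorem W_eq_sum (p : ℕ) (u : G) (b : BrauerPairIdx G) (χ : G → ℂ)
    (η : IrrCharacter (Subgroup.centralizer (b.1 : Set G)))
    [Fintype (Subgroup.centralizer (b.1 : Set G))] : W p u b χ η =
      (Nat.card (Subgroup.centralizer (b.1 : Set G)) : ℂ)⁻¹ *
      ∑ y : Subgroup.centralizer (b.1 : Set G) with ¬ p ∣ orderOf y,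
        χ (u * (y : G)) * conj ((η : _ → ℂ) y) := by
  rw [W_eq, wt_def, rg_def, pair_eq_sum_filter]

/-- The contribution of the subsection `(u, b)`. -/
noncomputable def Cn (p : ℕ) (u : G) (b : BrauerPairIdx G) (χ ψ : G → ℂ) : ℂ :=
  ∑ᶠ η ∈ b.2, W p u b χ η * conj (W p u b ψ η)

theorem Cn_eq (p : ℕ) (u : G) (b : BrauerPairIdx G) (χ ψ : G → ℂ)
    [Fintype (Subgroup.centralizer (b.1 : Set G))] [Fintype b.2] :
    Cn p u b χ ψ = contr p u b.2 χ ψ := by
  unfold Cn
  rw [contr_def, ← finsum_set_coe_eq_finsum_mem, finsum_eq_sum_of_fintype]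
  exact Finset.sum_congr rfl fun η _ => by rw [W_eq, W_eq]

theorem Cn_eq_sum (p : ℕ) (u : G) (b : BrauerPairIdx G) (χ ψ : G → ℂ) [Fintype b.2] :
    Cn p u b χ ψ = ∑ η : b.2, W p u b χ η * conj (W p u b ψ η) := by
  unfold Cn
  rw [← finsum_set_coe_eq_finsum_mem, finsum_eq_sum_of_fintype]

theorem conj_Cn (p : ℕ) (u : G) (b : BrauerPairIdx G) (χ ψ : G → ℂ) :
    conj (Cn p u b χ ψ) = Cn p u b ψ χ := by
  have := Fintype.ofFinite (Subgroup.centralizer (b.1 : Set G))
  have := Core.finite_irr (G := Subgroup.centralizer (b.1 : Set G))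
  have := Fintype.ofFinite b.2
  rw [Cn_eq, Cn_eq, conj_contr]

/-- Conjugation of a character of `C_G(b.1)`. -/
def cjI (x : G) (b : BrauerPairIdx G)
    (η : IrrCharacter (Subgroup.centralizer (b.1 : Set G))) :
    IrrCharacter (Subgroup.centralizer ((conjIdx x b).1 : Set G)) :=
  irrMap (cenIso (MulAut.conj x) b.1) η

theorem cjI_mem (x : G) (b : BrauerPairIdx G)
    (η : IrrCharacter (Subgroup.centralizer (b.1 : Set G))) :
    cjI x b η ∈ (conjIdx x b).2 ↔ η ∈ b.2 :=
  irrMap_mem_blkMap (e := cenIso (MulAut.conj x) b.1)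

theorem exists_cjI (x : G) (b : BrauerPairIdx G)
    (η : IrrCharacter (Subgroup.centralizer ((conjIdx x b).1 : Set G))) :
    ∃ η' : IrrCharacter (Subgroup.centralizer (b.1 : Set G)), cjI x b η' = η :=
  ⟨irrMap (cenIso (MulAut.conj x) b.1).symm η, irrMap_irrMap_symm _ _⟩

/-- Invariance under conjugation. -/
theorem W_conj (p : ℕ) (x u : G) (b : BrauerPairIdx G) {χ : G → ℂ} (hχ : IsClassFunction G χ)
    (η : IrrCharacter (Subgroup.centralizer (b.1 : Set G))) :
    W p (x * u * x⁻¹) (conjIdx x b) χ (cjI x b η) =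
      W p u b χ η := by
  classical
  have := Fintype.ofFinite (Subgroup.centralizer (b.1 : Set G))
  have := Fintype.ofFinite (Subgroup.centralizer ((conjIdx x b).1 : Set G))
  have e0 : (conjIdx x b).1 = b.1.map (MulAut.conj x).toMonoidHom := rfl
  let e : Subgroup.centralizer (b.1 : Set G) ≃*
      Subgroup.centralizer ((conjIdx x b).1 : Set G) := cenIso (MulAut.conj x) b.1
  rw [W_eq_sum, W_eq_sum, Nat.card_congr e.toEquiv]
  congr 1
  rw [Finset.sum_filter, Finset.sum_filter, ← Equiv.sum_comp e.toEquiv]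
  refine Finset.sum_congr rfl fun y _ => ?_
  have h1 : orderOf (e.toEquiv y) = orderOf y := MulEquiv.orderOf_eq e y
  rw [h1]
  have h2 : ((e.toEquiv y : Subgroup.centralizer ((conjIdx x b).1 : Set G)) : G) =
      x * (y : G) * x⁻¹ := rfl
  have h3 : x * u * x⁻¹ * (x * (y : G) * x⁻¹) = x * (u * (y : G)) * x⁻¹ := by group
  have h4 : (cjI x b η : Subgroup.centralizer ((conjIdx x b).1 : Set G) → ℂ) (e.toEquiv y) =
      (η : Subgroup.centralizer (b.1 : Set G) → ℂ) y :=
    irrMap_apply' (cenIso (MulAut.conj x) b.1) η y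
  rw [h2, h3, hχ, h4]

/-- `(u, b)` is a subsection of the block `B`. -/
structure IsSubsec (p : ℕ) (M : Ideal AlgInt) (B : Set (IrrCharacter G)) (u : G)
    (b : BrauerPairIdx G) : Prop where
  fst : b.1 = Subgroup.zpowers u
  pelt : ∃ k : ℕ, orderOf u = p ^ k
  ind : IsInducedBlock M (Subgroup.centralizer (b.1 : Set G)) b.2 B

variable [Fact p.Prime] {M : Ideal AlgInt} {B : Set (IrrCharacter G)}

omit [Fact p.Prime] in
theorem IsSubsec.centralizer_eq {u : G} {b : BrauerPairIdx G} (h : IsSubsec p M B u b) :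
    Subgroup.centralizer (b.1 : Set G) = Subgroup.centralizer ({u} : Set G) := by
  rw [h.fst, centralizer_zpowers]

theorem IsSubsec.isPGroup {u : G} {b : BrauerPairIdx G} (h : IsSubsec p M B u b) :
    IsPGroup p b.1 := by
  obtain ⟨k, hk⟩ := h.pelt
  rw [h.fst]
  refine IsPGroup.of_card (n := k) ?_
  rw [Nat.card_zpowers, hk]

theorem isSubsec_iff (hM : IsPModular p M) {u : G} {b : BrauerPairIdx G} (hB : IsPBlock M B) :
    IsSubsec p M B u b ↔ b.1 = Subgroup.zpowers u ∧ IsBrauerPairOf p M B b.1 b.2 := by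
  have := isPrime_of_isPModular hM
  have := Fintype.ofFinite G
  constructor
  · intro h
    exact ⟨h.fst, (isBrauerPairOf_iff_isInducedBlock hM hB h.isPGroup h.ind.1).2 h.ind⟩
  · rintro ⟨h1, h2⟩
    refine ⟨h1, ?_, (isBrauerPairOf_iff_isInducedBlock hM hB h2.1.1 h2.1.2).1 h2⟩
    have h3 := h2.1.1
    rw [h1, IsPGroup.iff_card] at h3
    obtain ⟨k, hk⟩ := h3
    rw [Nat.card_zpowers] at hk
    exact ⟨k, hk⟩

/-- Columns at different blocks of the same centralizer are orthogonal. -/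
theorem orth_of_fst_eq (hM : IsPModular p M) [Fintype B] (hB : IsPBlock M B) {u : G}
    (hu : ∃ k : ℕ, orderOf u = p ^ k) {b c : BrauerPairIdx G}
    (hb1 : b.1 = Subgroup.zpowers u) (hc1 : c.1 = b.1)
    (hb : IsPBlock M b.2) (hc : IsPBlock M c.2) (hne : b ≠ c)
    {η : IrrCharacter (Subgroup.centralizer (b.1 : Set G))} (hη : η ∈ b.2)
    {η' : IrrCharacter (Subgroup.centralizer (c.1 : Set G))} (hη' : η' ∈ c.2) :
    ∑ ψ : B, W p u b (ψ : G → ℂ) η * conj (W p u c (ψ : G → ℂ) η') = 0 := by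
  have := isPrime_of_isPModular hM
  obtain ⟨Q, f⟩ := b
  obtain ⟨Q', f'⟩ := c
  have h1 : Q' = Q := hc1
  subst h1
  have := Fintype.ofFinite (Subgroup.centralizer (Q' : Set G))
  have h2 : η' ∉ f := by
    intro h
    apply hne
    have h3 : f = f' := isPBlock_eq_of_mem hb hc h hη'
    rw [h3]
  have h4 : Subgroup.centralizer (Q' : Set G) = Subgroup.centralizer ({u} : Set G) := by
    have h5 : Q' = Subgroup.zpowers u := hb1
    rw [h5, centralizer_zpowers]
  have h6 := sum_wt_ne_block hM hu h4 hB (b := f) hb hη h2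
  rw [← h6]
  exact Finset.sum_congr rfl fun ψ _ => by rw [W_eq, W_eq]

theorem isClassFunction_coe (ψ : IrrCharacter G) : IsClassFunction G (ψ : G → ℂ) :=
  Core.isIrr_isClassFunction ψ.2

/-- Columns of non-conjugate subsections are orthogonal. -/
theorem orth_of_not_conj (hM : IsPModular p M) [Fintype B] {u v : G}
    {b c : BrauerPairIdx G} (hb : IsSubsec p M B u b) (hc : IsSubsec p M B v c)
    (hne : ¬ ∃ x : G, x * u * x⁻¹ = v ∧ conjIdx x b = c)
    {η : IrrCharacter (Subgroup.centralizer (b.1 : Set G))} (hη : η ∈ b.2)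
    {η' : IrrCharacter (Subgroup.centralizer (c.1 : Set G))} (hη' : η' ∈ c.2) :
    ∑ ψ : B, W p u b (ψ : G → ℂ) η * conj (W p v c (ψ : G → ℂ) η') = 0 := by
  have hB : IsPBlock M B := hb.ind.2.1
  by_cases hcj : IsConj u v
  · obtain ⟨x, hx⟩ := isConj_iff.1 hcj
    have h1 : ∀ ψ : B, W p u b (ψ : G → ℂ) η = W p v (conjIdx x b) (ψ : G → ℂ)
        (cjI x b η) := by
      intro ψ
      rw [← W_conj p x u b (isClassFunction_coe (ψ : IrrCharacter G)) η, hx]
    rw [Finset.sum_congr rfl fun ψ _ => by rw [h1 ψ]]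
    have h2 : (conjIdx x b).1 = Subgroup.zpowers v := by
      rw [conjIdx_fst, hb.fst, MonoidHom.map_zpowers, ← hx]
      rfl
    refine orth_of_fst_eq hM hB hc.pelt h2 (by rw [hc.fst, h2]) ?_ hc.ind.1 ?_ ?_ hη'
    · exact isPBlock_blkMap hb.ind.1
    · exact fun h => hne ⟨x, hx, h⟩
    · exact (cjI_mem x b η).2 hη
  · have := Fintype.ofFinite (Subgroup.centralizer (b.1 : Set G))
    have := Fintype.ofFinite (Subgroup.centralizer (c.1 : Set G))
    have h := sum_wt_not_conj hM hb.pelt hc.pelt hcj hb.centralizer_eq hc.centralizer_eq hB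
      (η : _ → ℂ) (η' : _ → ℂ)
    rw [← h]
    exact Finset.sum_congr rfl fun ψ _ => by rw [W_eq, W_eq]

/-- Columns at `u ≠ 1` are orthogonal to the values at `p`-regular elements. -/
theorem sum_W_mul_conj_apply (hM : IsPModular p M) [Fintype B] (hB : IsPBlock M B) {u : G}
    (hu : ∃ k : ℕ, orderOf u = p ^ k) (hu1 : u ≠ 1) {b : BrauerPairIdx G}
    (hb1 : b.1 = Subgroup.zpowers u)
    (η : IrrCharacter (Subgroup.centralizer (b.1 : Set G))) {s : G} (hs : ¬ p ∣ orderOf s) :
    ∑ ψ : B, W p u b (ψ : G → ℂ) η * conj ((ψ : G → ℂ) s) = 0 := by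
  classical
  have := Fintype.ofFinite (Subgroup.centralizer (b.1 : Set G))
  have := isPrime_of_isPModular hM
  have hcen : Subgroup.centralizer (b.1 : Set G) = Subgroup.centralizer ({u} : Set G) := by
    rw [hb1, centralizer_zpowers]
  have hort : ∀ y : Subgroup.centralizer (b.1 : Set G), ¬ p ∣ orderOf y →
      ∑ ψ : B, (ψ : G → ℂ) (u * (y : G)) * conj ((ψ : G → ℂ) s) = 0 := by
    intro y hy
    have h1 : IsPPart p (u * (y : G)) u := by
      refine ⟨(y : G), rfl, ?_, hu, ?_⟩
      · exact (Subgroup.mem_centralizer_singleton_iff.1 (hcen ▸ y.2)).symm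
      · rwa [Subgroup.orderOf_coe]
    have h2 : IsPPart p s 1 := by
      refine ⟨s, one_mul s, Commute.one_left s, ⟨0, by simp⟩, hs⟩
    have h0 : ¬ IsConj u 1 := by
      intro h
      exact hu1 (isConj_one_right.1 h.symm)
    have h3 := (S0925.result p M hM).2 _ _ _ _ h1 h2 h0 B hB
    have hfin := Core.finite_irr (G := G)
    rw [finsum_mem_eq_toFinset_sum] at h3
    rw [← Finset.sum_subtype B.toFinset (p := fun x => x ∈ B) (fun x => Set.mem_toFinset)
      (fun ψ : IrrCharacter G => (ψ : G → ℂ) (u * (y : G)) * conj ((ψ : G → ℂ) s))]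
    rw [← h3]
    refine Finset.sum_congr rfl fun ψ _ => ?_
    rw [Cfsg.Agent.Blocks.Orthogonality.irr_apply_inv ψ.2]
  simp only [W_eq_sum]
  have e1 : ∀ ψ : B, (Nat.card (Subgroup.centralizer (b.1 : Set G)) : ℂ)⁻¹ *
      (∑ y : Subgroup.centralizer (b.1 : Set G) with ¬ p ∣ orderOf y,
        (ψ : G → ℂ) (u * (y : G)) * conj ((η : _ → ℂ) y)) * conj ((ψ : G → ℂ) s) =
      (Nat.card (Subgroup.centralizer (b.1 : Set G)) : ℂ)⁻¹ *
      ∑ y : Subgroup.centralizer (b.1 : Set G) with ¬ p ∣ orderOf y,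
        conj ((η : _ → ℂ) y) * ((ψ : G → ℂ) (u * (y : G)) * conj ((ψ : G → ℂ) s)) := by
    intro ψ
    rw [mul_assoc, Finset.sum_mul]
    congr 1
    exact Finset.sum_congr rfl fun y _ => by ring
  rw [Finset.sum_congr rfl fun ψ _ => e1 ψ, ← Finset.mul_sum, Finset.sum_comm]
  rw [mul_eq_zero]
  right
  refine Finset.sum_eq_zero fun y hy => ?_
  rw [← Finset.mul_sum, hort y (Finset.mem_filter.1 hy).2, mul_zero]

/-- A complete system of representatives of the nontrivial subsections of `B`. -/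
structure IsSys (p : ℕ) (M : Ideal AlgInt) (B : Set (IrrCharacter G)) {ι : Type*} (u : ι → G)
    (b : ι → BrauerPairIdx G) : Prop where
  sub : ∀ i, IsSubsec p M B (u i) (b i)
  ne_one : ∀ i, u i ≠ 1
  inj : ∀ i j x, x * u i * x⁻¹ = u j → conjIdx x (b i) = b j → i = j
  surj : ∀ v c, IsSubsec p M B v c → v ≠ 1 → ∃ i x, x * u i * x⁻¹ = v ∧ conjIdx x (b i) = c

variable {ι : Type*} {u : ι → G} {b : ι → BrauerPairIdx G}

theorem IsSys.orth (hM : IsPModular p M) [Fintype B] (h : IsSys p M B u b) {i j : ι}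
    (hij : i ≠ j)
    {η : IrrCharacter (Subgroup.centralizer ((b i).1 : Set G))} (hη : η ∈ (b i).2)
    {η' : IrrCharacter (Subgroup.centralizer ((b j).1 : Set G))} (hη' : η' ∈ (b j).2) :
    ∑ ψ : B, W p (u i) (b i) (ψ : G → ℂ) η * conj (W p (u j) (b j) (ψ : G → ℂ) η') = 0 := by
  refine orth_of_not_conj hM (h.sub i) (h.sub j) ?_ hη hη'
  rintro ⟨x, h1, h2⟩
  exact hij (h.inj i j x h1 h2)

/-- The Gram matrix of the columns of one subsection. -/
theorem IsSubsec.sum_W_mul_conj_W (hM : IsPModular p M) [Fintype B] {u : G}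
    {b : BrauerPairIdx G} (hb : IsSubsec p M B u b)
    [Fintype (Subgroup.centralizer (b.1 : Set G))]
    {η η' : IrrCharacter (Subgroup.centralizer (b.1 : Set G))} (hη : η ∈ b.2) (hη' : η' ∈ b.2) :
    ∑ ψ : B, W p u b (ψ : G → ℂ) η * conj (W p u b (ψ : G → ℂ) η') =
      rg p (η' : Subgroup.centralizer (b.1 : Set G) → ℂ)
        (η : Subgroup.centralizer (b.1 : Set G) → ℂ) := by
  have h := sum_wt_mul_conj_wt hM hb.pelt hb.centralizer_eq hb.ind hη hη'
  rw [← h]
  exact Finset.sum_congr rfl fun ψ _ => by rw [W_eq, W_eq]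

/-- Row version: the row `W p u b χ` is fixed by the contribution matrix. -/
theorem IsSubsec.sum_Cn_mul_W (hM : IsPModular p M) [Fintype B] {u : G}
    {b : BrauerPairIdx G} (hb : IsSubsec p M B u b) {χ : G → ℂ} (hχ : IsClassFunction G χ)
    {η : IrrCharacter (Subgroup.centralizer (b.1 : Set G))} (hη : η ∈ b.2) :
    ∑ ψ : B, Cn p u b χ (ψ : G → ℂ) * W p u b (ψ : G → ℂ) η = W p u b χ η := by
  have := Fintype.ofFinite (Subgroup.centralizer (b.1 : Set G))
  have := Core.finite_irr (G := Subgroup.centralizer (b.1 : Set G))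
  have := Fintype.ofFinite b.2
  have h1 : ∀ ψ : B, Cn p u b χ (ψ : G → ℂ) * W p u b (ψ : G → ℂ) η =
      ∑ η' : b.2, W p u b χ η' * (W p u b (ψ : G → ℂ) η * conj (W p u b (ψ : G → ℂ) η')) := by
    intro ψ
    rw [Cn_eq_sum, Finset.sum_mul]
    exact Finset.sum_congr rfl fun η' _ => by ring
  rw [Finset.sum_congr rfl fun ψ _ => h1 ψ, Finset.sum_comm]
  have h2 : ∀ η' : b.2, ∑ ψ : B, W p u b χ η' *
      (W p u b (ψ : G → ℂ) η * conj (W p u b (ψ : G → ℂ) η')) =
      wt p u χ ((η' : IrrCharacter (Subgroup.centralizer (b.1 : Set G))) :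
        Subgroup.centralizer (b.1 : Set G) → ℂ) *
      rg p ((η' : IrrCharacter (Subgroup.centralizer (b.1 : Set G))) :
        Subgroup.centralizer (b.1 : Set G) → ℂ)
        (η : Subgroup.centralizer (b.1 : Set G) → ℂ) := by
    intro η'
    rw [← Finset.mul_sum, hb.sum_W_mul_conj_W hM hη η'.2, W_eq]
  rw [Finset.sum_congr rfl fun η' _ => h2 η',
    sum_wt_mul_rg hM hb.centralizer_eq hb.ind.1 hχ hη, W_eq]

/-- `W` vanishes on `B` at the blocks not inducing `B`. -/
theorem W_eq_zero (hM : IsPModular p M) {u : G} (hu : ∃ k : ℕ, orderOf u = p ^ k)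
    {b : BrauerPairIdx G} (hb1 : b.1 = Subgroup.zpowers u) (hB : IsPBlock M B)
    (hb : IsPBlock M b.2) (hind : ¬ IsInducedBlock M (Subgroup.centralizer (b.1 : Set G)) b.2 B)
    {ψ : IrrCharacter G} (hψ : ψ ∈ B)
    {η : IrrCharacter (Subgroup.centralizer (b.1 : Set G))} (hη : η ∈ b.2) :
    W p u b (ψ : G → ℂ) η = 0 := by
  have := isPrime_of_isPModular hM
  have := Fintype.ofFinite (Subgroup.centralizer (b.1 : Set G))
  rw [W_eq]
  refine wt_eq_zero hM hu (by rw [hb1, centralizer_zpowers]) hB hψ ?_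
  rwa [← isPBlock_eq_blockOf hb hη]

theorem W_sum (p : ℕ) {κ : Type*} (s : Finset κ) (u : G) (b : BrauerPairIdx G) (a : κ → ℂ)
    (f : κ → G → ℂ) (η : IrrCharacter (Subgroup.centralizer (b.1 : Set G))) :
    W p u b (fun x => ∑ i ∈ s, a i * f i x) η = ∑ i ∈ s, a i * W p u b (f i) η := by
  classical
  have := Fintype.ofFinite (Subgroup.centralizer (b.1 : Set G))
  simp only [W_eq_sum]
  have e1 : ∀ i ∈ s, a i * ((Nat.card (Subgroup.centralizer (b.1 : Set G)) : ℂ)⁻¹ *
      ∑ y : Subgroup.centralizer (b.1 : Set G) with ¬ p ∣ orderOf y,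
      f i (u * (y : G)) * conj ((η : Subgroup.centralizer (b.1 : Set G) → ℂ) y)) =
      (Nat.card (Subgroup.centralizer (b.1 : Set G)) : ℂ)⁻¹ *
      ∑ y : Subgroup.centralizer (b.1 : Set G) with ¬ p ∣ orderOf y,
      a i * (f i (u * (y : G)) * conj ((η : Subgroup.centralizer (b.1 : Set G) → ℂ) y)) := by
    intro i _
    rw [← Finset.mul_sum]
    ring
  rw [Finset.sum_congr rfl e1, ← Finset.mul_sum, Finset.sum_comm]
  congr 1
  refine Finset.sum_congr rfl fun y _ => ?_
  rw [Finset.sum_mul]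
  exact Finset.sum_congr rfl fun i _ => by ring

theorem W_sub (p : ℕ) (u : G) (b : BrauerPairIdx G) (f g : G → ℂ)
    (η : IrrCharacter (Subgroup.centralizer (b.1 : Set G))) :
    W p u b (fun x => f x - g x) η = W p u b f η - W p u b g η := by
  classical
  have := Fintype.ofFinite (Subgroup.centralizer (b.1 : Set G))
  simp only [W_eq_sum]
  rw [← mul_sub, ← Finset.sum_sub_distrib]
  congr 1
  exact Finset.sum_congr rfl fun y _ => by ring

/-- A class function with vanishing columns at `v` vanishes on the section of `v`. -/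
theorem apply_eq_zero_of_W (hM : IsPModular p M) {v : G} {f : G → ℂ} (hf : IsClassFunction G f)
    (h : ∀ (c : BrauerPairIdx G), c.1 = Subgroup.zpowers v → IsPBlock M c.2 → ∀ η ∈ c.2,
      W p v c f η = 0) {y : G} (hy : ¬ p ∣ orderOf y) (hvy : Commute v y) : f (v * y) = 0 := by
  have := isPrime_of_isPModular hM
  have := Fintype.ofFinite (Subgroup.centralizer ((Subgroup.zpowers v : Subgroup G) : Set G))
  refine apply_eq_zero_of_wt (p := p) (centralizer_zpowers v) hf (fun η => ?_) hy hvy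
  let c : BrauerPairIdx G := ⟨Subgroup.zpowers v, blockOf M
    (η : Subgroup.centralizer ((Subgroup.zpowers v : Subgroup G) : Set G) → ℂ)⟩
  have hc2 : IsPBlock M c.2 := isPBlock_blockOf η
  have hη : η ∈ c.2 := mem_blockOf_self η
  have h1 : W p v c f η = 0 := h c rfl hc2 η hη
  have h2 : W p v c f η = wt p v f
    (η : Subgroup.centralizer ((Subgroup.zpowers v : Subgroup G) : Set G) → ℂ) := by
    unfold W
    congr 1
    exact Subsingleton.elim _ _
  rw [← h2, h1]

theorem isClassFunction_sum {κ : Type*} (s : Finset κ) (a : κ → ℂ) (f : κ → G → ℂ)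
    (hf : ∀ i ∈ s, IsClassFunction G (f i)) : IsClassFunction G (fun x => ∑ i ∈ s, a i * f i x) := by
  intro g h
  exact Finset.sum_congr rfl fun i hi => by rw [hf i hi]

theorem isClassFunction_sub {f g : G → ℂ} (hf : IsClassFunction G f) (hg : IsClassFunction G g) :
    IsClassFunction G (fun x => f x - g x) := by
  intro x y
  change f _ - g _ = f _ - g _
  rw [hf, hg]

/-- A class function vanishing at the `p`-regular elements all of whose columns vanish. -/
theorem eq_zero_of_W (hM : IsPModular p M) {f : G → ℂ} (hf : IsClassFunction G f)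
    (hreg : ∀ s : G, ¬ p ∣ orderOf s → f s = 0)
    (h : ∀ (v : G) (c : BrauerPairIdx G), v ≠ 1 → (∃ k : ℕ, orderOf v = p ^ k) →
      c.1 = Subgroup.zpowers v → IsPBlock M c.2 → ∀ η ∈ c.2, W p v c f η = 0) :
    f = 0 := by
  funext g
  obtain ⟨v, y, hvy, hcomm, hv, hy⟩ := Cfsg.Agent.Blocks.PPart.exists_isPPart p g
  rw [← hvy]
  by_cases hv1 : v = 1
  · rw [hv1, one_mul]
    exact hreg y hy
  · exact apply_eq_zero_of_W hM hf (fun c hc1 hc η hη => h v c hv1 hv hc1 hc η hη) hy hcomm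

variable [Fintype ι]

/-- The coefficient function in the completeness relation. -/
noncomputable def tot [Fintype G] (p : ℕ) (u : ι → G) (b : ι → BrauerPairIdx G) (χ ψ : G → ℂ) :
    ℂ := rg p χ ψ + ∑ i, Cn p (u i) (b i) χ ψ

theorem tot_def [Fintype G] (p : ℕ) (u : ι → G) (b : ι → BrauerPairIdx G) (χ ψ : G → ℂ) :
    tot p u b χ ψ = rg p χ ψ + ∑ i, Cn p (u i) (b i) χ ψ := rfl

/-- Completeness. -/
theorem IsSys.eq_sum [Fintype G] (hM : IsPModular p M) [Fintype B] (hB : IsPBlock M B)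
    (h : IsSys p M B u b) {χ : IrrCharacter G} (hχ : χ ∈ B) :
    (χ : G → ℂ) = fun g => ∑ ψ : B, tot p u b (χ : G → ℂ) (ψ : G → ℂ) * (ψ : G → ℂ) g := by
  have := isPrime_of_isPModular hM
  have hχc := isClassFunction_coe χ
  have key : (fun g => (χ : G → ℂ) g - ∑ ψ : B, tot p u b (χ : G → ℂ) (ψ : G → ℂ) *
      (ψ : G → ℂ) g) = 0 := by
    refine eq_zero_of_W hM (isClassFunction_sub hχc (isClassFunction_sum _ _ _
      fun ψ _ => isClassFunction_coe (ψ : IrrCharacter G))) ?_ ?_
    · -- at the `p`-regular elements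
      intro s hs
      have h1 := congrFun (regPart_eq_sum_regPart hM hB hχ) s
      rw [regPart_of_not_dvd hs, Finset.sum_apply] at h1
      have h2 : ∑ ψ : B, tot p u b (χ : G → ℂ) (ψ : G → ℂ) * (ψ : G → ℂ) s =
          ∑ ψ : B, rg p (χ : G → ℂ) (ψ : G → ℂ) * (ψ : G → ℂ) s +
          ∑ i, ∑ ψ : B, Cn p (u i) (b i) (χ : G → ℂ) (ψ : G → ℂ) * (ψ : G → ℂ) s := by
        rw [Finset.sum_comm, ← Finset.sum_add_distrib]
        refine Finset.sum_congr rfl fun ψ _ => ?_
        rw [tot_def, add_mul, Finset.sum_mul]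
      have h3 : ∀ i, ∑ ψ : B, Cn p (u i) (b i) (χ : G → ℂ) (ψ : G → ℂ) * (ψ : G → ℂ) s = 0 := by
        intro i
        have := Core.finite_irr (G := Subgroup.centralizer ((b i).1 : Set G))
        have := Fintype.ofFinite (b i).2
        have h4 : ∀ ψ : B, Cn p (u i) (b i) (χ : G → ℂ) (ψ : G → ℂ) * (ψ : G → ℂ) s =
            ∑ η : (b i).2, W p (u i) (b i) (χ : G → ℂ) η *
              conj (W p (u i) (b i) (ψ : G → ℂ) η * conj ((ψ : G → ℂ) s)) := by
          intro ψ
          rw [Cn_eq_sum, Finset.sum_mul]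
          refine Finset.sum_congr rfl fun η _ => ?_
          rw [map_mul, Complex.conj_conj]
          ring
        rw [Finset.sum_congr rfl fun ψ _ => h4 ψ, Finset.sum_comm]
        refine Finset.sum_eq_zero fun η _ => ?_
        rw [← Finset.mul_sum, ← map_sum, sum_W_mul_conj_apply hM hB (h.sub i).pelt (h.ne_one i)
          (h.sub i).fst _ hs, map_zero, mul_zero]
      rw [h2, Finset.sum_eq_zero fun i _ => h3 i, add_zero, h1, sub_eq_zero]
      refine Finset.sum_congr rfl fun ψ _ => ?_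
      rw [Pi.smul_apply, regPart_of_not_dvd hs, smul_eq_mul]
    · -- at the other sections
      intro v c hv1 hv hc1 hc η hη
      rw [W_sub, W_sum]
      by_cases hind : IsInducedBlock M (Subgroup.centralizer (c.1 : Set G)) c.2 B
      · obtain ⟨i, x, hx1, hx2⟩ := h.surj v c ⟨hc1, hv, hind⟩ hv1
        subst hx1
        subst hx2
        -- transport to the representative
        obtain ⟨η', rfl⟩ := exists_cjI x (b i) η
        have hη' : η' ∈ (b i).2 := (cjI_mem x (b i) η').1 hη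
        rw [W_conj p x (u i) (b i) hχc η']
        have h5 : ∀ ψ : B, W p (x * u i * x⁻¹) (conjIdx x (b i)) (ψ : G → ℂ)
            (cjI x (b i) η') = W p (u i) (b i) (ψ : G → ℂ) η' :=
          fun ψ => W_conj p x (u i) (b i) (isClassFunction_coe (ψ : IrrCharacter G)) η'
        rw [Finset.sum_congr rfl fun ψ _ => by rw [h5 ψ]]
        have h6 : ∑ ψ : B, tot p u b (χ : G → ℂ) (ψ : G → ℂ) * W p (u i) (b i) (ψ : G → ℂ) η' =
            ∑ ψ : B, rg p (χ : G → ℂ) (ψ : G → ℂ) * W p (u i) (b i) (ψ : G → ℂ) η' +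
            ∑ j, ∑ ψ : B, Cn p (u j) (b j) (χ : G → ℂ) (ψ : G → ℂ) *
              W p (u i) (b i) (ψ : G → ℂ) η' := by
          rw [Finset.sum_comm, ← Finset.sum_add_distrib]
          refine Finset.sum_congr rfl fun ψ _ => ?_
          rw [tot_def, add_mul, Finset.sum_mul]
        have h7 : ∑ ψ : B, rg p (χ : G → ℂ) (ψ : G → ℂ) * W p (u i) (b i) (ψ : G → ℂ) η' = 0 := by
          classical
          have h8 : ∀ ψ : B, rg p (χ : G → ℂ) (ψ : G → ℂ) * W p (u i) (b i) (ψ : G → ℂ) η' =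
              (Nat.card G : ℂ)⁻¹ * ∑ s : G with ¬ p ∣ orderOf s, (χ : G → ℂ) s *
                (W p (u i) (b i) (ψ : G → ℂ) η' * conj ((ψ : G → ℂ) s)) := by
            intro ψ
            rw [rg_def, pair_eq_sum_filter, mul_assoc, Finset.sum_mul]
            congr 1
            exact Finset.sum_congr rfl fun s _ => by ring
          rw [Finset.sum_congr rfl fun ψ _ => h8 ψ, ← Finset.mul_sum, Finset.sum_comm,
            mul_eq_zero]
          right
          refine Finset.sum_eq_zero fun s hs => ?_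
          rw [← Finset.mul_sum, sum_W_mul_conj_apply hM hB (h.sub i).pelt (h.ne_one i)
            (h.sub i).fst _ (Finset.mem_filter.1 hs).2, mul_zero]
        have h9 : ∀ j, j ≠ i → ∑ ψ : B, Cn p (u j) (b j) (χ : G → ℂ) (ψ : G → ℂ) *
            W p (u i) (b i) (ψ : G → ℂ) η' = 0 := by
          intro j hj
          have := Core.finite_irr (G := Subgroup.centralizer ((b j).1 : Set G))
          have := Fintype.ofFinite (b j).2
          have h10 : ∀ ψ : B, Cn p (u j) (b j) (χ : G → ℂ) (ψ : G → ℂ) *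
              W p (u i) (b i) (ψ : G → ℂ) η' =
              ∑ ζ : (b j).2, W p (u j) (b j) (χ : G → ℂ) ζ *
                (W p (u i) (b i) (ψ : G → ℂ) η' * conj (W p (u j) (b j) (ψ : G → ℂ) ζ)) := by
            intro ψ
            rw [Cn_eq_sum, Finset.sum_mul]
            exact Finset.sum_congr rfl fun ζ _ => by ring
          rw [Finset.sum_congr rfl fun ψ _ => h10 ψ, Finset.sum_comm]
          refine Finset.sum_eq_zero fun ζ _ => ?_
          rw [← Finset.mul_sum, h.orth hM (Ne.symm hj) hη' ζ.2, mul_zero]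
        rw [h6, h7, zero_add, Finset.sum_eq_single i (fun j _ hj => h9 j hj)
          (fun h' => absurd (Finset.mem_univ _) h'), (h.sub i).sum_Cn_mul_W hM hχc hη', sub_self]
      · rw [W_eq_zero hM hv hc1 hB hc hind hχ hη, zero_sub, neg_eq_zero]
        refine Finset.sum_eq_zero fun ψ _ => ?_
        rw [W_eq_zero hM hv hc1 hB hc hind ψ.2 hη, mul_zero]
  funext g
  have h1 := congrFun key g
  simp only [Pi.zero_apply] at h1
  exact sub_eq_zero.1 h1

/-- The contributions of a complete system add up to the identity matrix. -/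
theorem IsSys.rg_add_sum [Fintype G] (hM : IsPModular p M) [Fintype B] (hB : IsPBlock M B)
    (h : IsSys p M B u b) {χ ψ : IrrCharacter G} (hχ : χ ∈ B) (hψ : ψ ∈ B) [Decidable (χ = ψ)] :
    rg p (χ : G → ℂ) (ψ : G → ℂ) + ∑ i, Cn p (u i) (b i) (χ : G → ℂ) (ψ : G → ℂ) =
      if χ = ψ then 1 else 0 := by
  classical
  have h1 := h.eq_sum hM hB hχ
  have h2 : (χ : G → ℂ) = ∑ ζ : B, tot p u b (χ : G → ℂ) (ζ : G → ℂ) • (ζ : G → ℂ) := by
    conv_lhs => rw [h1]
    funext g
    rw [Finset.sum_apply]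
    rfl
  have h3 : classInner (χ : G → ℂ) (ψ : G → ℂ) = tot p u b (χ : G → ℂ) (ψ : G → ℂ) := by
    conv_lhs => rw [h2]
    rw [Core.classInner_sum_left]
    rw [Finset.sum_eq_single (⟨ψ, hψ⟩ : B)]
    · rw [Core.classInner_smul_left, Core.classInner_irr ψ.2 ψ.2, if_pos rfl, mul_one]
    · intro ζ _ hζ
      rw [Core.classInner_smul_left, Core.classInner_irr (ζ : IrrCharacter G).2 ψ.2, if_neg,
        mul_zero]
      intro h'
      exact hζ (Subtype.ext (Subtype.ext h'))
    · exact fun h' => absurd (Finset.mem_univ _) h'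
  rw [← tot_def, ← h3, Core.classInner_irr χ.2 ψ.2]
  by_cases h4 : χ = ψ
  · rw [if_pos h4, if_pos (congrArg _ h4)]
  · rw [if_neg h4, if_neg (fun h5 => h4 (Subtype.ext h5))]

omit [Fintype ι] in
/-- The trace of the contribution matrix. -/
theorem IsSubsec.sum_Cn_self (hM : IsPModular p M) [Fintype B] {u : G} {b : BrauerPairIdx G}
    (h : IsSubsec p M B u b) :
    ∑ ψ : B, Cn p u b (ψ : G → ℂ) (ψ : G → ℂ) = blockRank p b.2 := by
  have := Fintype.ofFinite (Subgroup.centralizer (b.1 : Set G))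
  have := Core.finite_irr (G := Subgroup.centralizer (b.1 : Set G))
  have := Fintype.ofFinite b.2
  rw [← sum_contr_self hM h.pelt h.centralizer_eq h.ind]
  exact Finset.sum_congr rfl fun ψ _ => by rw [Cn_eq]

/-- `k(B) = l(B) + ∑ᵢ l(bᵢ)`. -/
theorem IsSys.card_eq (hM : IsPModular p M) (hB : IsPBlock M B) (h : IsSys p M B u b) :
    Nat.card B = blockRank p B + ∑ i, blockRank p (b i).2 := by
  classical
  have := Fintype.ofFinite G
  have := Core.finite_irr (G := G)
  have := Fintype.ofFinite B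
  have h1 : ∑ ψ : B, (rg p (ψ : G → ℂ) (ψ : G → ℂ) +
      ∑ i, Cn p (u i) (b i) (ψ : G → ℂ) (ψ : G → ℂ)) = ∑ ψ : B, (1 : ℂ) := by
    refine Finset.sum_congr rfl fun ψ _ => ?_
    rw [h.rg_add_sum hM hB ψ.2 ψ.2, if_pos rfl]
  rw [Finset.sum_add_distrib, sum_rg_self hM hB, Finset.sum_comm,
    Finset.sum_congr rfl fun i _ => (h.sub i).sum_Cn_self hM] at h1
  rw [Finset.sum_const, Finset.card_univ, ← Nat.card_eq_fintype_card, nsmul_eq_mul,
    mul_one] at h1
  exact_mod_cast h1.symm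

end Cfsg.Agent.H613.SubSys
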