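import Mathlib
import Cfsg.Agent.H613.SubSys
import Cfsg.Agent.H649.FusBlock
import Cfsg.Agent.H649.LocalDefect
import Cfsg.Agent.S4655
import Cfsg.Agent.S4658
import Cfsg.Agent.S4660

/-!
# Subsections of a block in terms of a maximal Brauer pair

`a` a maximal Brauer pair of `B`.  `bel p M a u` is the pair on `⟨u⟩` below `a`, `Fus p M a u v`
says that `u` and `v` are conjugate in the fusion system of `B` on `a`.

* `isSys_of_reps`: representatives of the nontrivial elements of `a.1` under fusion give a complete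
  system of subsections.
-/

set_option autoImplicit false
set_option linter.unusedSectionVars false

open Cfsg
open scoped ComplexConjugate

namespace Cfsg.Agent.H613.SubFus

open Cfsg.Agent.Blocks.Blau Cfsg.Agent.Blocks.Local Cfsg.Agent.Characters
open Cfsg.Agent.H613.RegGram Cfsg.Agent.H613.Contrib Cfsg.Agent.H613.SubSys
open Cfsg.Agent.H639 Cfsg.Agent.H649

universe u

variable {G : Type u} [Group G] [Finite G] {p : ℕ} [Fact p.Prime] {M : Ideal AlgInt}
  {B : Set (IrrCharacter G)} {a : BrauerPairIdx G}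

open Classical in
/-- The pair on `⟨u⟩` below `a`. -/
noncomputable def bel (p : ℕ) (M : Ideal AlgInt) (a : BrauerPairIdx G) (u : G) :
    BrauerPairIdx G :=
  ⟨Subgroup.zpowers u, if h : ∃ f, IsPBlock M f ∧ SubpairLE p M (Subgroup.zpowers u) f a.1 a.2
    then h.choose else ∅⟩

theorem bel_fst (u : G) : (bel p M a u).1 = Subgroup.zpowers u := rfl

theorem exists_bel (hM : IsPModular p M) (ha : IsBrauerPair p M a.1 a.2) {u : G}
    (hu : u ∈ a.1) : ∃ f, IsPBlock M f ∧ SubpairLE p M (Subgroup.zpowers u) f a.1 a.2 := by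
  have := Fintype.ofFinite G
  obtain ⟨f, hf, _⟩ := S4655.result p M hM a.1 (Subgroup.zpowers u) a.2 ha
    (by rwa [Subgroup.zpowers_le])
  exact ⟨f, hf⟩

theorem bel_snd (hM : IsPModular p M) (ha : IsBrauerPair p M a.1 a.2) {u : G}
    (hu : u ∈ a.1) : IsPBlock M (bel p M a u).2 ∧
      SubpairLE p M (Subgroup.zpowers u) (bel p M a u).2 a.1 a.2 := by
  have h := exists_bel hM ha hu
  have h1 : (bel p M a u).2 = h.choose := dif_pos h
  rw [h1]
  exact h.choose_spec

theorem isPBlock_bel (hM : IsPModular p M) (ha : IsBrauerPair p M a.1 a.2) {u : G}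
    (hu : u ∈ a.1) : IsPBlock M (bel p M a u).2 := (bel_snd hM ha hu).1

theorem bel_le (hM : IsPModular p M) (ha : IsBrauerPair p M a.1 a.2) {u : G}
    (hu : u ∈ a.1) : LEIdx p M (bel p M a u) a := (bel_snd hM ha hu).2

theorem eq_bel (hM : IsPModular p M) (ha : IsBrauerPair p M a.1 a.2) {u : G}
    {c : BrauerPairIdx G} (hc1 : c.1 = Subgroup.zpowers u) (hc : LEIdx p M c a) :
    c = bel p M a u := by
  have := Fintype.ofFinite G
  have hu : u ∈ a.1 := LEIdx.le hc (by rw [hc1]; exact Subgroup.mem_zpowers u)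
  obtain ⟨Q, f⟩ := c
  have h1 : Q = Subgroup.zpowers u := hc1
  subst h1
  have h2 : f = (bel p M a u).2 := subpair_unique hM ha hc (bel_snd hM ha hu).2
  rw [h2]
  rfl

/-- `u` and `v` are conjugate in the fusion system of `B` on `a`. -/
def Fus (p : ℕ) (M : Ideal AlgInt) (a : BrauerPairIdx G) (u v : G) : Prop :=
  ∃ x : G, x * u * x⁻¹ = v ∧ conjIdx x (bel p M a u) = bel p M a v

theorem Fus.refl (u : G) : Fus p M a u u := ⟨1, by simp, conjIdx_one _⟩

theorem Fus.symm {u v : G} (h : Fus p M a u v) : Fus p M a v u := by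
  obtain ⟨x, h1, h2⟩ := h
  refine ⟨x⁻¹, ?_, ?_⟩
  · rw [← h1]; group
  · rw [← h2, conjIdx_inv_conjIdx]

theorem Fus.trans {u v w : G} (h : Fus p M a u v) (h' : Fus p M a v w) : Fus p M a u w := by
  obtain ⟨x, h1, h2⟩ := h
  obtain ⟨y, h3, h4⟩ := h'
  refine ⟨y * x, ?_, ?_⟩
  · rw [← h3, ← h1]; group
  · rw [← conjIdx_conjIdx, h2, h4]

theorem Fus.orderOf_eq {u v : G} (h : Fus p M a u v) : orderOf u = orderOf v := by
  obtain ⟨x, h1, _⟩ := h
  rw [← h1, Cfsg.Agent.Blocks.Blau.orderOf_conj_eq]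

/-- The pair `a` conjugated by its own elements. -/
theorem conjIdx_self (hM : IsPModular p M) (ha : IsBrauerPair p M a.1 a.2) {x : G}
    (hx : x ∈ a.1) : conjIdx x a = a := by
  have := isPrime_of_isPModular hM
  have := Fintype.ofFinite G
  exact conjIdx_self_of_mem hx ha.2

/-- Conjugation by an element stabilizing `a`. -/
theorem conjIdx_bel (hM : IsPModular p M) (ha : IsBrauerPair p M a.1 a.2) {x u : G}
    (hx : conjIdx x a = a) (hu : u ∈ a.1) :
    conjIdx x (bel p M a u) = bel p M a (x * u * x⁻¹) := by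
  refine eq_bel hM ha ?_ ?_
  · rw [conjIdx_fst, bel_fst, MonoidHom.map_zpowers]
    rfl
  · have h := (leIdx_conjIdx_iff x (p := p) (M := M) (a := bel p M a u) (b := a)).2
      (bel_le hM ha hu)
    rwa [hx] at h

/-- Elements of `a.1` fuse. -/
theorem Fus.of_mem (hM : IsPModular p M) (ha : IsBrauerPair p M a.1 a.2) {x u : G}
    (hx : x ∈ a.1) (hu : u ∈ a.1) : Fus p M a u (x * u * x⁻¹) :=
  ⟨x, rfl, conjIdx_bel hM ha (conjIdx_self hM ha hx) hu⟩

/-- A criterion for fusion. -/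
theorem Fus.of_le (hM : IsPModular p M) (ha : IsBrauerPair p M a.1 a.2) {x u : G}
    (h : LEIdx p M (conjIdx x (bel p M a u)) a) : Fus p M a u (x * u * x⁻¹) := by
  refine ⟨x, rfl, eq_bel hM ha ?_ h⟩
  rw [conjIdx_fst, bel_fst, MonoidHom.map_zpowers]
  rfl

theorem isBrauerPairOf_bel (hM : IsPModular p M) (hmax : IsMaximalBrauerPair p M B a.1 a.2)
    {u : G} (hu : u ∈ a.1) :
    IsBrauerPairOf p M B (Subgroup.zpowers u) (bel p M a u).2 := by
  have := Fintype.ofFinite G
  have ha : IsBrauerPair p M a.1 a.2 := hmax.1.1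
  have h1 := bel_le hM ha hu
  exact (S4658.result p M hM a.1 (Subgroup.zpowers u) a.2 (bel p M a u).2 ha
    (LEIdx.isBrauerPair h1 ha) h1 B hmax.1.2.1).1 hmax.1

theorem isSubsec_bel (hM : IsPModular p M) (hmax : IsMaximalBrauerPair p M B a.1 a.2) {u : G}
    (hu : u ∈ a.1) : IsSubsec p M B u (bel p M a u) :=
  (isSubsec_iff hM hmax.1.2.1).2 ⟨rfl, isBrauerPairOf_bel hM hmax hu⟩

/-- Every subsection is conjugate to one below `a`. -/
theorem exists_fus_of_isSubsec (hM : IsPModular p M) (hmax : IsMaximalBrauerPair p M B a.1 a.2)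
    {v : G} {c : BrauerPairIdx G} (hc : IsSubsec p M B v c) :
    ∃ x : G, x * v * x⁻¹ ∈ a.1 ∧ conjIdx x c = bel p M a (x * v * x⁻¹) := by
  have := Fintype.ofFinite G
  have h1 := ((isSubsec_iff hM hmax.1.2.1).1 hc).2
  obtain ⟨x, hx⟩ := S4660.result p M hM B a.1 c.1 a.2 c.2 hmax h1
  have h2 : LEIdx p M (conjIdx x c) a := by
    rw [show conjIdx x c = ⟨c.1.map (MulAut.conj x).toMonoidHom, conjBlock c.1 x c.2⟩ from
      conjIdx_mk x c.1 c.2]
    exact hx
  have h3 : (conjIdx x c).1 = Subgroup.zpowers (x * v * x⁻¹) := by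
    rw [conjIdx_fst, hc.fst, MonoidHom.map_zpowers]
    rfl
  refine ⟨x, LEIdx.le h2 (by rw [h3]; exact Subgroup.mem_zpowers _), ?_⟩
  exact eq_bel hM hmax.1.1 h3 h2

/-- Representatives of the nontrivial elements of the maximal pair under fusion. -/
theorem isSys_of_reps (hM : IsPModular p M) (hmax : IsMaximalBrauerPair p M B a.1 a.2)
    {ι : Type*} (r : ι → G) (hr : ∀ i, r i ∈ a.1) (h1 : ∀ i, r i ≠ 1)
    (hinj : ∀ i j, Fus p M a (r i) (r j) → i = j)
    (hsurj : ∀ v ∈ a.1, v ≠ 1 → ∃ i, Fus p M a (r i) v) :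
    IsSys p M B r (fun i => bel p M a (r i)) where
  sub i := isSubsec_bel hM hmax (hr i)
  ne_one := h1
  inj i j x hx hx' := hinj i j ⟨x, hx, hx'⟩
  surj v c hc hv := by
    obtain ⟨x, hx1, hx2⟩ := exists_fus_of_isSubsec hM hmax hc
    obtain ⟨i, y, hy1, hy2⟩ := hsurj _ hx1 (by
      intro h
      apply hv
      have h2 : v = x⁻¹ * (x * v * x⁻¹) * x := by group
      rw [h2, h]; group)
    refine ⟨i, x⁻¹ * y, ?_, ?_⟩
    · have h2 : x⁻¹ * y * r i * (x⁻¹ * y)⁻¹ = x⁻¹ * (y * r i * y⁻¹) * x := by group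
      rw [h2, hy1]; group
    · rw [← conjIdx_conjIdx, hy2, ← hx2, conjIdx_inv_conjIdx]

end Cfsg.Agent.H613.SubFus
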