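import Mathlib
import Cfsg.Agent.H613.SubFus
import Cfsg.Agent.H641.CycNil

/-!
# Defects of the blocks of subsections
-/

set_option autoImplicit false
set_option linter.unusedSectionVars false

open Cfsg
open scoped ComplexConjugate

namespace Cfsg.Agent.H613.SubDef

open Cfsg.Agent.Blocks.Blau Cfsg.Agent.Blocks.Local Cfsg.Agent.Characters
open Cfsg.Agent.H613.SubSys Cfsg.Agent.H613.SubFus Cfsg.Agent.H644
open Cfsg.Agent.H649

universe u

variable {G : Type u} [Group G] [Finite G] {p : ℕ} [Fact p.Prime] {M : Ideal AlgInt}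
  {B : Set (IrrCharacter G)} {a : BrauerPairIdx G}

theorem blockDefect_conjBlock {Q : Subgroup G} (x : G)
    (f : Set (IrrCharacter (Subgroup.centralizer (Q : Set G)))) :
    blockDefect p (conjBlock Q x f) = blockDefect p f := by
  rw [conjBlock_eq, pairMap, blockDefect_blkMap]

theorem blockDefect_conjIdx (x : G) (b : BrauerPairIdx G) :
    blockDefect p (conjIdx x b).2 = blockDefect p b.2 := by
  obtain ⟨Q, f⟩ := b
  rw [conjIdx_mk]
  change blockDefect p (conjBlock Q x f) = _
  rw [conjBlock_eq, pairMap, blockDefect_blkMap]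

theorem blockRank_conjIdx (x : G) (b : BrauerPairIdx G) :
    blockRank p (conjIdx x b).2 = blockRank p b.2 := by
  obtain ⟨Q, f⟩ := b
  rw [conjIdx_mk]
  change blockRank p (conjBlock Q x f) = _
  rw [conjBlock_eq, pairMap, blockRank_blkMap]

/-- The defect of the block of `(u, b_u)` in terms of a conjugate of `u`. -/
theorem exists_fus_defect (hM : IsPModular p M) (hmax : IsMaximalBrauerPair p M B a.1 a.2)
    {u : G} (hu : u ∈ a.1) : ∃ v ∈ a.1, Fus p M a u v ∧
      p ^ blockDefect p (bel p M a u).2 =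
        Nat.card (a.1 ⊓ Subgroup.centralizer ((Subgroup.zpowers v : Subgroup G) : Set G) :
          Subgroup G) := by
  have := Fintype.ofFinite G
  have ha : IsBrauerPair p M a.1 a.2 := hmax.1.1
  obtain ⟨x, hx, hdef⟩ := exists_conj_centralizer_defect hM hmax (isBrauerPairOf_bel hM hmax hu)
  have hle : LEIdx p M (conjIdx x (bel p M a u)) a := by
    rw [show conjIdx x (bel p M a u) = ⟨(Subgroup.zpowers u).map (MulAut.conj x).toMonoidHom,
      conjBlock (Subgroup.zpowers u) x (bel p M a u).2⟩ from conjIdx_mk x _ _]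
    exact hx
  have hf := Fus.of_le hM ha hle
  have hz : (Subgroup.zpowers u).map (MulAut.conj x).toMonoidHom =
      Subgroup.zpowers (x * u * x⁻¹) := by
    rw [MonoidHom.map_zpowers]; rfl
  refine ⟨x * u * x⁻¹, SubpairLE.le hx (by rw [hz]; exact Subgroup.mem_zpowers _), hf, ?_⟩
  have hpb : IsPBlock M (conjBlock (Subgroup.zpowers u) x (bel p M a u).2) :=
    (SubpairLE.isBrauerPair hx ha).2
  have h1 := S0908.result p M hM _ hpb _ hdef
  have h2 : blockDefect p (conjBlock (Subgroup.zpowers u) x (bel p M a u).2) =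
      blockDefect p (bel p M a u).2 := blockDefect_conjBlock x _
  rw [h2] at h1
  rw [← h1, ← hz]
  exact Nat.card_congr (Subgroup.subgroupOfEquivOfLe inf_le_right).toEquiv

theorem card_le_defect (hM : IsPModular p M) (hmax : IsMaximalBrauerPair p M B a.1 a.2)
    {u : G} (hu : u ∈ a.1) :
    Nat.card (a.1 ⊓ Subgroup.centralizer ((Subgroup.zpowers u : Subgroup G) : Set G) :
      Subgroup G) ≤ p ^ blockDefect p (bel p M a u).2 := by
  have := Fintype.ofFinite G
  have ha : IsBrauerPair p M a.1 a.2 := hmax.1.1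
  obtain ⟨D, hD, hle⟩ := exists_centralizer_defect hM ha (bel_le hM ha hu)
  have h1 := S0908.result p M hM (bel p M a u).2 (isPBlock_bel hM ha hu) D hD
  rw [← h1]
  have h2 : Nat.card ((a.1 ⊓ Subgroup.centralizer
      (((bel p M a u).1 : Subgroup G) : Set G)).subgroupOf
        (Subgroup.centralizer (((bel p M a u).1 : Subgroup G) : Set G))) ≤ Nat.card D :=
    Nat.card_le_card_of_injective _ (Subgroup.inclusion_injective hle)
  rw [Nat.card_congr (Subgroup.subgroupOfEquivOfLe inf_le_right).toEquiv] at h2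
  exact h2

end Cfsg.Agent.H613.SubDef
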