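import Mathlib
import Cfsg.Agent.H613.SubDef
import Cfsg.Agent.H649.AbelLocal

/-!
# Monotonicity of the passage from pairs of `C_G(Q)` to pairs of `G`
-/

set_option autoImplicit false
set_option linter.unusedSectionVars false

open Cfsg
open scoped ComplexConjugate

namespace Cfsg.Agent.H613.LocMono

open Cfsg.Agent.Blocks.Blau Cfsg.Agent.Blocks.Local Cfsg.Agent.Characters
open Cfsg.Agent.H613.SubSys Cfsg.Agent.H613.SubFus Cfsg.Agent.H644 Cfsg.Agent.H651
open Cfsg.Agent.H613.SubDef
open Cfsg.Agent.H649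

universe u

variable {G : Type u} [Group G] {p : ℕ} {M : Ideal AlgInt}

theorem subgroupBlockCoeff_locBlk (Q : Subgroup G)
    (R : Subgroup (Subgroup.centralizer (Q : Set G)))
    (h : Set (IrrCharacter (Subgroup.centralizer
      (R : Set (Subgroup.centralizer (Q : Set G)))))) (c : Subgroup.centralizer (Q : Set G)) :
    subgroupBlockCoeff (Subgroup.centralizer ((locSub Q R : Subgroup G) : Set G))
      (locBlk Q R h) (c : G) =
    subgroupBlockCoeff (Subgroup.centralizer (R : Set (Subgroup.centralizer (Q : Set G)))) h c := by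
  by_cases hc : c ∈ Subgroup.centralizer (R : Set (Subgroup.centralizer (Q : Set G)))
  · have hc' : (c : G) ∈ Subgroup.centralizer ((locSub Q R : Subgroup G) : Set G) :=
      (mem_centralizer_locSub_iff c).2 hc
    rw [subgroupBlockCoeff_of_mem _ _ hc', subgroupBlockCoeff_of_mem _ _ hc]
    exact blockCoeff_blkMap (locIso Q R) h ⟨c, hc⟩
  · have hc' : (c : G) ∉ Subgroup.centralizer ((locSub Q R : Subgroup G) : Set G) :=
      fun h' => hc ((mem_centralizer_locSub_iff c).1 h')
    rw [subgroupBlockCoeff_of_notMem _ _ hc', subgroupBlockCoeff_of_notMem _ _ hc]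

theorem brauerOmega_loc (Q : Subgroup G) (R₁ R : Subgroup (Subgroup.centralizer (Q : Set G)))
    (h : Set (IrrCharacter (Subgroup.centralizer
      (R₁ : Set (Subgroup.centralizer (Q : Set G))))))
    (ξ : IrrCharacter (Subgroup.centralizer (R : Set (Subgroup.centralizer (Q : Set G))))) :
    brauerOmega (locSub Q R) (subgroupBlockCoeff
      (Subgroup.centralizer ((locSub Q R₁ : Subgroup G) : Set G)) (locBlk Q R₁ h))
      (H649.irrMap (locIso Q R) ξ : _ → ℂ) =
    brauerOmega R (subgroupBlockCoeff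
      (Subgroup.centralizer (R₁ : Set (Subgroup.centralizer (Q : Set G)))) h) (ξ : _ → ℂ) := by
  rw [brauerOmega, brauerOmega]
  refine (finsum_eq_of_bijective (locIso Q R) (locIso Q R).bijective fun x => ?_).symm
  rw [H649.irrMap_apply', H649.irrMap_one, locIso_coe, subgroupBlockCoeff_locBlk]

theorem isNormalSubpair_loc [M.IsPrime] {Q : Subgroup G} (hQ : IsPGroup p Q)
    {R₁ R : Subgroup (Subgroup.centralizer (Q : Set G))}
    {h₁ : Set (IrrCharacter (Subgroup.centralizer
      (R₁ : Set (Subgroup.centralizer (Q : Set G)))))}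
    {h : Set (IrrCharacter (Subgroup.centralizer (R : Set (Subgroup.centralizer (Q : Set G)))))}
    (hn : IsNormalSubpair p M R₁ h₁ R h) :
    IsNormalSubpair p M (locSub Q R₁) (locBlk Q R₁ h₁) (locSub Q R) (locBlk Q R h) := by
  obtain ⟨hb1, hb2, hle, hnor, hst, hom⟩ := hn
  have hp1 : IsPBlock M (locBlk Q R₁ h₁) := isPBlock_blkMap hb1.2
  have hstab : locSub Q R ≤ idxStab (locIdx Q ⟨R₁, h₁⟩) := by
    refine sup_le ?_ ?_
    · intro x hx
      exact le_idxStab hp1 (le_locSub Q R₁ hx)
    · rintro _ ⟨r, hr, rfl⟩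
      change conjIdx (r : G) (locIdx Q ⟨R₁, h₁⟩) = locIdx Q ⟨R₁, h₁⟩
      rw [conjIdx_locIdx, (conjIdx_eq_iff hb1.2 r).2 ⟨hnor hr, hst r hr⟩]
  refine ⟨⟨isPGroup_locSub hQ hb1.1, hp1⟩, ⟨isPGroup_locSub hQ hb2.1, isPBlock_blkMap hb2.2⟩,
    ?_, ?_, ?_, ?_⟩
  · exact sup_le_sup_left (Subgroup.map_mono hle) Q
  · intro x hx
    exact ((conjIdx_eq_iff hp1 x).1 (hstab hx)).1
  · intro x hx
    exact ((conjIdx_eq_iff hp1 x).1 (hstab hx)).2
  · rintro _ ⟨ξ, hξ, rfl⟩
    rw [brauerOmega_loc]
    exact hom ξ hξ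

theorem leIdx_loc [M.IsPrime] {Q : Subgroup G} (hQ : IsPGroup p Q)
    {c c' : BrauerPairIdx (Subgroup.centralizer (Q : Set G))} (h : LEIdx p M c c') :
    LEIdx p M (locIdx Q c) (locIdx Q c') := by
  induction h with
  | refl => exact Relation.ReflTransGen.refl
  | tail _ h2 ih => exact Relation.ReflTransGen.tail ih (isNormalSubpair_loc hQ h2)

section main

variable [Finite G] [Fact p.Prime] {B : Set (IrrCharacter G)} {a : BrauerPairIdx G}

/-- A maximal pair of the block of a pair centralized by the maximal pair. -/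
theorem exists_loc_max (hM : IsPModular p M) (hmax : IsMaximalBrauerPair p M B a.1 a.2)
    {Q : Subgroup G} {f : Set (IrrCharacter (Subgroup.centralizer (Q : Set G)))}
    (hQf : IsBrauerPairOf p M B Q f) (hQle : SubpairLE p M Q f a.1 a.2)
    (hPC : a.1 ≤ Subgroup.centralizer (Q : Set G)) :
    ∃ a' : BrauerPairIdx (Subgroup.centralizer (Q : Set G)),
      a'.1 = a.1.subgroupOf (Subgroup.centralizer (Q : Set G)) ∧
      IsMaximalBrauerPair p M f a'.1 a'.2 ∧ locIdx Q a' = a := by
  have := Fintype.ofFinite G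
  have hp := isPrime_of_isPModular hM
  have ha : IsBrauerPair p M a.1 a.2 := hmax.1.1
  obtain ⟨h, h1, h2⟩ := exists_locIdx_eq hM ha hPC hQle
  refine ⟨⟨_, h⟩, rfl, ?_, h2⟩
  have hdef : IsDefectGroup p M f (a.1.subgroupOf (Subgroup.centralizer (Q : Set G))) := by
    obtain ⟨D, hD, hle⟩ := exists_centralizer_defect hM ha hQle
    have h3 : a.1 ⊓ Subgroup.centralizer (Q : Set G) = a.1 := inf_eq_left.2 hPC
    rw [h3] at hle
    have h4 : a.1.subgroupOf (Subgroup.centralizer (Q : Set G)) = D := by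
      refine Subgroup.eq_of_le_of_card_ge hle ?_
      have h5 := S0908.result p M hM f hQf.1.2 D hD
      obtain ⟨x, hx, hdx⟩ := exists_conj_centralizer_defect hM hmax hQf
      have h6 := S0908.result p M hM _ (SubpairLE.isBrauerPair hx ha).2 _ hdx
      rw [blockDefect_conjBlock] at h6
      rw [h5, ← h6, Nat.card_congr (Subgroup.subgroupOfEquivOfLe hPC).toEquiv,
        Nat.card_congr (Subgroup.subgroupOfEquivOfLe inf_le_right).toEquiv]
      exact Nat.card_le_card_of_injective _ (Subgroup.inclusion_injective inf_le_left)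
    rw [h4]
    exact hD
  exact isMaximalBrauerPair_of_isDefectGroup hM h1 hdef

/-- The pairs below the local maximal pair. -/
theorem locIdx_bel (hM : IsPModular p M) (ha : IsBrauerPair p M a.1 a.2) {Q : Subgroup G}
    (hQ : IsPGroup p Q)
    {a' : BrauerPairIdx (Subgroup.centralizer (Q : Set G))} (ha' : IsBrauerPair p M a'.1 a'.2)
    (hloc : locIdx Q a' = a) {u : Subgroup.centralizer (Q : Set G)} (hu : u ∈ a'.1)
    (hQu : Q ≤ Subgroup.zpowers (u : G)) :
    locIdx Q (bel p M a' u) = bel p M a (u : G) := by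
  have hp := isPrime_of_isPModular hM
  refine eq_bel hM ha ?_ ?_
  · change Q ⊔ (Subgroup.zpowers u).map (Subgroup.centralizer (Q : Set G)).subtype = _
    rw [MonoidHom.map_zpowers]
    exact sup_eq_right.2 hQu
  · rw [← hloc]
    exact leIdx_loc hQ (bel_le hM ha' hu)

end main

end Cfsg.Agent.H613.LocMono
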