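import Mathlib
import Cfsg.Agent.H648.HeightForm
import Cfsg.Agent.H613.RegGram

/-!
# The number of characters of height zero of a 2-block of defect at least two is a multiple of four
-/

set_option autoImplicit false
set_option linter.unusedSectionVars false

open Cfsg
open scoped ComplexConjugate

namespace Cfsg.Agent.H613.HtFour

open Cfsg.Agent.Blocks.Blau Cfsg.Agent.Blocks.Local Cfsg.Agent.Characters
open Cfsg.Agent.H613.RegGram Cfsg.Agent.H648.HeightForm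

universe u

variable {G : Type u} [Group G] [Finite G] {M : Ideal AlgInt} {B : Set (IrrCharacter G)}

theorem four_dvd (hM : IsPModular 2 M) (hB : IsPBlock M B) (hd : 2 ≤ blockDefect 2 B) :
    4 ∣ Nat.card {χ : IrrCharacter G // χ ∈ B ∧ blockHeight 2 B (χ : G → ℂ) = 0} := by
  classical
  have : Fact (Nat.Prime 2) := ⟨Nat.prime_two⟩
  have hP : M.IsPrime := isPrime_of_isPModular hM
  have := Fintype.ofFinite G
  have := Core.finite_irr (G := G)
  have := Fintype.ofFinite (IrrCharacter G)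
  obtain ⟨χ, hχ, h0⟩ := exists_height_zero (p := 2) hB
  have hex : ∀ ψ : IrrCharacter G, ∃ n : ℤ, ψ ∈ B → (((2 ^ blockDefect 2 B : ℕ) : ℂ) *
      classInner (pRegularPart 2 (χ : G → ℂ)) (ψ : G → ℂ) = n ∧
      (2 : ℤ) ^ blockHeight 2 B (ψ : G → ℂ) ∣ n ∧
      ¬ (2 : ℤ) ^ (blockHeight 2 B (ψ : G → ℂ) + 1) ∣ n) := by
    intro ψ
    by_cases hψ : ψ ∈ B
    · obtain ⟨n, hn⟩ := exists_int_height (p := 2) hM hB hχ h0 hψ
      exact ⟨n, fun _ => hn⟩
    · exact ⟨0, fun h => absurd h hψ⟩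
  choose n hn using hex
  have h1 := sum_sq (p := 2) hM hB hχ
  have h2 : ((∑ ψ : IrrCharacter G with ψ ∈ B, n ψ ^ 2 : ℤ) : ℂ) =
      ((2 ^ blockDefect 2 B * n χ : ℤ) : ℂ) := by
    push_cast
    have h3 : ∀ ψ ∈ Finset.univ.filter (fun ψ : IrrCharacter G => ψ ∈ B), (n ψ : ℂ) ^ 2 =
        ((2 : ℂ) ^ blockDefect 2 B) ^ 2 *
          classInner (pRegularPart 2 (χ : G → ℂ)) (ψ : G → ℂ) ^ 2 := by
      intro ψ hψ
      rw [← (hn ψ (Finset.mem_filter.1 hψ).2).1]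
      push_cast
      ring
    rw [Finset.sum_congr rfl h3, ← Finset.mul_sum, h1, ← (hn χ hχ).1]
    push_cast
    ring
  have h3 : ∑ ψ : IrrCharacter G with ψ ∈ B, n ψ ^ 2 = 2 ^ blockDefect 2 B * n χ := by
    exact_mod_cast h2
  have h4 : ∀ ψ ∈ Finset.univ.filter (fun ψ : IrrCharacter G => ψ ∈ B),
      (4 : ℤ) ∣ n ψ ^ 2 - (if blockHeight 2 B (ψ : G → ℂ) = 0 then 1 else 0) := by
    intro ψ hψ
    obtain ⟨-, h5, h6⟩ := hn ψ (Finset.mem_filter.1 hψ).2
    split_ifs with h7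
    · rw [h7, zero_add, pow_one] at h6
      obtain ⟨c, hc⟩ : Odd (n ψ) := Int.not_even_iff_odd.1 fun h => h6 (even_iff_two_dvd.1 h)
      exact ⟨c ^ 2 + c, by rw [hc]; ring⟩
    · obtain ⟨c, hc⟩ := dvd_trans (dvd_pow_self 2 h7) h5
      exact ⟨c ^ 2, by rw [hc]; ring⟩
  have h5 := Finset.dvd_sum h4
  rw [Finset.sum_sub_distrib, h3] at h5
  have h6 : (4 : ℤ) ∣ 2 ^ blockDefect 2 B * n χ := by
    refine dvd_mul_of_dvd_left ?_ _
    exact (pow_dvd_pow 2 hd : (2 : ℤ) ^ 2 ∣ _)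
  have h7 := (dvd_sub_right h6).1 h5
  rw [Finset.sum_ite, Finset.sum_const_zero, add_zero, Finset.sum_const, nsmul_eq_mul, mul_one,
    Finset.filter_filter] at h7
  have h8 : Nat.card {χ : IrrCharacter G // χ ∈ B ∧ blockHeight 2 B (χ : G → ℂ) = 0} =
      (Finset.univ.filter fun χ : IrrCharacter G =>
        χ ∈ B ∧ blockHeight 2 B (χ : G → ℂ) = 0).card := by
    rw [Nat.card_eq_fintype_card, Fintype.card_subtype]
  rw [h8]
  exact_mod_cast h7

theorem one_le (hM : IsPModular 2 M) (hB : IsPBlock M B) :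
    1 ≤ Nat.card {χ : IrrCharacter G // χ ∈ B ∧ blockHeight 2 B (χ : G → ℂ) = 0} := by
  have hP : M.IsPrime := isPrime_of_isPModular hM
  have := Core.finite_irr (G := G)
  obtain ⟨χ, hχ, h0⟩ := exists_height_zero (p := 2) hB
  have : Nonempty {χ : IrrCharacter G // χ ∈ B ∧ blockHeight 2 B (χ : G → ℂ) = 0} :=
    ⟨⟨χ, hχ, h0⟩⟩
  exact Nat.card_pos

end Cfsg.Agent.H613.HtFour
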