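import Mathlib

/-!
# Numerical lemmas for columns of 2-blocks with dihedral defect groups
-/

set_option autoImplicit false

namespace Cfsg.Agent.H613.NumCol

theorem num_four {ι : Type*} [Fintype ι] (s : Finset ι) (f : ι → ℤ)
    (hf : ∀ i ∈ s, Odd (f i)) (hsum : ∑ i, f i ^ 2 = 4) (h4 : 4 ∣ s.card) (h1 : 1 ≤ s.card) :
    s.card = 4 ∧ (∀ i ∈ s, f i ^ 2 = 1) ∧ ∀ i ∉ s, f i = 0 := by
  classical
  have h2 : ∀ i ∈ s, 1 ≤ f i ^ 2 := by
    intro i hi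
    have h3 : f i ≠ 0 := by
      intro h
      have := hf i hi
      rw [h] at this
      exact absurd this (by decide)
    have := sq_nonneg (f i)
    have h4 : f i ^ 2 ≠ 0 := pow_ne_zero 2 h3
    omega
  have h3 : ∑ i ∈ s, f i ^ 2 + ∑ i ∈ sᶜ, f i ^ 2 = 4 := by
    rw [Finset.sum_add_sum_compl, hsum]
  have h5 : (s.card : ℤ) ≤ ∑ i ∈ s, f i ^ 2 := by
    have := Finset.card_nsmul_le_sum s (fun i => f i ^ 2) 1 h2
    simpa using this
  have h6 : 0 ≤ ∑ i ∈ sᶜ, f i ^ 2 := Finset.sum_nonneg fun i _ => sq_nonneg _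
  have h7 : s.card = 4 := by
    obtain ⟨k, hk⟩ := h4
    have : (s.card : ℤ) ≤ 4 := by linarith
    omega
  have h8 : ∑ i ∈ s, (f i ^ 2 - 1) = 0 := by
    have h9 : 0 ≤ ∑ i ∈ s, (f i ^ 2 - 1) := Finset.sum_nonneg fun i hi => by
      have := h2 i hi; omega
    rw [Finset.sum_sub_distrib, Finset.sum_const, nsmul_eq_mul, mul_one] at h9 ⊢
    rw [h7] at h9 ⊢
    push_cast at h9 ⊢
    omega
  have h9 : ∑ i ∈ sᶜ, f i ^ 2 = 0 := by
    rw [Finset.sum_sub_distrib, Finset.sum_const, nsmul_eq_mul, mul_one, h7] at h8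
    push_cast at h8
    omega
  refine ⟨h7, fun i hi => ?_, fun i hi => ?_⟩
  · have h10 := (Finset.sum_eq_zero_iff_of_nonneg (fun i hi => by
      have := h2 i hi; omega)).1 h8 i hi
    omega
  · have h10 := (Finset.sum_eq_zero_iff_of_nonneg (fun i _ => sq_nonneg _)).1 h9 i
      (Finset.mem_compl.2 hi)
    exact pow_eq_zero_iff two_ne_zero |>.1 h10

/-- `c ^ 2 - 4` for `c` even and nonzero. -/
theorem even_sq {c : ℤ} (he : Even c) (h0 : c ≠ 0) : c ^ 2 = 4 ∨ 16 ≤ c ^ 2 := by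
  obtain ⟨m, hm⟩ := he
  have h1 : c ^ 2 = 4 * m ^ 2 := by rw [hm]; ring
  have h2 : m ≠ 0 := by rintro rfl; exact h0 (by rw [hm]; rfl)
  have h3 : m ^ 2 = 1 ∨ 4 ≤ m ^ 2 := by
    by_cases h4 : |m| ≤ 1
    · left
      have h5 : |m| ≠ 0 := abs_ne_zero.2 h2
      have h6 : |m| = 1 := by have := abs_nonneg m; omega
      rw [← sq_abs, h6]; norm_num
    · right
      have h5 : 2 ≤ |m| := by omega
      have h6 : 2 ^ 2 ≤ |m| ^ 2 := pow_le_pow_left₀ (by norm_num) h5 2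
      rw [sq_abs] at h6
      linarith
  rcases h3 with h3 | h3
  · left; rw [h1, h3]; norm_num
  · right; rw [h1]; linarith

theorem odd_sq {c : ℤ} (he : Odd c) : ∃ k : ℤ, 0 ≤ k ∧ c ^ 2 - 1 = 8 * k := by
  obtain ⟨m, hm⟩ := he
  have h1 : c ^ 2 - 1 = 4 * (m * (m + 1)) := by rw [hm]; ring
  obtain ⟨k, hk⟩ := Int.even_mul_succ_self m
  refine ⟨k, ?_, by rw [h1, hk]; ring⟩
  have h2 : 0 ≤ c ^ 2 := sq_nonneg c
  have h3 : c ^ 2 - 1 = 8 * k := by rw [h1, hk]; ring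
  omega

theorem num_col {ι : Type*} [Fintype ι] (s : Finset ι) (c : ι → ℤ) (hs : s.card = 4)
    (ho : ∀ i ∈ s, Odd (c i)) (he : ∀ i ∉ s, Even (c i) ∧ c i ≠ 0) {j l ρ : ℕ}
    (hsum : ∑ i, c i ^ 2 = 4 * 2 ^ j) (hN : Fintype.card ι = l + (2 ^ j - 1 + ρ))
    (hl : 1 ≤ l) (hρ : 1 ≤ ρ) :
    (l + ρ = 4 ∧ (∀ i ∈ s, c i ^ 2 = 1) ∧ ∀ i ∉ s, c i ^ 2 = 4) ∨
      (l = 1 ∧ ρ = 1 ∧ (∃ i₀ ∈ s, c i₀ ^ 2 = 9 ∧ ∀ i ∈ s, i ≠ i₀ → c i ^ 2 = 1) ∧
        ∀ i ∉ s, c i ^ 2 = 4) := by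
  classical
  have h1 : ∑ i ∈ s, (c i ^ 2 - 1) + ∑ i ∈ sᶜ, (c i ^ 2 - 4) = 4 * (4 - (l : ℤ) - ρ) := by
    rw [Finset.sum_sub_distrib, Finset.sum_sub_distrib, Finset.sum_const, Finset.sum_const, hs,
      Finset.card_compl, hs]
    have h2 := Finset.sum_add_sum_compl s (fun i => c i ^ 2)
    rw [hsum] at h2
    have h3 : 1 ≤ 2 ^ j := Nat.one_le_two_pow
    have h4 : s.card ≤ Fintype.card ι := Finset.card_le_univ s
    rw [hs] at h4
    have h5 : (((Fintype.card ι - 4 : ℕ)) : ℤ) = (l : ℤ) + (2 ^ j - 1 + ρ) - 4 := by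
      rw [Nat.cast_sub h4, hN]
      push_cast [Nat.cast_sub h3]
      ring
    rw [nsmul_eq_mul, nsmul_eq_mul, h5]
    push_cast
    linarith
  have h2 : ∀ i ∈ s, 0 ≤ c i ^ 2 - 1 := fun i hi => by
    obtain ⟨k, hk, hk'⟩ := odd_sq (ho i hi)
    rw [hk']; linarith
  have h3 : ∀ i ∈ sᶜ, 0 ≤ c i ^ 2 - 4 := fun i hi => by
    rcases even_sq (he i (Finset.mem_compl.1 hi)).1 (he i (Finset.mem_compl.1 hi)).2 with h | h <;>
      linarith
  have h4 : 0 ≤ ∑ i ∈ s, (c i ^ 2 - 1) := Finset.sum_nonneg h2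
  have h5 : 0 ≤ ∑ i ∈ sᶜ, (c i ^ 2 - 4) := Finset.sum_nonneg h3
  have h6 : ∑ i ∈ sᶜ, (c i ^ 2 - 4) = 0 := by
    refine Finset.sum_eq_zero fun i hi => ?_
    rcases even_sq (he i (Finset.mem_compl.1 hi)).1 (he i (Finset.mem_compl.1 hi)).2 with h | h
    · linarith
    · exfalso
      have h7 := Finset.single_le_sum h3 hi
      omega
  have h7 : ∀ i ∉ s, c i ^ 2 = 4 := by
    intro i hi
    have := (Finset.sum_eq_zero_iff_of_nonneg h3).1 h6 i (Finset.mem_compl.2 hi)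
    linarith
  have hk : ∀ i, ∃ k : ℤ, i ∈ s → 0 ≤ k ∧ c i ^ 2 - 1 = 8 * k := by
    intro i
    by_cases hi : i ∈ s
    · obtain ⟨k, hk⟩ := odd_sq (ho i hi)
      exact ⟨k, fun _ => hk⟩
    · exact ⟨0, fun h => absurd h hi⟩
  choose k hk using hk
  have h8 : 8 * ∑ i ∈ s, k i = 4 * (4 - (l : ℤ) - ρ) := by
    rw [Finset.mul_sum, ← h1, h6, add_zero]
    exact Finset.sum_congr rfl fun i hi => (hk i hi).2.symm
  have h9 : 0 ≤ ∑ i ∈ s, k i := Finset.sum_nonneg fun i hi => (hk i hi).1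
  rcases eq_or_lt_of_le h9 with h10 | h10
  · left
    have h11 := (Finset.sum_eq_zero_iff_of_nonneg (fun i hi => (hk i hi).1)).1 h10.symm
    refine ⟨by omega, fun i hi => ?_, h7⟩
    have := (hk i hi).2
    rw [h11 i hi] at this
    linarith
  · right
    have h11 : ∑ i ∈ s, k i = 1 := by omega
    refine ⟨by omega, by omega, ?_, h7⟩
    obtain ⟨i₀, hi₀, hpos⟩ : ∃ i ∈ s, 0 < k i := by
      by_contra hcon
      push Not at hcon
      have := Finset.sum_nonpos hcon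
      omega
    have h12 := Finset.add_sum_erase s k hi₀
    rw [h11] at h12
    have h13 : 0 ≤ ∑ i ∈ s.erase i₀, k i :=
      Finset.sum_nonneg fun i hi => (hk i (Finset.mem_of_mem_erase hi)).1
    have h14 : k i₀ = 1 := by omega
    have h15 : ∑ i ∈ s.erase i₀, k i = 0 := by omega
    refine ⟨i₀, hi₀, ?_, fun i hi hne => ?_⟩
    · have := (hk i₀ hi₀).2
      rw [h14] at this
      linarith
    · have h16 := (Finset.sum_eq_zero_iff_of_nonneg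
        (fun i hi => (hk i (Finset.mem_of_mem_erase hi)).1)).1 h15 i (Finset.mem_erase.2 ⟨hne, hi⟩)
      have := (hk i hi).2
      rw [h16] at this
      linarith

end Cfsg.Agent.H613.NumCol
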