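import Mathlib
import Cfsg.Agent.H613.SubFus
import Cfsg.Agent.H617.ContrAvg
import Cfsg.Agent.H624.MajVal
import Cfsg.Agent.H646.DefectBasic
import Cfsg.Agent.S4675

/-!
# Columns of rank one subsections of 2-blocks

`(u, b)` a subsection of the 2-block `B` with `l(b) = 1`, `u ^ 2 ^ (j + 1) = 1`.  `Col M B u b j d a`:
`W 2 (u ^ k) b χ η = d η / 2 ^ q * ev j (a χ) k` for odd `k` and `η ∈ b`; the numbers
`ev j (a χ) k` are the generalized decomposition numbers.
-/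

set_option autoImplicit false
set_option linter.unusedSectionVars false

open Cfsg
open scoped ComplexConjugate

namespace Cfsg.Agent.H613.TwoCol

open Cfsg.Agent.Blocks.Blau Cfsg.Agent.Blocks.Local Cfsg.Agent.Characters
open Cfsg.Agent.H613.RegGram Cfsg.Agent.H613.Contrib Cfsg.Agent.H613.SubSys
open Cfsg.Agent.H613.ContribVal Cfsg.Agent.H613.SubFus
open Cfsg.Agent.H639 Cfsg.Agent.H649 Cfsg.Agent.H617.TwoAvg Cfsg.Agent.H617.ContrAvg

universe u

section gram

variable {K : Type u} [Group K] [Fintype K] {p : ℕ} [Fact p.Prime] {M : Ideal AlgInt}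

/-- The matrix `rg` of a block of rank one. -/
theorem exists_rank_one (hM : IsPModular p M) {c : Set (IrrCharacter K)} (hc : IsPBlock M c)
    (hl : blockRank p c = 1) {q : ℕ} (hq : q = blockDefect p c) :
    ∃ d : IrrCharacter K → ℕ, (∀ η ∈ c, 0 < d η) ∧ ∑ᶠ η ∈ c, d η ^ 2 = p ^ q ∧
      ∀ (η : IrrCharacter K), η ∈ c → ∀ (η' : IrrCharacter K), η' ∈ c →
        rg p (η : K → ℂ) (η' : K → ℂ) = (d η : ℂ) * (d η' : ℂ) / (p : ℂ) ^ q := by
  classical
  have := Core.finite_irr (G := K)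
  have := Fintype.ofFinite (IrrCharacter K)
  have := Fintype.ofFinite c
  obtain ⟨D, hD⟩ := Cfsg.Agent.H646.DefectBasic.exists_isDefectGroup hM hc
  obtain ⟨φ, d, _, hd, hsum⟩ := S4675.result p M hM c hc D hD hl
  have hcard : Nat.card D = p ^ q := by
    rw [hq]; exact S0908.result p M hM c hc D hD
  rw [hcard] at hsum
  have hr : ∀ (η : IrrCharacter K), η ∈ c → ∀ (η' : IrrCharacter K), η' ∈ c →
      rg p (η : K → ℂ) (η' : K → ℂ) = (d η : ℂ) * (d η' : ℂ) * rg p φ φ := by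
    intro η hη η' hη'
    rw [rg_def, rg_def, pair_eq_sum_filter, pair_eq_sum_filter]
    have e1 : ∑ x : K with ¬ p ∣ orderOf x, (η : K → ℂ) x * conj ((η' : K → ℂ) x) =
        (d η : ℂ) * (d η' : ℂ) * ∑ x : K with ¬ p ∣ orderOf x, φ x * conj (φ x) := by
      rw [Finset.mul_sum]
      refine Finset.sum_congr rfl fun x hx => ?_
      have hx' : ¬ p ∣ orderOf x := (Finset.mem_filter.1 hx).2
      rw [hd η hη x hx', hd η' hη' x hx', map_mul, Complex.conj_natCast]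
      ring
    rw [e1]
    ring
  have hp0 : (p : ℂ) ^ q ≠ 0 := pow_ne_zero _ (by exact_mod_cast hM.1.ne_zero)
  have h1 := sum_rg_self hM hc
  rw [hl] at h1
  have h2 : ∑ ζ : c, rg p ((ζ : IrrCharacter K) : K → ℂ) ((ζ : IrrCharacter K) : K → ℂ) =
      (p : ℂ) ^ q * rg p φ φ := by
    have h3 : ∑ ζ : c, d (ζ : IrrCharacter K) ^ 2 = p ^ q := by
      rw [← hsum, ← finsum_set_coe_eq_finsum_mem, finsum_eq_sum_of_fintype]
    have h3' : ∀ ζ : c, rg p ((ζ : IrrCharacter K) : K → ℂ) ((ζ : IrrCharacter K) : K → ℂ) =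
        (d (ζ : IrrCharacter K) : ℂ) * (d (ζ : IrrCharacter K) : ℂ) * rg p φ φ :=
      fun ζ => hr (ζ : IrrCharacter K) ζ.2 (ζ : IrrCharacter K) ζ.2
    rw [Finset.sum_congr rfl fun ζ _ => h3' ζ, ← Finset.sum_mul]
    congr 1
    have h4 : ((∑ ζ : c, d (ζ : IrrCharacter K) ^ 2 : ℕ) : ℂ) = (p : ℂ) ^ q := by
      rw [h3]; push_cast; rfl
    rw [← h4]
    push_cast
    exact Finset.sum_congr rfl fun ζ _ => by ring
  rw [h2] at h1
  have h5 : rg p φ φ = 1 / (p : ℂ) ^ q := by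
    rw [eq_div_iff hp0, mul_comm, h1, Nat.cast_one]
  refine ⟨d, fun η hη => ?_, hsum, fun η hη η' hη' => by rw [hr η hη η' hη', h5]; ring⟩
  by_contra h0
  have h6 : d η = 0 := by omega
  have h7 := hd η hη 1 (by rw [IsPRegular, orderOf_one]; exact hM.1.one_lt.ne' ∘ Nat.dvd_one.1)
  rw [h6, Nat.cast_zero, zero_mul] at h7
  exact apply_one_ne_zero η h7

end gram

section col

variable {G : Type u} [Group G] [Finite G] {M : Ideal AlgInt} {B : Set (IrrCharacter G)}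

/-- The columns of a rank one subsection and its odd powers. -/
structure Col (M : Ideal AlgInt) (B : Set (IrrCharacter G)) (u : G) (b : BrauerPairIdx G)
    (j : ℕ) (d : IrrCharacter (Subgroup.centralizer (b.1 : Set G)) → ℕ)
    (a : IrrCharacter G → ℕ → ℤ) : Prop where
  sub : IsSubsec 2 M B u b
  pow : u ^ 2 ^ (j + 1) = 1
  val : ∀ (χ : IrrCharacter G) (k : ℕ), Odd k →
    ∀ η : IrrCharacter (Subgroup.centralizer (b.1 : Set G)), η ∈ b.2 →
    W 2 (u ^ k) b (χ : G → ℂ) η = (d η : ℂ) / 2 ^ blockDefect 2 b.2 * ev j (a χ) k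
  pos : ∀ η ∈ b.2, 0 < d η
  sum : ∑ᶠ η ∈ b.2, d η ^ 2 = 2 ^ blockDefect 2 b.2

omit [Finite G] in
theorem zpowers_pow_odd {u : G} {j k : ℕ} (hu : u ^ 2 ^ (j + 1) = 1) (hk : Odd k) :
    Subgroup.zpowers (u ^ k) = Subgroup.zpowers u := by
  have h1 : (orderOf u).Coprime k := by
    have h2 : orderOf u ∣ 2 ^ (j + 1) := orderOf_dvd_of_pow_eq_one hu
    exact Nat.Coprime.coprime_dvd_left h2 (Nat.Coprime.pow_left _ (Nat.coprime_two_left.2 hk))
  refine le_antisymm ?_ ?_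
  · rw [Subgroup.zpowers_le]
    exact Subgroup.npow_mem_zpowers u k
  · rw [Subgroup.zpowers_le]
    obtain ⟨m, hm⟩ := exists_pow_eq_self_of_coprime h1.symm
    have h3 := Subgroup.npow_mem_zpowers (u ^ k) m
    rwa [hm] at h3

theorem _root_.Cfsg.Agent.H613.SubSys.IsSubsec.pow {u : G} {b : BrauerPairIdx G}
    (h : IsSubsec 2 M B u b) {j k : ℕ}
    (hu : u ^ 2 ^ (j + 1) = 1) (hk : Odd k) : IsSubsec 2 M B (u ^ k) b where
  fst := by rw [h.fst, zpowers_pow_odd hu hk]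
  pelt := by
    have h2 : orderOf (u ^ k) ∣ 2 ^ (j + 1) := by
      apply orderOf_dvd_of_pow_eq_one
      rw [← pow_mul, mul_comm, pow_mul, hu, one_pow]
    obtain ⟨i, _, hi⟩ := (Nat.dvd_prime_pow Nat.prime_two).1 h2
    exact ⟨i, hi⟩
  ind := h.ind

theorem exists_col (hM : IsPModular 2 M) {u : G} {b : BrauerPairIdx G}
    (h : IsSubsec 2 M B u b) (hl : blockRank 2 b.2 = 1) {j : ℕ} (hu : u ^ 2 ^ (j + 1) = 1) :
    ∃ d a, Col M B u b j d a := by
  classical
  have : Fact (Nat.Prime 2) := ⟨Nat.prime_two⟩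
  have := Core.finite_irr (G := Subgroup.centralizer (b.1 : Set G))
  have := Fintype.ofFinite (IrrCharacter (Subgroup.centralizer (b.1 : Set G)))
  have := Fintype.ofFinite (Subgroup.centralizer (b.1 : Set G))
  have := Fintype.ofFinite b.2
  obtain ⟨d, hd1, hd2, hd3⟩ := exists_rank_one hM h.ind.1 hl rfl
  obtain ⟨n, e, hE⟩ := exists_exp h.centralizer_eq hu
  have key : ∀ χ : IrrCharacter G, ∃ a : ℕ → ℤ, ∀ k, Odd k →
      ∑ ξ : b.2, ((n χ ξ * d ξ : ℤ) : ℂ) * e ξ ^ k = ev j a k := by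
    intro χ
    obtain ⟨a, ha⟩ := exists_ev_sum (Finset.univ : Finset b.2) (j := j)
      (fun ξ => (n χ ξ * d ξ : ℤ)) (fun ξ => e ξ) (fun ξ _ => hE.root ξ)
    exact ⟨a, fun k hk => ha k hk⟩
  choose a ha using key
  refine ⟨d, a, h, hu, fun χ k hk η hη => ?_, hd1, hd2⟩
  rw [W_eq, wt_eq_sum hM hE h.ind.1 χ k hη, ← ha χ k hk, Finset.mul_sum]
  refine Finset.sum_congr rfl fun ξ _ => ?_
  have h3 := hd3 ξ ξ.2 η hη
  rw [h3]
  push_cast
  ring

variable {u : G} {b : BrauerPairIdx G} {j : ℕ}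
  {d : IrrCharacter (Subgroup.centralizer (b.1 : Set G)) → ℕ} {a : IrrCharacter G → ℕ → ℤ}

theorem Col.Cn_eq (h : Col M B u b j d a) (χ ψ : IrrCharacter G) {k : ℕ} (hk : Odd k) :
    Cn 2 (u ^ k) b (χ : G → ℂ) (ψ : G → ℂ) =
      ev j (a χ) k * conj (ev j (a ψ) k) / 2 ^ blockDefect 2 b.2 := by
  have := Core.finite_irr (G := Subgroup.centralizer (b.1 : Set G))
  have := Fintype.ofFinite b.2
  have h1 : ∑ η : b.2, d (η : IrrCharacter (Subgroup.centralizer (b.1 : Set G))) ^ 2 =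
      2 ^ blockDefect 2 b.2 := by
    rw [← h.sum, ← finsum_set_coe_eq_finsum_mem, finsum_eq_sum_of_fintype]
  have h2 : (∑ η : b.2, (d (η : IrrCharacter (Subgroup.centralizer (b.1 : Set G))) : ℂ) ^ 2) =
      2 ^ blockDefect 2 b.2 := by exact_mod_cast h1
  have hp0 : (2 : ℂ) ^ blockDefect 2 b.2 ≠ 0 := pow_ne_zero _ two_ne_zero
  rw [Cn_eq_sum]
  have h3 : ∀ η : b.2, W 2 (u ^ k) b (χ : G → ℂ) η * conj (W 2 (u ^ k) b (ψ : G → ℂ) η) =
      (d (η : IrrCharacter (Subgroup.centralizer (b.1 : Set G))) : ℂ) ^ 2 *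
        (ev j (a χ) k * conj (ev j (a ψ) k) / 2 ^ blockDefect 2 b.2 /
          2 ^ blockDefect 2 b.2) := by
    intro η
    rw [h.val χ k hk η η.2, h.val ψ k hk η η.2]
    simp only [map_mul, map_div₀, map_pow, Complex.conj_natCast, map_ofNat]
    field_simp
  rw [Finset.sum_congr rfl fun η _ => h3 η, ← Finset.sum_mul, h2]
  field_simp

/-- The Gram matrix of the columns of one subsection. -/
theorem Col.sum_sq [Fintype B] (hM : IsPModular 2 M) (h : Col M B u b j d a) {k : ℕ}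
    (hk : Odd k) (hl : blockRank 2 b.2 = 1) :
    ∑ χ : B, ev j (a χ) k * conj (ev j (a χ) k) = 2 ^ blockDefect 2 b.2 := by
  have : Fact (Nat.Prime 2) := ⟨Nat.prime_two⟩
  have h1 := (h.sub.pow h.pow hk).sum_Cn_self hM
  have h2 : ∀ χ : B, Cn 2 (u ^ k) b ((χ : IrrCharacter G) : G → ℂ)
      ((χ : IrrCharacter G) : G → ℂ) =
      ev j (a χ) k * conj (ev j (a χ) k) / 2 ^ blockDefect 2 b.2 :=
    fun χ => h.Cn_eq (χ : IrrCharacter G) (χ : IrrCharacter G) hk
  rw [hl, Nat.cast_one, Finset.sum_congr rfl fun χ _ => h2 χ, ← Finset.sum_div] at h1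
  have hp0 : (2 : ℂ) ^ blockDefect 2 b.2 ≠ 0 := pow_ne_zero _ two_ne_zero
  rw [div_eq_one_iff_eq hp0] at h1
  exact h1

/-- Height zero characters have unit generalized decomposition numbers. -/
theorem Col.not_memLocalIdeal (hM : IsPModular 2 M) (h : Col M B u b j d a)
    {χ : IrrCharacter G} (hχ : χ ∈ B) (hχ0 : blockHeight 2 B (χ : G → ℂ) = 0) {k : ℕ}
    (hk : Odd k) : ¬ MemLocalIdeal M (ev j (a χ) k) := by
  have : Fact (Nat.Prime 2) := ⟨Nat.prime_two⟩
  have := isPrime_of_isPModular hM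
  have := Core.finite_irr (G := Subgroup.centralizer (b.1 : Set G))
  have := Fintype.ofFinite (IrrCharacter (Subgroup.centralizer (b.1 : Set G)))
  have := Fintype.ofFinite (Subgroup.centralizer (b.1 : Set G))
  have := Fintype.ofFinite G
  have := Fintype.ofFinite b.2
  obtain ⟨n, e, hE⟩ := exists_exp h.sub.centralizer_eq h.pow
  have h1 := not_memLocalIdeal_contr hM hE h.sub.ind hχ hχ hχ0 hχ0 (k := k)
    (by rw [h.sub.centralizer_eq, centralizer_odd_pow h.pow hk])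
  rw [← SubSys.Cn_eq, h.Cn_eq χ χ hk] at h1
  intro h2
  apply h1
  have hp0 : (2 : ℂ) ^ blockDefect 2 b.2 ≠ 0 := pow_ne_zero _ two_ne_zero
  rw [Nat.cast_ofNat, mul_div_cancel₀ _ hp0]
  refine memLocalIdeal_mul_right h2 ?_
  refine memLocalRing_of_isIntegral ?_
  have h3 : IsIntegral ℤ (ev j (a χ) k) := by
    rw [ev_def]
    refine IsIntegral.sum _ fun m _ => ?_
    refine IsIntegral.mul (isIntegral_algebraMap (R := ℤ) (A := ℂ)) (IsIntegral.pow ?_ _)
    exact (isPrimitiveRoot_w j).isIntegral (by positivity)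
  exact Cfsg.Agent.Blocks.Blau.isIntegral_conj h3

end col

end Cfsg.Agent.H613.TwoCol
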