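import Mathlib
import Cfsg.Agent.H613.TwoCol

/-!
# Orthogonality and Galois conjugation of the columns of rank one subsections of 2-blocks
-/

set_option autoImplicit false
set_option linter.unusedSectionVars false

open Cfsg
open scoped ComplexConjugate

namespace Cfsg.Agent.H613.TwoCol

open Cfsg.Agent.Blocks.Blau Cfsg.Agent.Blocks.Local Cfsg.Agent.Characters
open Cfsg.Agent.H613.RegGram Cfsg.Agent.H613.Contrib Cfsg.Agent.H613.SubSys
open Cfsg.Agent.H613.ContribVal Cfsg.Agent.H613.SubFus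
open Cfsg.Agent.H639 Cfsg.Agent.H649 Cfsg.Agent.H617.TwoAvg Cfsg.Agent.H617.ContrAvg

universe u

variable {G : Type u} [Group G] [Finite G] {M : Ideal AlgInt} {B : Set (IrrCharacter G)}

theorem Col.nonempty {u : G} {b : BrauerPairIdx G} {j : ℕ}
    {d : IrrCharacter (Subgroup.centralizer (b.1 : Set G)) → ℕ} {a : IrrCharacter G → ℕ → ℤ}
    (hM : IsPModular 2 M) (h : Col M B u b j d a) : ∃ η, η ∈ b.2 :=
  isPBlock_nonempty hM h.sub.ind.1

/-- Orthogonality of columns. -/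
theorem Col.orth [Fintype B] (hM : IsPModular 2 M) {u u' : G} {b b' : BrauerPairIdx G}
    {j j' : ℕ}
    {d : IrrCharacter (Subgroup.centralizer (b.1 : Set G)) → ℕ} {a : IrrCharacter G → ℕ → ℤ}
    {d' : IrrCharacter (Subgroup.centralizer (b'.1 : Set G)) → ℕ} {a' : IrrCharacter G → ℕ → ℤ}
    (h : Col M B u b j d a) (h' : Col M B u' b' j' d' a') {k k' : ℕ} (hk : Odd k) (hk' : Odd k')
    (hne : ¬ ∃ x : G, x * u ^ k * x⁻¹ = u' ^ k' ∧ conjIdx x b = b') :
    ∑ χ : B, ev j (a χ) k * conj (ev j' (a' χ) k') = 0 := by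
  have : Fact (Nat.Prime 2) := ⟨Nat.prime_two⟩
  obtain ⟨η, hη⟩ := h.nonempty hM
  obtain ⟨η', hη'⟩ := h'.nonempty hM
  have h1 := orth_of_not_conj hM (h.sub.pow h.pow hk) (h'.sub.pow h'.pow hk') hne hη hη'
  have hd : (d η : ℂ) ≠ 0 := by exact_mod_cast (h.pos η hη).ne'
  have hd' : (d' η' : ℂ) ≠ 0 := by exact_mod_cast (h'.pos η' hη').ne'
  have h2 : ∀ χ : B, W 2 (u ^ k) b ((χ : IrrCharacter G) : G → ℂ) η *
      conj (W 2 (u' ^ k') b' ((χ : IrrCharacter G) : G → ℂ) η') =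
      (d η : ℂ) / 2 ^ blockDefect 2 b.2 * ((d' η' : ℂ) / 2 ^ blockDefect 2 b'.2) *
        (ev j (a χ) k * conj (ev j' (a' χ) k')) := by
    intro χ
    rw [h.val χ k hk η hη, h'.val χ k' hk' η' hη']
    simp only [map_mul, map_div₀, map_pow, Complex.conj_natCast, map_ofNat]
    ring
  rw [Finset.sum_congr rfl fun χ _ => h2 χ, ← Finset.mul_sum] at h1
  have h3 : (d η : ℂ) / 2 ^ blockDefect 2 b.2 * ((d' η' : ℂ) / 2 ^ blockDefect 2 b'.2) ≠ 0 :=
    mul_ne_zero (div_ne_zero hd (pow_ne_zero _ two_ne_zero))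
      (div_ne_zero hd' (pow_ne_zero _ two_ne_zero))
  exact (mul_eq_zero.1 h1).resolve_left h3

/-- Transport along an element fixing the pair. -/
theorem exists_W_conj {p : ℕ} {x v : G} {b : BrauerPairIdx G} (hb : conjIdx x b = b)
    (η' : IrrCharacter (Subgroup.centralizer (b.1 : Set G))) (hη' : η' ∈ b.2) :
    ∃ η : IrrCharacter (Subgroup.centralizer (b.1 : Set G)), η ∈ b.2 ∧
      ∀ χ : G → ℂ, IsClassFunction G χ → W p (x * v * x⁻¹) b χ η' = W p v b χ η := by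
  have key : ∀ c : BrauerPairIdx G, c = conjIdx x b →
      ∀ η' : IrrCharacter (Subgroup.centralizer (c.1 : Set G)), η' ∈ c.2 →
      ∃ η : IrrCharacter (Subgroup.centralizer (b.1 : Set G)), η ∈ b.2 ∧
      ∀ χ : G → ℂ, IsClassFunction G χ → W p (x * v * x⁻¹) c χ η' = W p v b χ η := by
    rintro c rfl η' hη'
    obtain ⟨η, rfl⟩ := exists_cjI x b η'
    exact ⟨η, (cjI_mem x b η).1 hη', fun χ hχ => W_conj p x v b hχ η⟩
  exact key b hb.symm η' hη'

/-- The columns at `u ^ k` and `u ^ (m k)` agree if `u` and `u ^ m` are conjugate by an element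
fixing the pair. -/
theorem Col.ev_eq (hM : IsPModular 2 M)
    {u : G} {b : BrauerPairIdx G} {j : ℕ}
    {d : IrrCharacter (Subgroup.centralizer (b.1 : Set G)) → ℕ} {a : IrrCharacter G → ℕ → ℤ}
    (h : Col M B u b j d a) (hl : blockRank 2 b.2 = 1) {x : G} {k k' : ℕ} (hk : Odd k)
    (hk' : Odd k') (hx : x * u ^ k * x⁻¹ = u ^ k') (hb : conjIdx x b = b)
    (χ : IrrCharacter G) : ev j (a χ) k' = ev j (a χ) k := by
  have : Fact (Nat.Prime 2) := ⟨Nat.prime_two⟩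
  have := Core.finite_irr (G := G)
  have := Fintype.ofFinite B
  obtain ⟨η', hη'⟩ := h.nonempty hM
  obtain ⟨η, hη, hW⟩ := exists_W_conj (p := 2) (v := u ^ k) hb η' hη'
  have hp0 : (2 : ℂ) ^ blockDefect 2 b.2 ≠ 0 := pow_ne_zero _ two_ne_zero
  have h1 : ∀ ψ : IrrCharacter G, (d η' : ℂ) * ev j (a ψ) k' = (d η : ℂ) * ev j (a ψ) k := by
    intro ψ
    have h2 := hW (ψ : G → ℂ) (isClassFunction_coe ψ)
    rw [hx, h.val ψ k' hk' η' hη', h.val ψ k hk η hη] at h2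
    field_simp at h2
    exact h2
  have h3 := h.sum_sq hM hk hl
  have h4 := h.sum_sq hM hk' hl
  have h5 : ((d η' : ℂ)) ^ 2 * 2 ^ blockDefect 2 b.2 = (d η : ℂ) ^ 2 * 2 ^ blockDefect 2 b.2 := by
    conv_lhs => rw [← h4]
    conv_rhs => rw [← h3]
    rw [Finset.mul_sum, Finset.mul_sum]
    refine Finset.sum_congr rfl fun ψ _ => ?_
    have e1 : (d η' : ℂ) ^ 2 * (ev j (a ψ) k' * conj (ev j (a ψ) k')) =
        ((d η' : ℂ) * ev j (a ψ) k') * conj ((d η' : ℂ) * ev j (a ψ) k') := by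
      rw [map_mul, Complex.conj_natCast]; ring
    have e2 : (d η : ℂ) ^ 2 * (ev j (a ψ) k * conj (ev j (a ψ) k)) =
        ((d η : ℂ) * ev j (a ψ) k) * conj ((d η : ℂ) * ev j (a ψ) k) := by
      rw [map_mul, Complex.conj_natCast]; ring
    rw [e1, e2, h1]
  have h6 : ((d η' : ℂ)) ^ 2 = (d η : ℂ) ^ 2 := mul_right_cancel₀ hp0 h5
  have h7 : d η' = d η := by
    have h8 : d η' ^ 2 = d η ^ 2 := by exact_mod_cast h6
    exact (Nat.pow_left_inj two_ne_zero).1 h8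
  have h9 := h1 χ
  rw [h7] at h9
  exact mul_left_cancel₀ (by exact_mod_cast (h.pos η hη).ne') h9

end Cfsg.Agent.H613.TwoCol
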