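import Mathlib
import Cfsg.Agent.H613.TwoColB

/-!
# The norm of the trace of the columns of a rank one subsection
-/

set_option autoImplicit false
set_option linter.unusedSectionVars false

open Cfsg
open scoped ComplexConjugate

namespace Cfsg.Agent.H613.TwoCol

open Cfsg.Agent.Blocks.Blau Cfsg.Agent.Blocks.Local Cfsg.Agent.Characters
open Cfsg.Agent.H613.RegGram Cfsg.Agent.H613.Contrib Cfsg.Agent.H613.SubSys
open Cfsg.Agent.H613.ContribVal Cfsg.Agent.H613.SubFus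
open Cfsg.Agent.H639 Cfsg.Agent.H649 Cfsg.Agent.H617.TwoAvg Cfsg.Agent.H617.ContrAvg

universe u

variable {G : Type u} [Group G] [Finite G] {M : Ideal AlgInt} {B : Set (IrrCharacter G)}
  {u : G} {b : BrauerPairIdx G} {j : ℕ}
  {d : IrrCharacter (Subgroup.centralizer (b.1 : Set G)) → ℕ} {a : IrrCharacter G → ℕ → ℤ}

/-- The Gram matrix of the columns at the powers of `u`. -/
theorem Col.sum_ev_ev [Fintype B] (hM : IsPModular 2 M) (h : Col M B u b j d a)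
    (hl : blockRank 2 b.2 = 1) {k k' : ℕ} (hk : Odd k) (hk' : Odd k')
    [Decidable (∃ x : G, x * u ^ k * x⁻¹ = u ^ k' ∧ conjIdx x b = b)] :
    ∑ χ : B, ev j (a χ) k * conj (ev j (a χ) k') =
      if ∃ x : G, x * u ^ k * x⁻¹ = u ^ k' ∧ conjIdx x b = b
        then (2 : ℂ) ^ blockDefect 2 b.2 else 0 := by
  split_ifs with hx
  · obtain ⟨x, hx1, hx2⟩ := hx
    rw [← h.sum_sq hM hk hl]
    refine Finset.sum_congr rfl fun χ _ => ?_
    rw [h.ev_eq hM hl hk hk' hx1 hx2 χ]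
  · exact h.orth hM h hk hk' hx

/-- The sum of the squares of the constant coefficients. -/
theorem Col.sum_sq_zero [Fintype B] (hM : IsPModular 2 M) (h : Col M B u b j d a)
    (hl : blockRank 2 b.2 = 1) {m : ℕ} (hm : Odd m) (hm1 : ¬ m ≡ 1 [MOD 2 ^ (j + 1)])
    (hconj : ∀ k k' : ℕ, k ∈ oddSet (j + 1) → k' ∈ oddSet (j + 1) →
      ((∃ x : G, x * u ^ k * x⁻¹ = u ^ k' ∧ conjIdx x b = b) ↔
        (k' = k ∨ k' = m * k % 2 ^ (j + 1)))) :
    (2 : ℤ) ^ j * ∑ χ : B, a χ 0 ^ 2 = 2 * 2 ^ blockDefect 2 b.2 := by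
  classical
  have h1 : ∀ χ : B, ((2 : ℂ) ^ j * (a χ 0 : ℂ)) * ((2 : ℂ) ^ j * (a χ 0 : ℂ)) =
      ∑ k ∈ oddSet (j + 1), ∑ k' ∈ oddSet (j + 1), ev j (a χ) k * conj (ev j (a χ) k') := by
    intro χ
    have h2 : conj ((2 : ℂ) ^ j * (a χ 0 : ℂ)) = (2 : ℂ) ^ j * (a χ 0 : ℂ) := by
      rw [map_mul, map_pow, map_ofNat, map_intCast]
    have h3 : (2 : ℂ) ^ j * (a χ 0 : ℂ) * ((2 : ℂ) ^ j * (a χ 0 : ℂ)) =
        (2 : ℂ) ^ j * (a χ 0 : ℂ) * conj ((2 : ℂ) ^ j * (a χ 0 : ℂ)) := by rw [h2]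
    rw [h3, ← sum_ev, map_sum, Finset.sum_mul_sum]
  have h2 : ∑ χ : B, ((2 : ℂ) ^ j * (a χ 0 : ℂ)) * ((2 : ℂ) ^ j * (a χ 0 : ℂ)) =
      ∑ k ∈ oddSet (j + 1), ∑ k' ∈ oddSet (j + 1),
        ∑ χ : B, ev j (a χ) k * conj (ev j (a χ) k') := by
    rw [Finset.sum_congr rfl fun χ _ => h1 χ, Finset.sum_comm]
    refine Finset.sum_congr rfl fun k _ => ?_
    rw [Finset.sum_comm]
  have hN : 1 < 2 ^ (j + 1) := Nat.one_lt_two_pow (Nat.succ_ne_zero j)
  have h3 : ∀ k ∈ oddSet (j + 1), ∑ k' ∈ oddSet (j + 1),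
      ∑ χ : B, ev j (a χ) k * conj (ev j (a χ) k') = 2 * (2 : ℂ) ^ blockDefect 2 b.2 := by
    intro k hk
    have hk2 := mem_oddSet.1 hk
    have hmk : m * k % 2 ^ (j + 1) ∈ oddSet (j + 1) := by
      rw [mem_oddSet]
      refine ⟨Nat.mod_lt _ (by positivity), ?_⟩
      have h4 : Odd (m * k) := hm.mul hk2.2
      rw [Nat.odd_iff] at h4 ⊢
      rw [Nat.mod_mod_of_dvd _ (dvd_pow_self 2 (Nat.succ_ne_zero j))]
      exact h4
    have hne : k ≠ m * k % 2 ^ (j + 1) := by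
      intro h4
      apply hm1
      have h5 : m * k ≡ 1 * k [MOD 2 ^ (j + 1)] := by
        rw [one_mul]
        unfold Nat.ModEq
        rw [← h4, Nat.mod_eq_of_lt hk2.1]
      refine Nat.ModEq.cancel_right_of_coprime ?_ h5
      exact Nat.Coprime.pow_left _ (Nat.coprime_two_left.2 hk2.2)
    have h4 : ∀ k' ∈ oddSet (j + 1), ∑ χ : B, ev j (a χ) k * conj (ev j (a χ) k') =
        if k' = k ∨ k' = m * k % 2 ^ (j + 1) then (2 : ℂ) ^ blockDefect 2 b.2 else 0 := by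
      intro k' hk'
      rw [h.sum_ev_ev hM hl hk2.2 (mem_oddSet.1 hk').2]
      simp only [hconj k k' hk hk']
    rw [Finset.sum_congr rfl h4, ← Finset.sum_filter, Finset.sum_const]
    have h5 : (oddSet (j + 1)).filter (fun k' => k' = k ∨ k' = m * k % 2 ^ (j + 1)) =
        {k, m * k % 2 ^ (j + 1)} := by
      ext k'
      rw [Finset.mem_filter, Finset.mem_insert, Finset.mem_singleton]
      constructor
      · exact fun h6 => h6.2
      · intro h6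
        refine ⟨?_, h6⟩
        rcases h6 with rfl | rfl
        · exact hk
        · exact hmk
    rw [h5, Finset.card_pair hne, nsmul_eq_mul]
    norm_num
  rw [Finset.sum_congr rfl h3, Finset.sum_const, card_oddSet, nsmul_eq_mul] at h2
  have h4 : ((2 : ℂ) ^ j) * ((2 : ℂ) ^ j * ∑ χ : B, (a χ 0 : ℂ) ^ 2) =
      (2 : ℂ) ^ j * (2 * (2 : ℂ) ^ blockDefect 2 b.2) := by
    have h5 : ((2 : ℂ) ^ j) * ((2 : ℂ) ^ j * ∑ χ : B, (a χ 0 : ℂ) ^ 2) =
        ∑ χ : B, ((2 : ℂ) ^ j * (a χ 0 : ℂ)) * ((2 : ℂ) ^ j * (a χ 0 : ℂ)) := by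
      rw [Finset.mul_sum, Finset.mul_sum]
      exact Finset.sum_congr rfl fun χ _ => by ring
    rw [h5, h2]
    push_cast
    ring
  have h5 := mul_left_cancel₀ (pow_ne_zero j (two_ne_zero (α := ℂ))) h4
  exact_mod_cast h5

/-- The trace `a χ 0` is odd for characters of height zero, if the columns are real. -/
theorem Col.odd_zero (hM : IsPModular 2 M) (h : Col M B u b j d a)
    (hreal : ∀ χ : IrrCharacter G, ∀ k ∈ oddSet (j + 1), conj (ev j (a χ) k) = ev j (a χ) k)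
    {χ : IrrCharacter G} (hχ : χ ∈ B) (hχ0 : blockHeight 2 B (χ : G → ℂ) = 0) :
    Odd (a χ 0) := by
  have h1 := h.not_memLocalIdeal hM hχ hχ0 (k := 1) odd_one
  rw [memLocalIdeal_ev_iff hM, sum_eq_of_real (hreal χ)] at h1
  exact Int.not_even_iff_odd.1 (fun h2 => h1 (by
    obtain ⟨c, hc⟩ := h2
    exact ⟨c, by rw [hc]; ring⟩))

end Cfsg.Agent.H613.TwoCol
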