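import Mathlib
import Cfsg.Agent.H613.TwoColC
import Cfsg.Agent.H658.MajorVal

/-!
# Valuations of the columns of major involutions
-/

set_option autoImplicit false
set_option linter.unusedSectionVars false

open Cfsg
open scoped ComplexConjugate

namespace Cfsg.Agent.H613.TwoCol

open Cfsg.Agent.Blocks.Blau Cfsg.Agent.Blocks.Local Cfsg.Agent.Characters
open Cfsg.Agent.H613.RegGram Cfsg.Agent.H613.Contrib Cfsg.Agent.H613.SubSys
open Cfsg.Agent.H613.ContribVal Cfsg.Agent.H613.SubFus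
open Cfsg.Agent.H639 Cfsg.Agent.H649 Cfsg.Agent.H617.TwoAvg Cfsg.Agent.H617.ContrAvg

universe u

theorem ev_zero (a : ℕ → ℤ) (k : ℕ) : ev 0 a k = (a 0 : ℂ) := by
  rw [ev_def]
  simp

variable {G : Type u} [Group G] [Finite G] {M : Ideal AlgInt} {B : Set (IrrCharacter G)}
  {u : G} {b : BrauerPairIdx G}
  {d : IrrCharacter (Subgroup.centralizer (b.1 : Set G)) → ℕ} {a : IrrCharacter G → ℕ → ℤ}

/-- Columns of involutions: `∑ a² = 2 ^ q`. -/
theorem Col.sum_sq_int [Fintype B] (hM : IsPModular 2 M) (h : Col M B u b 0 d a)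
    (hl : blockRank 2 b.2 = 1) : ∑ χ : B, a χ 0 ^ 2 = 2 ^ blockDefect 2 b.2 := by
  have h1 := h.sum_sq hM (k := 1) odd_one hl
  simp only [ev_zero, map_intCast] at h1
  have h2 : ((∑ χ : B, a χ 0 ^ 2 : ℤ) : ℂ) = ((2 ^ blockDefect 2 b.2 : ℤ) : ℂ) := by
    push_cast
    rw [← h1]
    exact Finset.sum_congr rfl fun χ _ => by ring
  exact_mod_cast h2

/-- Major involutions: the 2-part of `a χ 0` is `2 ^ ht χ`. -/
theorem Col.val_major (hM : IsPModular 2 M) (h : Col M B u b 0 d a)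
    (hd : blockDefect 2 b.2 = blockDefect 2 B) {χ : IrrCharacter G} (hχ : χ ∈ B) :
    ∃ c : ℤ, Odd c ∧ a χ 0 = 2 ^ blockHeight 2 B (χ : G → ℂ) * c := by
  have : Fact (Nat.Prime 2) := ⟨Nat.prime_two⟩
  have hP := isPrime_of_isPModular hM
  have := Fintype.ofFinite (Subgroup.centralizer (b.1 : Set G))
  have := Core.finite_irr (G := Subgroup.centralizer (b.1 : Set G))
  have := Fintype.ofFinite b.2
  have := Fintype.ofFinite G
  obtain ⟨ψ, hψ, hψ0⟩ := H648.HeightForm.exists_height_zero (p := 2) h.sub.ind.2.1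
  have hp0 : (2 : ℂ) ^ blockDefect 2 b.2 ≠ 0 := pow_ne_zero _ two_ne_zero
  have key : ∀ χ : IrrCharacter G, χ ∈ B → ∃ m : ℤ, Odd m ∧
      a χ 0 * a ψ 0 = 2 ^ blockHeight 2 B (χ : G → ℂ) * m := by
    intro χ hχ
    obtain ⟨w, hw1, hw2, hw3⟩ := H658.exists_unit_of_height_zero hM h.sub.pelt
      h.sub.centralizer_eq h.sub.ind hd hχ hψ hψ0
    have h1 := h.Cn_eq χ ψ (k := 1) odd_one
    rw [pow_one, SubSys.Cn_eq, ev_zero, ev_zero, map_intCast] at h1
    rw [h1, ← hd, Nat.cast_ofNat, mul_div_cancel₀ _ hp0] at hw3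
    have h2 : (2 : ℂ) ^ blockHeight 2 B (χ : G → ℂ) * w = ((a χ 0 * a ψ 0 : ℤ) : ℂ) := by
      rw [← hw3]; push_cast; rfl
    obtain ⟨m, hm⟩ := H646.RegInner.exists_int_of_memLocalRing (p := 2) hM
      (by push_cast; exact h2) hw1
    rw [hm] at h2
    refine ⟨m, ?_, by exact_mod_cast h2.symm⟩
    rw [← Int.not_even_iff_odd, even_iff_two_dvd]
    intro h3
    apply hw2
    rw [hm, memLocalIdeal_intCast_iff hM]
    exact_mod_cast h3
  obtain ⟨m0, hm0, h0⟩ := key ψ hψ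
  rw [hψ0, pow_zero, one_mul] at h0
  have hodd : Odd (a ψ 0) := by
    rw [← h0] at hm0
    exact (Int.odd_mul.1 hm0).1
  obtain ⟨m, hm, h1⟩ := key χ hχ
  have h2 : (2 : ℤ) ^ blockHeight 2 B (χ : G → ℂ) ∣ a χ 0 := by
    refine (IsCoprime.pow_left ?_ : IsCoprime ((2 : ℤ) ^ blockHeight 2 B (χ : G → ℂ))
      (a ψ 0)).dvd_of_dvd_mul_right ⟨m, h1⟩
    exact (Int.isCoprime_iff_gcd_eq_one.2 (by
      rw [Int.gcd_eq_natAbs]
      exact Nat.coprime_two_left.2 (Int.natAbs_odd.2 hodd)))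
  obtain ⟨c, hc⟩ := h2
  refine ⟨c, ?_, hc⟩
  rw [hc, mul_assoc] at h1
  have h3 := mul_left_cancel₀ (pow_ne_zero _ (two_ne_zero (α := ℤ))) h1
  rw [← h3] at hm
  exact (Int.odd_mul.1 hm).1

end Cfsg.Agent.H613.TwoCol
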