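import Mathlib
import Cfsg.Agent.H613.SubFus
import Cfsg.Agent.H641.CycNil
import Cfsg.Agent.H802.FusAlp
import Cfsg.Agent.H745.MetaTwo
import Cfsg.Agent.S4677

/-!
# Fusion of elements generating normal cyclic subgroups of the maximal pair; nilpotent local blocks

* `conj_of_normal`: `u, v` generate the same cyclic subgroup, normalized by `a.1`, and are fused; then they are
  conjugate in `a.1` (`p = 2`);
* `isNilpotentBlock_bel`: `bel 2 M a u` is nilpotent if every element of odd order centralizing `u` and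
  normalizing a subgroup of `a.1` containing a conjugate of `u` centralizes this subgroup.
-/

set_option autoImplicit false
set_option linter.unusedSectionVars false

open Cfsg
open scoped ComplexConjugate

namespace Cfsg.Agent.H613.CycFus

open Cfsg.Agent.Blocks.Blau Cfsg.Agent.Blocks.Local Cfsg.Agent.Characters
open Cfsg.Agent.H613.RegGram Cfsg.Agent.H613.Contrib Cfsg.Agent.H613.SubSys
open Cfsg.Agent.H613.SubFus Cfsg.Agent.H644 Cfsg.Agent.H651
open Cfsg.Agent.H639 Cfsg.Agent.H649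

universe u

variable {G : Type u} [Group G] [Finite G] {M : Ideal AlgInt}
  {B : Set (IrrCharacter G)} {a : BrauerPairIdx G}

theorem isPGroup_mulAut_of_cyclic {C : Type*} [Group C] [Finite C] [IsCyclic C]
    (h2 : IsPGroup 2 C) : IsPGroup 2 (MulAut C) := by
  intro κ
  obtain ⟨k, m, hm, hg⟩ := Nat.exists_eq_pow_mul_and_not_dvd (orderOf_pos κ).ne' 2 (by norm_num)
  refine ⟨k, ?_⟩
  refine Cfsg.Agent.H745.MetaTwo.cyc_aut h2 (κ ^ 2 ^ k) hm ?_
  rw [← pow_mul, ← hg, pow_orderOf_eq_one]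

/-- Fused elements generating the same subgroup, normalized by `a.1`, are conjugate in `a.1`. -/
theorem conj_of_normal (hM : IsPModular 2 M) (hmax : IsMaximalBrauerPair 2 M B a.1 a.2) {u v : G}
    (hu : u ∈ a.1) (hz : Subgroup.zpowers v = Subgroup.zpowers u)
    (hn : a.1 ≤ Subgroup.normalizer ((Subgroup.zpowers u : Subgroup G) : Set G))
    (h : Fus 2 M a u v) : ∃ d ∈ a.1, d * u * d⁻¹ = v := by
  have : Fact (Nat.Prime 2) := ⟨Nat.prime_two⟩
  have := Fintype.ofFinite G
  have ha : IsBrauerPair 2 M a.1 a.2 := hmax.1.1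
  have hS : IsPGroup 2 a.1 := ha.1
  obtain ⟨F, hF, hsat⟩ := S4677.result 2 M hM B a.1 a.2 hmax
  obtain ⟨g, hg, hgb⟩ := h
  set U : Subgroup G := Subgroup.zpowers u with hU
  have hUS : U ≤ a.1 := by rw [hU, Subgroup.zpowers_le]; exact hu
  have hmapU : U.map (MulAut.conj g).toMonoidHom = U := by
    rw [hU, MonoidHom.map_zpowers]
    change Subgroup.zpowers (g * u * g⁻¹) = _
    rw [hg, hz]
  have hgU : ∀ w ∈ U, g * w * g⁻¹ ∈ U := by
    intro w hw
    rw [← hmapU]
    exact ⟨w, hw, rfl⟩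
  have hgN : g ∈ Subgroup.normalizer (U : Set G) :=
    (mem_normalizer_iff_map_conj U g).2 hmapU
  have hgU' : ∀ w ∈ U, g⁻¹ * w * g ∈ U := by
    intro w hw
    have h1 := (Subgroup.mem_normalizer_iff.1 (inv_mem hgN) w).1 hw
    rwa [inv_inv] at h1
  -- the automorphism
  let α : MulAut U :=
    { toFun := fun w => ⟨g * w * g⁻¹, hgU w w.2⟩
      invFun := fun w => ⟨g⁻¹ * w * g, hgU' w w.2⟩
      left_inv := fun w => by apply Subtype.ext; change g⁻¹ * (g * w * g⁻¹) * g = w; group
      right_inv := fun w => by apply Subtype.ext; change g * (g⁻¹ * w * g) * g⁻¹ = w; group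
      map_mul' := fun w w' => by
        apply Subtype.ext
        change g * (w * w') * g⁻¹ = (g * w * g⁻¹) * (g * w' * g⁻¹)
        group }
  have hα : α ∈ F.autGroup U := by
    rw [Cfsg.Agent.H802.mem_autGroup_iff F hUS]
    refine (hF.2 U _).2 ⟨hUS, g, fun w => rfl, ?_, (bel 2 M a u).2, bel_le hM ha hu, ?_⟩
    · rw [hmapU]; exact hUS
    · have h1 : LEIdx 2 M (conjIdx g (bel 2 M a u)) a := by
        rw [hgb]
        have hv : v ∈ a.1 := hUS (by rw [← hz]; exact Subgroup.mem_zpowers v)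
        exact bel_le hM ha hv
      rw [show conjIdx g (bel 2 M a u) = ⟨U.map (MulAut.conj g).toMonoidHom,
        conjBlock U g (bel 2 M a u).2⟩ from conjIdx_mk g U (bel 2 M a u).2] at h1
      exact h1
  -- `U` is fully normalized
  have hfn : F.IsFullyNormalized U := by
    refine ⟨hUS, fun Q hQ => ?_⟩
    have h1 : FusionSystem.normalizerIn a.1 U = a.1 := inf_eq_left.2 hn
    rw [h1]
    exact Nat.card_le_card_of_injective _ (Subgroup.inclusion_injective
      (inf_le_left : FusionSystem.normalizerIn a.1 Q ≤ a.1))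
  obtain ⟨_, R, hR⟩ := Cfsg.Agent.H802.isFullyAutomized_of_isFullyNormalized hS hsat hfn
  have : Finite U := inferInstance
  have : IsCyclic U := by rw [hU]; infer_instance
  have hpg : IsPGroup 2 (F.autGroup U) :=
    (isPGroup_mulAut_of_cyclic (hS.to_le hUS)).to_subgroup _
  have htop : (R : Subgroup (F.autGroup U)) = ⊤ := by
    have h1 : IsPGroup 2 (⊤ : Subgroup (F.autGroup U)) := hpg.to_subgroup ⊤
    exact (R.is_maximal' h1 le_top).symm
  rw [htop] at hR
  have h2 : F.autGroup U ≤ autInducedBy a.1 U := Subgroup.subgroupOf_eq_top.1 hR.symm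
  obtain ⟨d, hd, hdα⟩ := (Cfsg.Agent.H802.mem_autInducedBy_iff a.1 U α).1 (h2 hα)
  refine ⟨d, hd, ?_⟩
  rw [← hdα ⟨u, Subgroup.mem_zpowers u⟩]
  exact hg

/-- The blocks of the pairs on nontrivial elements are nilpotent under a condition on the subgroups of `a.1`. -/
theorem isNilpotentBlock_bel (hM : IsPModular 2 M) (hmax : IsMaximalBrauerPair 2 M B a.1 a.2)
    {u : G} (hu : u ∈ a.1)
    (hkey : ∀ (E : Subgroup G) (y : G), E ≤ a.1 → y * u * y⁻¹ ∈ E → ∀ g : G,
      g ∈ Subgroup.normalizer (E : Set G) → g * (y * u * y⁻¹) = (y * u * y⁻¹) * g →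
      ¬ 2 ∣ orderOf g → g ∈ Subgroup.centralizer (E : Set G)) :
    IsNilpotentBlock 2 M (bel 2 M a u).2 := by
  have : Fact (Nat.Prime 2) := ⟨Nat.prime_two⟩
  have hp : M.IsPrime := isPrime_of_isPModular hM
  have := Fintype.ofFinite G
  have hQf : IsBrauerPairOf 2 M B (Subgroup.zpowers u) (bel 2 M a u).2 :=
    isBrauerPairOf_bel hM hmax hu
  refine ⟨hQf.1.2, fun R h hRh x hxN hxS hreg => ?_⟩
  have hn : IsNormalSubpair 2 M (Subgroup.zpowers u) (bel 2 M a u).2
      (locSub (Subgroup.zpowers u) R) (locBlk (Subgroup.zpowers u) R h) :=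
    (isNormalSubpair_locBlk_iff hQf.1.1 hQf.1.2 hRh.1.1).2 hRh
  have hB : IsBrauerPairOf 2 M B (locSub (Subgroup.zpowers u) R)
      (locBlk (Subgroup.zpowers u) R h) := isBrauerPairOf_of_isNormalSubpair hM hn hQf
  obtain ⟨y, hy⟩ := exists_conj_subpairLE hM hmax hB
  have hSP : (locSub (Subgroup.zpowers u) R).map (MulAut.conj y).toMonoidHom ≤ a.1 :=
    SubpairLE.le hy
  have huS : y * u * y⁻¹ ∈ (locSub (Subgroup.zpowers u) R).map (MulAut.conj y).toMonoidHom :=
    ⟨u, le_locSub _ R (Subgroup.mem_zpowers u), rfl⟩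
  have hxu : (x : G) * u = u * x :=
    ((Subgroup.mem_centralizer_iff.1 x.2) u (Subgroup.mem_zpowers u)).symm
  have hxn : (x : G) ∈ Subgroup.normalizer
      ((locSub (Subgroup.zpowers u) R : Subgroup G) : Set G) := mem_normalizer_locSub hxN
  have hc := hkey _ y hSP huS (y * x * y⁻¹) (by
      rw [mem_normalizer_iff_map_conj] at hxn ⊢
      conv_rhs => rw [← hxn]
      rw [Subgroup.map_map, Subgroup.map_map]
      congr 1
      ext w
      simp [mul_assoc]) (by
      calc y * x * y⁻¹ * (y * u * y⁻¹) = y * (x * u) * y⁻¹ := by group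
        _ = y * (u * x) * y⁻¹ := by rw [hxu]
        _ = _ := by group) (by
      rw [Cfsg.Agent.Blocks.Blau.orderOf_conj_eq, Subgroup.orderOf_coe]
      exact hreg)
  rw [Subgroup.mem_centralizer_iff]
  intro r hr
  apply Subtype.ext
  have h6 := (Subgroup.mem_centralizer_iff.1 hc) (y * (r : G) * y⁻¹)
    ⟨(r : G), coe_mem_locSub hr, by simp⟩
  have h7 : y * ((r : G) * x) * y⁻¹ = y * ((x : G) * r) * y⁻¹ := by
    calc y * ((r : G) * x) * y⁻¹ = y * (r : G) * y⁻¹ * (y * x * y⁻¹) := by group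
      _ = y * x * y⁻¹ * (y * (r : G) * y⁻¹) := h6
      _ = _ := by group
  exact mul_left_cancel (mul_right_cancel h7)

end Cfsg.Agent.H613.CycFus
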