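import Cfsg.Agent.S4689

/-! rank one of nilpotent blocks -/

set_option autoImplicit false
open Cfsg

namespace Cfsg.Agent.H613.NilRank

universe u

theorem rank_one {G : Type u} [Group G] [Finite G] {p : ℕ} [Fact p.Prime] {M : Ideal AlgInt}
    (hM : IsPModular p M) {B : Set (IrrCharacter G)} (h : IsNilpotentBlock p M B) :
    blockRank p B = 1 := by
  have := Fintype.ofFinite G
  exact (Cfsg.Agent.S4689.result p M hM B h).1

end Cfsg.Agent.H613.NilRank
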