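import Mathlib
import Cfsg.Agent.H745.MetaTwo

/-!
# Dihedral 2-subgroups of a group
-/

set_option autoImplicit false
set_option linter.unusedSectionVars false

namespace Cfsg.Agent.H613.DihGrp

variable {G : Type*} [Group G]

/-- `P` is dihedral of order `2 ^ (j + 2)` with cyclic subgroup `⟨x⟩` of index two. -/
structure IsDih (P : Subgroup G) (x : G) (j : ℕ) : Prop where
  pos : 1 ≤ j
  mem : x ∈ P
  ord : orderOf x = 2 ^ (j + 1)
  card : Nat.card P = 2 ^ (j + 2)
  sq : ∀ y ∈ P, y ∉ Subgroup.zpowers x → y * y = 1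
  conj : ∀ y ∈ P, y ∉ Subgroup.zpowers x → y * x * y⁻¹ = x⁻¹

variable {P : Subgroup G} {x : G} {j : ℕ}

theorem IsDih.zpowers_le (h : IsDih P x j) : Subgroup.zpowers x ≤ P := by
  rw [Subgroup.zpowers_le]; exact h.mem

theorem IsDih.conj_zpow (h : IsDih P x j) {y : G} (hy : y ∈ P) (hy' : y ∉ Subgroup.zpowers x)
    (k : ℤ) : y * x ^ k * y⁻¹ = (x ^ k)⁻¹ := by
  rw [← _root_.conj_zpow, h.conj y hy hy', inv_zpow]

theorem IsDih.conj_mem (h : IsDih P x j) {y w : G} (hy : y ∈ P) (hy' : y ∉ Subgroup.zpowers x)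
    (hw : w ∈ Subgroup.zpowers x) : y * w * y⁻¹ = w⁻¹ := by
  obtain ⟨k, rfl⟩ := Subgroup.mem_zpowers_iff.1 hw
  exact h.conj_zpow hy hy' k

theorem IsDih.finite (h : IsDih P x j) : Finite P :=
  Nat.finite_of_card_ne_zero (by rw [h.card]; positivity)

theorem IsDih.isPGroup (h : IsDih P x j) : IsPGroup 2 P := IsPGroup.of_card h.card

theorem IsDih.relIndex (h : IsDih P x j) : (Subgroup.zpowers x).relIndex P = 2 := by
  have h1 := Subgroup.card_mul_index ((Subgroup.zpowers x).subgroupOf P)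
  rw [Nat.card_congr (Subgroup.subgroupOfEquivOfLe h.zpowers_le).toEquiv, Nat.card_zpowers,
    h.ord, h.card, pow_succ 2 (j + 1)] at h1
  exact Nat.eq_of_mul_eq_mul_left (by positivity) h1

theorem IsDih.mul_mem (h : IsDih P x j) {y y' : G} (hy : y ∈ P) (hy1 : y ∉ Subgroup.zpowers x)
    (hy' : y' ∈ P) (hy1' : y' ∉ Subgroup.zpowers x) : y * y' ∈ Subgroup.zpowers x := by
  have h1 : ((Subgroup.zpowers x).subgroupOf P).index = 2 := h.relIndex
  have h2 := (Subgroup.mul_mem_iff_of_index_two h1 (a := ⟨y, hy⟩) (b := ⟨y', hy'⟩))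
  have h3 : (⟨y, hy⟩ : P) * ⟨y', hy'⟩ ∈ (Subgroup.zpowers x).subgroupOf P := by
    rw [h2]
    rw [Subgroup.mem_subgroupOf, Subgroup.mem_subgroupOf]
    exact ⟨fun h => absurd h hy1, fun h => absurd h hy1'⟩
  exact h3

theorem IsDih.exists_notMem (h : IsDih P x j) : ∃ y ∈ P, y ∉ Subgroup.zpowers x := by
  by_contra h1
  push Not at h1
  have h2 : P ≤ Subgroup.zpowers x := h1
  have h3 := h.relIndex
  rw [Subgroup.relIndex_eq_one.2 h2] at h3
  norm_num at h3

theorem IsDih.pow_eq_one (h : IsDih P x j) : x ^ 2 ^ (j + 1) = 1 := by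
  rw [← h.ord, pow_orderOf_eq_one]

/-- The central involution. -/
theorem IsDih.z_ne (h : IsDih P x j) : x ^ 2 ^ j ≠ 1 := by
  intro h1
  have h2 := orderOf_dvd_of_pow_eq_one h1
  rw [h.ord] at h2
  have h3 := Nat.le_of_dvd (by positivity) h2
  have h4 : 2 ^ j < 2 ^ (j + 1) := Nat.pow_lt_pow_right (by norm_num) (Nat.lt_succ_self j)
  omega

theorem IsDih.z_sq (h : IsDih P x j) : x ^ 2 ^ j * x ^ 2 ^ j = 1 := by
  rw [← pow_add, ← two_mul, ← pow_succ', h.pow_eq_one]

theorem IsDih.z_mem (h : IsDih P x j) : x ^ 2 ^ j ∈ P := P.pow_mem h.mem _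

theorem IsDih.z_mem' (_h : IsDih P x j) : x ^ 2 ^ j ∈ Subgroup.zpowers x :=
  Subgroup.npow_mem_zpowers x _

theorem IsDih.orderOf_z (h : IsDih P x j) : orderOf (x ^ 2 ^ j) = 2 :=
  orderOf_eq_prime (by rw [pow_two, h.z_sq]) h.z_ne

theorem IsDih.z_inv (h : IsDih P x j) : (x ^ 2 ^ j)⁻¹ = x ^ 2 ^ j :=
  inv_eq_of_mul_eq_one_left h.z_sq

theorem IsDih.z_comm (h : IsDih P x j) {y : G} (hy : y ∈ P) :
    y * x ^ 2 ^ j = x ^ 2 ^ j * y := by
  by_cases hy' : y ∈ Subgroup.zpowers x
  · obtain ⟨k, rfl⟩ := Subgroup.mem_zpowers_iff.1 hy'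
    rw [← zpow_natCast x (2 ^ j), ← zpow_add, ← zpow_add, add_comm]
  · have h1 := h.conj_mem hy hy' h.z_mem'
    rw [h.z_inv] at h1
    calc y * x ^ 2 ^ j = (y * x ^ 2 ^ j * y⁻¹) * y := by group
      _ = _ := by rw [h1]

/-- The only elements of `⟨x⟩` with square one. -/
theorem IsDih.eq_of_sq (h : IsDih P x j) {w : G} (hw : w ∈ Subgroup.zpowers x)
    (hw2 : w * w = 1) : w = 1 ∨ w = x ^ 2 ^ j := by
  classical
  obtain ⟨k, hk, rfl⟩ : ∃ k, k < 2 ^ (j + 1) ∧ x ^ k = w := by
    have hfin : IsOfFinOrder x := by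
      rw [← orderOf_pos_iff, h.ord]; positivity
    obtain ⟨k, hk⟩ := (hfin.mem_zpowers_iff_mem_range_orderOf).1 hw |> Finset.mem_image.1
    refine ⟨k, ?_, hk.2⟩
    have := Finset.mem_range.1 hk.1
    rwa [h.ord] at this
  rw [← pow_add, ← orderOf_dvd_iff_pow_eq_one, h.ord, pow_succ, ← two_mul, mul_comm] at hw2
  have h1 : 2 ^ j ∣ k := Nat.dvd_of_mul_dvd_mul_left (by norm_num) hw2
  obtain ⟨c, rfl⟩ := h1
  rw [pow_succ] at hk
  have h2 : c < 2 := Nat.lt_of_mul_lt_mul_left hk
  interval_cases c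
  · left; simp
  · right; simp

/-- Elements of order at least four are centralized only by `⟨x⟩`. -/
theorem IsDih.mem_of_comm (h : IsDih P x j) {u y : G} (hu : u ∈ Subgroup.zpowers x)
    (hu2 : u * u ≠ 1) (hy : y ∈ P) (hc : y * u = u * y) : y ∈ Subgroup.zpowers x := by
  by_contra hy'
  apply hu2
  have h1 := h.conj_mem hy hy' hu
  rw [hc, mul_inv_cancel_right] at h1
  nth_rewrite 1 [h1]
  rw [inv_mul_cancel]

/-- The elements commuting with an element outside `⟨x⟩`. -/
theorem IsDih.eq_of_comm (h : IsDih P x j) {y w : G} (hy : y ∈ P) (hy' : y ∉ Subgroup.zpowers x)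
    (hw : w ∈ P) (hc : w * y = y * w) :
    w = 1 ∨ w = x ^ 2 ^ j ∨ w = y ∨ w = x ^ 2 ^ j * y := by
  have key : ∀ v ∈ Subgroup.zpowers x, v * y = y * v → v = 1 ∨ v = x ^ 2 ^ j := by
    intro v hv hvc
    refine h.eq_of_sq hv ?_
    have h1 := h.conj_mem hy hy' hv
    rw [← hvc, mul_inv_cancel_right] at h1
    nth_rewrite 1 [h1]
    rw [inv_mul_cancel]
  by_cases hw' : w ∈ Subgroup.zpowers x
  · rcases key w hw' hc with h1 | h1
    · exact Or.inl h1
    · exact Or.inr (Or.inl h1)
  · have h1 : w * y ∈ Subgroup.zpowers x := h.mul_mem hw hw' hy hy'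
    have hyy := h.sq y hy hy'
    rcases key (w * y) h1 (by rw [hc, mul_assoc, hc]) with h2 | h2
    · right; right; left
      calc w = w * (y * y) := by rw [hyy, mul_one]
        _ = (w * y) * y := by group
        _ = y := by rw [h2, one_mul]
    · right; right; right
      calc w = w * (y * y) := by rw [hyy, mul_one]
        _ = (w * y) * y := by group
        _ = _ := by rw [h2]

/-- `g` of odd order acting trivially on `N` and on the coset of `e` modulo `N`. -/
theorem comm_of_coset {g e w : G} (hg : ¬ 2 ∣ orderOf g) (hgw : g * w = w * g)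
    (he : g * e * g⁻¹ = e * w) {k : ℕ} (hw : w ^ 2 ^ k = 1) : g * e = e * g := by
  have h1 : ∀ n : ℕ, g ^ n * e * (g ^ n)⁻¹ = e * w ^ n := by
    intro n
    induction n with
    | zero => simp
    | succ n ih =>
      have h2 : g ^ (n + 1) * e * (g ^ (n + 1))⁻¹ = g * (g ^ n * e * (g ^ n)⁻¹) * g⁻¹ := by
        rw [pow_succ']; group
      have h3 : Commute g (w ^ n) := (show Commute g w from hgw).pow_right n
      rw [h2, ih]
      calc g * (e * w ^ n) * g⁻¹ = (g * e * g⁻¹) * (g * w ^ n * g⁻¹) := by group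
        _ = e * w * (w ^ n * g * g⁻¹) := by rw [he, h3.eq]
        _ = e * w ^ (n + 1) := by rw [pow_succ']; group
  have h2 := h1 (orderOf g)
  rw [pow_orderOf_eq_one] at h2
  have h3 : w ^ orderOf g = 1 := by
    have h4 : e = e * w ^ orderOf g := by simpa using h2
    exact (left_eq_mul.1 h4)
  have h5 : orderOf w ∣ 1 := by
    have h6 : Nat.Coprime (orderOf g) (2 ^ k) :=
      Nat.Coprime.pow_right k (((Nat.prime_two.coprime_iff_not_dvd).2 hg).symm)
    rw [← h6.gcd_eq_one]
    exact Nat.dvd_gcd (orderOf_dvd_of_pow_eq_one h3) (orderOf_dvd_of_pow_eq_one hw)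
  have h6 : w = 1 := orderOf_eq_one_iff.1 (Nat.dvd_one.1 h5)
  rw [h6, mul_one] at he
  calc g * e = (g * e * g⁻¹) * g := by group
    _ = _ := by rw [he]

theorem IsDih.pow_card (h : IsDih P x j) {w : G} (hw : w ∈ P) : w ^ 2 ^ (j + 2) = 1 := by
  have h1 : orderOf (⟨w, hw⟩ : P) ∣ Nat.card P := orderOf_dvd_natCard _
  rw [h.card, Subgroup.orderOf_mk] at h1
  exact orderOf_dvd_iff_pow_eq_one.1 h1

/-- An element of odd order normalizing `⟨v⟩`, `v` a 2-element, centralizes `v`. -/
theorem comm_of_zpowers {g v : G} {k : ℕ} (hv : v ^ 2 ^ k = 1) (hg : ¬ 2 ∣ orderOf g)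
    (hgv : g ∈ Subgroup.normalizer ((Subgroup.zpowers v : Subgroup G) : Set G)) :
    g * v = v * g := by
  have hfin : IsOfFinOrder v := isOfFinOrder_iff_pow_eq_one.2 ⟨2 ^ k, by positivity, hv⟩
  have hcard : Nat.card (Subgroup.zpowers v) ≠ 0 := by
    rw [Nat.card_zpowers]; exact (orderOf_pos_iff.2 hfin).ne'
  have : Finite (Subgroup.zpowers v) := Nat.finite_of_card_ne_zero hcard
  have h2 : IsPGroup 2 (Subgroup.zpowers v) := by
    obtain ⟨i, _, hi⟩ := (Nat.dvd_prime_pow Nat.prime_two).1 (orderOf_dvd_of_pow_eq_one hv)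
    exact IsPGroup.of_card (n := i) (by rw [Nat.card_zpowers, hi])
  set κ : MulAut (Subgroup.zpowers v) :=
    Subgroup.normalizerMonoidHom (Subgroup.zpowers v) ⟨g, hgv⟩ with hκ
  have h3 : κ ^ orderOf g = 1 := by
    rw [hκ, ← map_pow]
    have h4 : (⟨g, hgv⟩ : Subgroup.normalizer ((Subgroup.zpowers v : Subgroup G) : Set G)) ^
        orderOf g = 1 := Subtype.ext (pow_orderOf_eq_one g)
    rw [h4, map_one]
  have h4 := Cfsg.Agent.H745.MetaTwo.cyc_aut h2 κ hg h3
  have h5 : ((κ ⟨v, Subgroup.mem_zpowers v⟩ : Subgroup.zpowers v) : G) = v := by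
    rw [h4]; rfl
  have h6 : g * v * g⁻¹ = v := h5
  calc g * v = (g * v * g⁻¹) * g := by group
    _ = _ := by rw [h6]

theorem mem_zpowers_of_orderOf {x u v : G} (hx : IsOfFinOrder x) (hu : u ∈ Subgroup.zpowers x)
    (hv : v ∈ Subgroup.zpowers x) (ho : orderOf v ∣ orderOf u) : v ∈ Subgroup.zpowers u := by
  classical
  have hfin : Nat.card (Subgroup.zpowers x) ≠ 0 := by
    rw [Nat.card_zpowers]; exact (orderOf_pos_iff.2 hx).ne'
  have : Finite (Subgroup.zpowers x) := Nat.finite_of_card_ne_zero hfin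
  have := Fintype.ofFinite (Subgroup.zpowers x)
  set U : Subgroup.zpowers x := ⟨u, hu⟩ with hU
  have hUo : orderOf U = orderOf u := Subgroup.orderOf_mk _ _
  have h1 : (Finset.univ.filter fun c : Subgroup.zpowers x => c ^ orderOf U = 1).card ≤
      orderOf U := IsCyclic.card_pow_eq_one_le (orderOf_pos U)
  have h2 : ((Finset.univ.filter fun c : Subgroup.zpowers x => c ∈ Subgroup.zpowers U)).card =
      orderOf U := by
    rw [← Nat.card_zpowers, ← Nat.subtype_card (p := fun c => c ∈ Subgroup.zpowers U) _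
      (fun c => by simp)]
  have h3 : (Finset.univ.filter fun c : Subgroup.zpowers x => c ∈ Subgroup.zpowers U) ⊆
      (Finset.univ.filter fun c : Subgroup.zpowers x => c ^ orderOf U = 1) := by
    intro c hc
    obtain ⟨k, rfl⟩ := Subgroup.mem_zpowers_iff.1 (Finset.mem_filter.1 hc).2
    refine Finset.mem_filter.2 ⟨Finset.mem_univ _, ?_⟩
    rw [← zpow_natCast, ← zpow_mul, mul_comm, zpow_mul, zpow_natCast, pow_orderOf_eq_one, one_zpow]
  have h4 := Finset.eq_of_subset_of_card_le h3 (by rw [h2]; exact h1)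
  have h5 : (⟨v, hv⟩ : Subgroup.zpowers x) ∈
      (Finset.univ.filter fun c : Subgroup.zpowers x => c ^ orderOf U = 1) := by
    refine Finset.mem_filter.2 ⟨Finset.mem_univ _, ?_⟩
    apply Subtype.ext
    rw [hUo]
    exact orderOf_dvd_iff_pow_eq_one.1 ho
  rw [← h4] at h5
  obtain ⟨k, hk⟩ := Subgroup.mem_zpowers_iff.1 (Finset.mem_filter.1 h5).2
  exact Subgroup.mem_zpowers_iff.2 ⟨k, congrArg Subtype.val hk⟩

/-- Cyclic subgroups of `⟨x⟩` are determined by their orders. -/
theorem zpowers_eq_of_orderOf {x u v : G} (hx : IsOfFinOrder x) (hu : u ∈ Subgroup.zpowers x)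
    (hv : v ∈ Subgroup.zpowers x) (ho : orderOf u = orderOf v) :
    Subgroup.zpowers u = Subgroup.zpowers v := by
  apply le_antisymm
  · rw [Subgroup.zpowers_le]
    exact mem_zpowers_of_orderOf hx hv hu (by rw [ho])
  · rw [Subgroup.zpowers_le]
    exact mem_zpowers_of_orderOf hx hu hv (by rw [ho])

theorem IsDih.isOfFinOrder (h : IsDih P x j) : IsOfFinOrder x :=
  isOfFinOrder_iff_pow_eq_one.2 ⟨2 ^ (j + 1), by positivity, h.pow_eq_one⟩

/-- An element of odd order normalizing a subgroup of a dihedral group and centralizing a nontrivial element of it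
centralizes it. -/
theorem IsDih.mem_centralizer (h : IsDih P x j) {E : Subgroup G} (hE : E ≤ P) {u g : G}
    (hu : u ∈ E) (hu1 : u ≠ 1) (hg : g ∈ Subgroup.normalizer (E : Set G)) (hgu : g * u = u * g)
    (hodd : ¬ 2 ∣ orderOf g) : g ∈ Subgroup.centralizer (E : Set G) := by
  classical
  have hgE : ∀ e ∈ E, g * e * g⁻¹ ∈ E := fun e he => (Subgroup.mem_normalizer_iff.1 hg e).1 he
  suffices H : ∀ e ∈ E, g * e = e * g by
    rw [Subgroup.mem_centralizer_iff]
    exact fun e he => (H e he).symm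
  by_cases hv : ∃ v ∈ E, v ∈ Subgroup.zpowers x ∧ v * v ≠ 1
  · obtain ⟨v, hvE, hvx, hv2⟩ := hv
    -- elements of order at least four in `E` lie in `⟨x⟩`
    have h4 : ∀ w ∈ E, w * w ≠ 1 → w ∈ Subgroup.zpowers x := by
      intro w hw hw2
      by_contra hwx
      exact hw2 (h.sq w (hE hw) hwx)
    have hcomm : ∀ w ∈ E, w ∈ Subgroup.zpowers x → w * w ≠ 1 → g * w = w * g := by
      intro w hw hwx hw2
      have h5 : g * w * g⁻¹ * (g * w * g⁻¹) ≠ 1 := by
        intro h6
        apply hw2
        have h7 : g * (w * w) * g⁻¹ = 1 := by rw [← h6]; group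
        exact conj_eq_one_iff.1 h7
      have h6 := h4 _ (hgE w hw) h5
      have h7 : Subgroup.zpowers (g * w * g⁻¹) = Subgroup.zpowers w :=
        zpowers_eq_of_orderOf h.isOfFinOrder h6 hwx (by
          have := orderOf_injective (MulAut.conj g).toMonoidHom (MulAut.conj g).injective w
          exact this)
      refine comm_of_zpowers (h.pow_card (hE hw)) hodd ?_
      rw [Subgroup.mem_normalizer_iff]
      intro c
      constructor
      · intro hc
        obtain ⟨k, rfl⟩ := Subgroup.mem_zpowers_iff.1 hc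
        rw [← _root_.conj_zpow, ← h7]
        exact Subgroup.zpow_mem_zpowers _ k
      · intro hc
        rw [← h7] at hc
        obtain ⟨k, hk⟩ := Subgroup.mem_zpowers_iff.1 hc
        rw [_root_.conj_zpow] at hk
        have h8 : w ^ k = c := mul_left_cancel (mul_right_cancel hk)
        rw [← h8]
        exact Subgroup.zpow_mem_zpowers _ k
    have hcomm' : ∀ w ∈ E, w ∈ Subgroup.zpowers x → g * w = w * g := by
      intro w hw hwx
      by_cases hw2 : w * w = 1
      · rcases h.eq_of_sq hwx hw2 with h5 | h5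
        · rw [h5]; simp
        · have h6 : w ∈ Subgroup.zpowers v := by
            refine mem_zpowers_of_orderOf h.isOfFinOrder hvx hwx ?_
            rw [h5, h.orderOf_z]
            obtain ⟨i, _, hi⟩ := (Nat.dvd_prime_pow Nat.prime_two).1
              (orderOf_dvd_of_pow_eq_one (h.pow_card (hE hvE)))
            rw [hi]
            refine dvd_pow_self 2 ?_
            rintro rfl
            rw [pow_zero, orderOf_eq_one_iff] at hi
            exact hv2 (by rw [hi, mul_one])
          obtain ⟨k, rfl⟩ := Subgroup.mem_zpowers_iff.1 h6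
          exact ((show Commute g v from hcomm v hvE hvx hv2).zpow_right k).eq
      · exact hcomm w hw hwx hw2
    intro e he
    by_cases hex : e ∈ Subgroup.zpowers x
    · exact hcomm' e he hex
    · have h5 : g * e * g⁻¹ ∉ Subgroup.zpowers x := by
        intro h6
        apply hex
        have h7 := hcomm' _ (hgE e he) h6
        have h8 : g * e * g⁻¹ = e := by
          have h9 : g * (g * e * g⁻¹) = g * e := by rw [h7]; group
          exact mul_left_cancel h9
        rwa [h8] at h6
      have h6 : e * (g * e * g⁻¹) ∈ Subgroup.zpowers x :=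
        h.mul_mem (hE he) hex (hE (hgE e he)) h5
      have h7 : e * (g * e * g⁻¹) ∈ E := E.mul_mem he (hgE e he)
      have he2 := h.sq e (hE he) hex
      refine comm_of_coset hodd (hcomm' _ h7 h6) (e := e) ?_ (h.pow_card (hE h7))
      rw [← mul_assoc, he2, one_mul]
  · push Not at hv
    have hE2 : ∀ e ∈ E, e * e = 1 := by
      intro e he
      by_cases hex : e ∈ Subgroup.zpowers x
      · exact hv e he hex
      · exact h.sq e (hE he) hex
    have hinv : ∀ e ∈ E, e⁻¹ = e := fun e he => inv_eq_of_mul_eq_one_left (hE2 e he)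
    have hcomm : ∀ e ∈ E, ∀ f ∈ E, e * f = f * e := by
      intro e he f hf
      have h5 := hE2 _ (E.mul_mem he hf)
      calc e * f = (e * f)⁻¹ := (hinv _ (E.mul_mem he hf)).symm
        _ = f⁻¹ * e⁻¹ := mul_inv_rev _ _
        _ = f * e := by rw [hinv e he, hinv f hf]
    -- `E` has at most four elements
    have hfour : ∃ y : G, ∀ w ∈ E, w = 1 ∨ w = x ^ 2 ^ j ∨ w = y ∨ w = x ^ 2 ^ j * y := by
      by_cases hy : ∃ y ∈ E, y ∉ Subgroup.zpowers x
      · obtain ⟨y, hyE, hy⟩ := hy
        exact ⟨y, fun w hw => h.eq_of_comm (hE hyE) hy (hE hw) (hcomm w hw y hyE)⟩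
      · push Not at hy
        refine ⟨1, fun w hw => ?_⟩
        rcases h.eq_of_sq (hy w hw) (hE2 w hw) with h5 | h5
        · exact Or.inl h5
        · exact Or.inr (Or.inl h5)
    obtain ⟨y, hy⟩ := hfour
    intro e he
    by_cases he1 : e = 1
    · rw [he1]; simp
    by_cases heu : e = u
    · rw [heu]; exact hgu
    set e' := g * e * g⁻¹ with he'
    have he'E : e' ∈ E := hgE e he
    by_cases hee : e' = e
    · calc g * e = e' * g := by rw [he']; group
        _ = e * g := by rw [hee]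
    have he'1 : e' ≠ 1 := fun h5 => he1 (conj_eq_one_iff.1 h5)
    have he'u : e' ≠ u := by
      intro h5
      apply heu
      have h6 : g * e = u * g := by rw [← h5, he']; group
      rw [← hgu] at h6
      exact mul_left_cancel h6
    have h5 : e * e' = u := by
      by_contra h6
      have h7 : ({1, u, e, e', e * e'} : Finset G) ⊆ {1, x ^ 2 ^ j, y, x ^ 2 ^ j * y} := by
        intro w hw
        have h8 : w ∈ E := by
          simp only [Finset.mem_insert, Finset.mem_singleton] at hw
          rcases hw with h9 | h9 | h9 | h9 | h9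
          · rw [h9]; exact E.one_mem
          · rw [h9]; exact hu
          · rw [h9]; exact he
          · rw [h9]; exact he'E
          · rw [h9]; exact E.mul_mem he he'E
        simpa only [Finset.mem_insert, Finset.mem_singleton] using hy w h8
      have h8 : ({1, u, e, e', e * e'} : Finset G).card = 5 := by
        rw [Finset.card_insert_of_notMem, Finset.card_insert_of_notMem,
          Finset.card_insert_of_notMem, Finset.card_insert_of_notMem, Finset.card_singleton]
        · rw [Finset.mem_singleton]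
          intro h9
          exact he1 (right_eq_mul.1 h9)
        · simp only [Finset.mem_insert, Finset.mem_singleton, not_or]
          refine ⟨Ne.symm hee, fun h9 => he'1 (left_eq_mul.1 h9)⟩
        · simp only [Finset.mem_insert, Finset.mem_singleton, not_or]
          exact ⟨Ne.symm heu, Ne.symm he'u, Ne.symm h6⟩
        · simp only [Finset.mem_insert, Finset.mem_singleton, not_or]
          refine ⟨Ne.symm hu1, Ne.symm he1, Ne.symm he'1, fun h9 => hee ?_⟩
          have h10 : e' = e⁻¹ := by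
            rw [eq_inv_iff_mul_eq_one, hcomm e' he'E e he]; exact h9.symm
          rw [h10, hinv e he]
      have h9 := Finset.card_le_card h7
      rw [h8] at h9
      have h10 := (Finset.card_le_four (a := (1 : G)) (b := x ^ 2 ^ j) (c := y) (d := x ^ 2 ^ j * y))
      omega
    refine comm_of_coset hodd hgu (e := e) ?_ (h.pow_card (hE hu))
    rw [← h5, ← mul_assoc, hE2 e he, one_mul]

end Cfsg.Agent.H613.DihGrp
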