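import Mathlib
import Cfsg.Agent.H613.CycFus
import Cfsg.Agent.H613.DihGrp
import Cfsg.Agent.H613.NilRank

/-!
# Fusion in 2-blocks with dihedral defect groups
-/

set_option autoImplicit false
set_option linter.unusedSectionVars false

open Cfsg
open scoped ComplexConjugate

namespace Cfsg.Agent.H613.DihFus

open Cfsg.Agent.Blocks.Blau Cfsg.Agent.Blocks.Local Cfsg.Agent.Characters
open Cfsg.Agent.H613.SubSys Cfsg.Agent.H613.SubFus Cfsg.Agent.H613.CycFus Cfsg.Agent.H613.DihGrp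
open Cfsg.Agent.H613.NilRank Cfsg.Agent.H649

universe u

variable {G : Type u} [Group G] [Finite G] {M : Ideal AlgInt}
  {B : Set (IrrCharacter G)} {a : BrauerPairIdx G} {x : G} {j : ℕ}

/-- `l(b_u) = 1` for every nontrivial `u`. -/
theorem blockRank_bel (hM : IsPModular 2 M) (hmax : IsMaximalBrauerPair 2 M B a.1 a.2)
    (hD : IsDih a.1 x j) {u : G} (hu : u ∈ a.1) (hu1 : u ≠ 1) :
    blockRank 2 (bel 2 M a u).2 = 1 := by
  have : Fact (Nat.Prime 2) := ⟨Nat.prime_two⟩
  refine rank_one hM (isNilpotentBlock_bel hM hmax hu ?_)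
  intro E y hE hy g hg hgu hodd
  exact hD.mem_centralizer hE hy (fun h => hu1 (conj_eq_one_iff.1 h)) hg hgu hodd

/-- Fusion of the elements of order at least four. -/
theorem eq_or_inv_of_fus (hM : IsPModular 2 M) (hmax : IsMaximalBrauerPair 2 M B a.1 a.2)
    (hD : IsDih a.1 x j) {u v : G} (hu : u ∈ Subgroup.zpowers x) (hv : v ∈ Subgroup.zpowers x)
    (h : Fus 2 M a u v) : v = u ∨ v = u⁻¹ := by
  have : Fact (Nat.Prime 2) := ⟨Nat.prime_two⟩
  have hz : Subgroup.zpowers v = Subgroup.zpowers u :=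
    zpowers_eq_of_orderOf hD.isOfFinOrder hv hu h.orderOf_eq.symm
  have hact : ∀ y ∈ a.1, ∀ w ∈ Subgroup.zpowers x, y * w * y⁻¹ = w ∨ y * w * y⁻¹ = w⁻¹ := by
    intro y hy w hw
    by_cases hyx : y ∈ Subgroup.zpowers x
    · left
      obtain ⟨k, rfl⟩ := Subgroup.mem_zpowers_iff.1 hyx
      obtain ⟨l, rfl⟩ := Subgroup.mem_zpowers_iff.1 hw
      rw [← zpow_add, add_comm, zpow_add, mul_inv_cancel_right]
    · exact Or.inr (hD.conj_mem hy hyx hw)
  obtain ⟨d, hd, hdu⟩ := conj_of_normal hM hmax (hD.zpowers_le hu) hz (by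
    intro y hy
    rw [Subgroup.mem_normalizer_iff]
    have hle : Subgroup.zpowers u ≤ Subgroup.zpowers x := by rwa [Subgroup.zpowers_le]
    intro c
    constructor
    · intro hc
      rcases hact y hy c (hle hc) with h1 | h1
      · rw [h1]; exact hc
      · rw [h1]; exact inv_mem hc
    · intro hc
      rcases hact y⁻¹ (inv_mem hy) _ (hle hc) with h1 | h1
      · have h2 : y⁻¹ * (y * c * y⁻¹) * y⁻¹⁻¹ = c := by group
        rw [h2] at h1; rw [h1]; exact hc
      · have h2 : y⁻¹ * (y * c * y⁻¹) * y⁻¹⁻¹ = c := by group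
        rw [h2] at h1; rw [h1]; exact inv_mem hc) h
  rw [← hdu]
  exact hact d hd u hu

/-- The elements `x ^ k`, `0 < k < 2 ^ j`. -/
theorem pow_sq_ne {x : G} {k : ℕ} (ho : orderOf x = 2 ^ (j + 1)) (h0 : 0 < k) (hk : k < 2 ^ j) :
    x ^ k * x ^ k ≠ 1 := by
  rw [← pow_add]
  intro h
  have h1 := orderOf_dvd_of_pow_eq_one h
  rw [ho] at h1
  have h2 := Nat.le_of_dvd (by omega) h1
  rw [pow_succ] at h2
  omega

/-- Representatives of the involutions. -/
noncomputable def inv3 (x y : G) (j : ℕ) : Fin 3 → G := ![x ^ 2 ^ j, y, x * y]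

/-- Fusion of the three representatives. -/
def setoid3 (M : Ideal AlgInt) (a : BrauerPairIdx G) (x y : G) (j : ℕ) : Setoid (Fin 3) where
  r i i' := Fus 2 M a (inv3 x y j i) (inv3 x y j i')
  iseqv := ⟨fun _ => Fus.refl _, fun h => h.symm, fun h h' => h.trans h'⟩

theorem inv3_mem (hD : IsDih a.1 x j) {y : G} (hy : y ∈ a.1) (i : Fin 3) :
    inv3 x y j i ∈ a.1 := by
  fin_cases i
  · exact hD.z_mem
  · exact hy
  · exact a.1.mul_mem hD.mem hy

theorem inv3_sq (hD : IsDih a.1 x j) {y : G} (hy : y ∈ a.1) (hyx : y ∉ Subgroup.zpowers x)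
    (i : Fin 3) : inv3 x y j i * inv3 x y j i = 1 := by
  fin_cases i
  · exact hD.z_sq
  · exact hD.sq y hy hyx
  · refine hD.sq (x * y) (a.1.mul_mem hD.mem hy) fun h => hyx ?_
    have h1 := (Subgroup.zpowers x).mul_mem (inv_mem (Subgroup.mem_zpowers x)) h
    rwa [inv_mul_cancel_left] at h1

theorem inv3_ne (hD : IsDih a.1 x j) {y : G} (hyx : y ∉ Subgroup.zpowers x)
    (i : Fin 3) : inv3 x y j i ≠ 1 := by
  fin_cases i
  · exact hD.z_ne
  · rintro h
    exact hyx (by rw [show y = 1 from h]; exact Subgroup.one_mem _)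
  · intro h
    apply hyx
    have h1 : x * y = 1 := h
    rw [← inv_eq_of_mul_eq_one_right h1]
    exact inv_mem (Subgroup.mem_zpowers x)

/-- Elements of `⟨x⟩` up to inversion. -/
theorem exists_pow_of_mem (hD : IsDih a.1 x j) {v : G} (hv : v ∈ Subgroup.zpowers x)
    (hv1 : v ≠ 1) : ∃ k, 0 < k ∧ k ≤ 2 ^ j ∧ (v = x ^ k ∨ v = (x ^ k)⁻¹) := by
  classical
  obtain ⟨k, hk, rfl⟩ : ∃ k, k < 2 ^ (j + 1) ∧ x ^ k = v := by
    obtain ⟨k, hk⟩ :=
      (hD.isOfFinOrder.mem_zpowers_iff_mem_range_orderOf).1 hv |> Finset.mem_image.1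
    refine ⟨k, ?_, hk.2⟩
    have := Finset.mem_range.1 hk.1
    rwa [hD.ord] at this
  have hk0 : 0 < k := by
    rcases Nat.eq_zero_or_pos k with h | h
    · exact absurd (by rw [h, pow_zero]) hv1
    · exact h
  rcases Nat.lt_or_ge (2 ^ j) k with h | h
  · refine ⟨2 ^ (j + 1) - k, by omega, by rw [pow_succ] at hk ⊢; omega, Or.inr ?_⟩
    rw [eq_inv_iff_mul_eq_one, ← pow_add, Nat.add_sub_cancel' hk.le, hD.pow_eq_one]
  · exact ⟨k, hk0, h, Or.inl rfl⟩

/-- Elements outside `⟨x⟩` are conjugate to `y` or `x y`. -/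
theorem exists_conj_of_notMem (hD : IsDih a.1 x j) {y v : G} (hy : y ∈ a.1)
    (hyx : y ∉ Subgroup.zpowers x) (hv : v ∈ a.1) (hvx : v ∉ Subgroup.zpowers x) :
    ∃ c ∈ a.1, c * y * c⁻¹ = v ∨ c * (x * y) * c⁻¹ = v := by
  have h1 : v * y ∈ Subgroup.zpowers x := hD.mul_mem hv hvx hy hyx
  obtain ⟨k, hk⟩ := Subgroup.mem_zpowers_iff.1 h1
  have hyy := hD.sq y hy hyx
  have hyi : y⁻¹ = y := inv_eq_of_mul_eq_one_left hyy
  have hv2 : v = x ^ k * y := by rw [hk, mul_assoc, hyy, mul_one]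
  have hconj : ∀ m : ℤ, x ^ m * y * (x ^ m)⁻¹ = x ^ (2 * m) * y := by
    intro m
    have h2 := hD.conj_mem hy hyx (inv_mem (Subgroup.zpow_mem_zpowers x m))
    rw [inv_inv] at h2
    have h3 : y * (x ^ m)⁻¹ = x ^ m * y := by
      calc y * (x ^ m)⁻¹ = (y * (x ^ m)⁻¹ * y⁻¹) * y := by group
        _ = _ := by rw [h2]
    rw [mul_assoc, h3, ← mul_assoc, ← zpow_add, ← two_mul]
  rcases Int.even_or_odd' k with ⟨m, hm | hm⟩
  · exact ⟨x ^ m, hD.zpowers_le (Subgroup.zpow_mem_zpowers x m), Or.inl (by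
      rw [hconj, hv2, hm])⟩
  · refine ⟨x ^ m, hD.zpowers_le (Subgroup.zpow_mem_zpowers x m), Or.inr ?_⟩
    have h2 : x ^ m * (x * y) * (x ^ m)⁻¹ = x * (x ^ m * y * (x ^ m)⁻¹) := by
      have h3 : x ^ m * x = x * x ^ m := by rw [← zpow_add_one, add_comm, zpow_one_add]
      calc x ^ m * (x * y) * (x ^ m)⁻¹ = x ^ m * x * y * (x ^ m)⁻¹ := by group
        _ = _ := by rw [h3]; group
    rw [h2, hconj, hv2, hm, ← mul_assoc, ← zpow_one_add, add_comm]

/-- The representatives of the nontrivial elements under fusion. -/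
noncomputable def rep (M : Ideal AlgInt) (a : BrauerPairIdx G) (x y : G) (j : ℕ) :
    Fin (2 ^ j - 1) ⊕ Quotient (setoid3 M a x y j) → G
  | Sum.inl k => x ^ ((k : ℕ) + 1)
  | Sum.inr q => inv3 x y j q.out

theorem fus_inv3_out (i : Fin 3) {y : G} :
    Fus 2 M a (inv3 x y j (Quotient.mk (setoid3 M a x y j) i).out) (inv3 x y j i) :=
  Quotient.exact (s := setoid3 M a x y j) (Quotient.out_eq _)

theorem isSys_rep (hM : IsPModular 2 M) (hmax : IsMaximalBrauerPair 2 M B a.1 a.2)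
    (hD : IsDih a.1 x j) {y : G} (hy : y ∈ a.1) (hyx : y ∉ Subgroup.zpowers x) :
    IsSys 2 M B (rep M a x y j) (fun i => bel 2 M a (rep M a x y j i)) := by
  have : Fact (Nat.Prime 2) := ⟨Nat.prime_two⟩
  have ha : IsBrauerPair 2 M a.1 a.2 := hmax.1.1
  have hord2 : ∀ i : Fin 3, orderOf (inv3 x y j i) = 2 := fun i =>
    orderOf_eq_prime (by rw [pow_two, inv3_sq hD hy hyx]) (inv3_ne hD hyx i)
  have hk : ∀ k : Fin (2 ^ j - 1), (k : ℕ) + 1 < 2 ^ j := fun k => by
    have := k.2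
    omega
  have hne : ∀ (k : Fin (2 ^ j - 1)) (g : G), orderOf g = 2 → ¬ Fus 2 M a (x ^ ((k : ℕ) + 1)) g := by
    intro k g hg h
    have h1 := h.orderOf_eq
    rw [hg] at h1
    apply pow_sq_ne hD.ord (Nat.succ_pos k) (hk k)
    rw [← pow_two]
    exact orderOf_dvd_iff_pow_eq_one.1 (by rw [h1])
  refine isSys_of_reps hM hmax (rep M a x y j) ?_ ?_ ?_ ?_
  · rintro (k | q)
    · exact a.1.pow_mem hD.mem _
    · exact inv3_mem hD hy _
  · rintro (k | q)
    · intro h
      apply pow_sq_ne hD.ord (Nat.succ_pos k) (hk k)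
      have h' : x ^ ((k : ℕ) + 1) = 1 := h
      rw [h', mul_one]
    · exact inv3_ne hD hyx _
  · rintro (k | q) (k' | q') h
    · have h1 := eq_or_inv_of_fus hM hmax hD (Subgroup.npow_mem_zpowers x _)
        (Subgroup.npow_mem_zpowers x _) h
      congr 1
      rcases h1 with h2 | h2
      · have h3 := pow_injOn_Iio_orderOf (x := x) (by
          rw [Set.mem_Iio, hD.ord]
          have := hk k'
          rw [pow_succ]; omega) (by
          rw [Set.mem_Iio, hD.ord]
          have := hk k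
          rw [pow_succ]; omega) h2
        have h4 : (k' : ℕ) + 1 = k + 1 := h3
        exact Fin.ext (by omega)
      · exfalso
        rw [eq_inv_iff_mul_eq_one, ← pow_add] at h2
        have h3 := Nat.le_of_dvd (by omega) (orderOf_dvd_of_pow_eq_one h2)
        rw [hD.ord, pow_succ] at h3
        have := hk k
        have := hk k'
        omega
    · exact absurd h (hne k _ (hord2 _))
    · exact absurd h.symm (hne k' _ (hord2 _))
    · congr 1
      have h1 : (Quotient.mk (setoid3 M a x y j) q.out) = Quotient.mk (setoid3 M a x y j) q'.out :=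
        Quotient.sound (s := setoid3 M a x y j) h
      rwa [Quotient.out_eq, Quotient.out_eq] at h1
  · intro v hv hv1
    by_cases hvx : v ∈ Subgroup.zpowers x
    · obtain ⟨k, hk0, hk1, hk2⟩ := exists_pow_of_mem hD hvx hv1
      rcases Nat.lt_or_ge k (2 ^ j) with hlt | hge
      · refine ⟨Sum.inl ⟨k - 1, by omega⟩, ?_⟩
        have h1 : rep M a x y j (Sum.inl ⟨k - 1, by omega⟩) = x ^ k := by
          change x ^ (k - 1 + 1) = x ^ k
          rw [Nat.sub_add_cancel hk0]
        rw [h1]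
        rcases hk2 with h2 | h2
        · rw [h2]; exact Fus.refl _
        · rw [h2]
          have h3 := Fus.of_mem hM ha hy (u := x ^ k) (a.1.pow_mem hD.mem _)
          rwa [hD.conj_mem hy hyx (Subgroup.npow_mem_zpowers x k)] at h3
      · have hk3 : k = 2 ^ j := le_antisymm hk1 hge
        subst hk3
        have h2 : v = x ^ 2 ^ j := by
          rcases hk2 with h2 | h2
          · exact h2
          · rw [h2, hD.z_inv]
        refine ⟨Sum.inr (Quotient.mk (setoid3 M a x y j) 0), ?_⟩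
        rw [h2]
        exact fus_inv3_out 0
    · obtain ⟨c, hc, h1 | h1⟩ := exists_conj_of_notMem hD hy hyx hv hvx
      · refine ⟨Sum.inr (Quotient.mk (setoid3 M a x y j) 1), ?_⟩
        rw [← h1]
        exact (fus_inv3_out 1).trans (Fus.of_mem hM ha hc hy)
      · refine ⟨Sum.inr (Quotient.mk (setoid3 M a x y j) 2), ?_⟩
        rw [← h1]
        exact (fus_inv3_out 2).trans (Fus.of_mem hM ha hc (a.1.mul_mem hD.mem hy))

/-- The number of classes of involutions. -/
noncomputable def rho (M : Ideal AlgInt) (a : BrauerPairIdx G) (x y : G) (j : ℕ) : ℕ :=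
  Nat.card (Quotient (setoid3 M a x y j))

theorem rho_le (y : G) : rho M a x y j ≤ 3 := by
  have h := Nat.card_le_card_of_surjective (Quotient.mk (setoid3 M a x y j))
    Quotient.mk_surjective
  rwa [Nat.card_fin] at h

theorem rho_pos (y : G) : 1 ≤ rho M a x y j := by
  have : Nonempty (Quotient (setoid3 M a x y j)) := ⟨Quotient.mk _ 0⟩
  exact Nat.card_pos

/-- `ρ = 1` means that all involutions are fused. -/
theorem fus_of_rho_eq_one (hM : IsPModular 2 M) (hmax : IsMaximalBrauerPair 2 M B a.1 a.2)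
    (hD : IsDih a.1 x j) {y : G} (hy : y ∈ a.1) (hyx : y ∉ Subgroup.zpowers x)
    (h1 : rho M a x y j = 1) {v : G} (hv : v ∈ a.1) (hv1 : v ≠ 1) (hv2 : v * v = 1) :
    Fus 2 M a (x ^ 2 ^ j) v := by
  have : Fact (Nat.Prime 2) := ⟨Nat.prime_two⟩
  have ha : IsBrauerPair 2 M a.1 a.2 := hmax.1.1
  have hsub : Subsingleton (Quotient (setoid3 M a x y j)) :=
    (Finite.card_le_one_iff_subsingleton).1 h1.le
  have h2 : ∀ i : Fin 3, Fus 2 M a (x ^ 2 ^ j) (inv3 x y j i) := fun i =>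
    Quotient.exact (s := setoid3 M a x y j) (Subsingleton.elim (Quotient.mk _ 0) (Quotient.mk _ i))
  by_cases hvx : v ∈ Subgroup.zpowers x
  · rcases hD.eq_of_sq hvx hv2 with h3 | h3
    · exact absurd h3 hv1
    · rw [h3]; exact Fus.refl _
  · obtain ⟨c, hc, h3 | h3⟩ := exists_conj_of_notMem hD hy hyx hv hvx
    · rw [← h3]; exact (h2 1).trans (Fus.of_mem hM ha hc hy)
    · rw [← h3]; exact (h2 2).trans (Fus.of_mem hM ha hc (a.1.mul_mem hD.mem hy))

/-- `k(B) = l(B) + 2 ^ j - 1 + ρ`. -/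
theorem card_eq (hM : IsPModular 2 M) (hmax : IsMaximalBrauerPair 2 M B a.1 a.2)
    (hD : IsDih a.1 x j) {y : G} (hy : y ∈ a.1) (hyx : y ∉ Subgroup.zpowers x) :
    Nat.card B = blockRank 2 B + (2 ^ j - 1 + rho M a x y j) := by
  have : Fact (Nat.Prime 2) := ⟨Nat.prime_two⟩
  have := Fintype.ofFinite (Quotient (setoid3 M a x y j))
  have hs := isSys_rep hM hmax hD hy hyx
  rw [hs.card_eq hM hmax.1.2.1]
  congr 1
  have h1 : ∀ i, blockRank 2 (bel 2 M a (rep M a x y j i)).2 = 1 := by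
    intro i
    refine blockRank_bel hM hmax hD ?_ (hs.ne_one i)
    rcases i with k | q
    · exact a.1.pow_mem hD.mem _
    · exact inv3_mem hD hy _
  rw [Finset.sum_congr rfl fun i _ => h1 i, Finset.sum_const, smul_eq_mul, mul_one,
    Finset.card_univ, Fintype.card_sum, Fintype.card_fin, rho, Nat.card_eq_fintype_card]

end Cfsg.Agent.H613.DihFus
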