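import Mathlib
import Cfsg.Agent.H613.DihFus
import Cfsg.Agent.H613.SubDef
import Cfsg.Agent.H613.TwoColC
import Cfsg.Agent.H613.HtFour
import Cfsg.Agent.H613.TwoColD
import Cfsg.Agent.H613.NumCol
import Cfsg.Agent.H613.RankPos

/-!
# The columns of a 2-block with dihedral defect group
-/

set_option autoImplicit false
set_option linter.unusedSectionVars false

open Cfsg
open scoped ComplexConjugate

namespace Cfsg.Agent.H613.DihCol

open Cfsg.Agent.Blocks.Blau Cfsg.Agent.Blocks.Local Cfsg.Agent.Characters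
open Cfsg.Agent.H613.SubSys Cfsg.Agent.H613.SubFus Cfsg.Agent.H613.CycFus Cfsg.Agent.H613.DihGrp
open Cfsg.Agent.H613.DihFus Cfsg.Agent.H613.SubDef Cfsg.Agent.H613.TwoCol Cfsg.Agent.H613.HtFour
open Cfsg.Agent.H613.RegGram Cfsg.Agent.H613.Contrib Cfsg.Agent.H613.ContribVal
open Cfsg.Agent.H649 Cfsg.Agent.H617.TwoAvg

universe u

/-- Conjugation of the numbers `ev`. -/
theorem conj_ev {j : ℕ} (a : ℕ → ℤ) {k k' : ℕ} (h : 2 ^ (j + 1) ∣ k + k') :
    conj (ev j a k) = ev j a k' := by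
  rw [ev_def, ev_def, map_sum]
  refine Finset.sum_congr rfl fun m _ => ?_
  rw [map_mul, map_intCast, conj_w_pow]
  congr 1
  rw [inv_eq_iff_eq_inv]
  refine eq_inv_of_mul_eq_one_left ?_
  rw [← pow_add, ← mul_add]
  obtain ⟨c, hc⟩ := h
  rw [hc, mul_left_comm, pow_mul, w_pow_card, one_pow]

variable {G : Type u} [Group G] [Finite G] {M : Ideal AlgInt}
  {B : Set (IrrCharacter G)} {a : BrauerPairIdx G} {x y : G} {j : ℕ}

theorem blockDefect_eq (hM : IsPModular 2 M) (hmax : IsMaximalBrauerPair 2 M B a.1 a.2)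
    (hD : IsDih a.1 x j) : blockDefect 2 B = j + 2 := by
  have : Fact (Nat.Prime 2) := ⟨Nat.prime_two⟩
  have := Fintype.ofFinite G
  have := isPrime_of_isPModular hM
  have h1 := S0908.result 2 M hM B hmax.1.2.1 a.1
    (H644.isDefectGroup_of_isMaximalBrauerPair hM hmax)
  rw [hD.card] at h1
  exact (Nat.pow_right_injective (le_refl 2) h1).symm

/-- The defect of the block of `z`. -/
theorem blockDefect_z (hM : IsPModular 2 M) (hmax : IsMaximalBrauerPair 2 M B a.1 a.2)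
    (hD : IsDih a.1 x j) : blockDefect 2 (bel 2 M a (x ^ 2 ^ j)).2 = j + 2 := by
  have : Fact (Nat.Prime 2) := ⟨Nat.prime_two⟩
  have h1 := card_le_defect hM hmax hD.z_mem
  have h2 : a.1 ⊓ Subgroup.centralizer ((Subgroup.zpowers (x ^ 2 ^ j) : Subgroup G) : Set G) =
      a.1 := by
    refine inf_eq_left.2 fun w hw => ?_
    rw [Subgroup.mem_centralizer_iff]
    intro c hc
    obtain ⟨k, rfl⟩ := Subgroup.mem_zpowers_iff.1 hc
    exact ((show Commute w (x ^ 2 ^ j) from hD.z_comm hw).zpow_right k).eq.symm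
  rw [h2, hD.card] at h1
  obtain ⟨v, hv, -, h3⟩ := exists_fus_defect hM hmax hD.z_mem
  have h4 : Nat.card (a.1 ⊓ Subgroup.centralizer ((Subgroup.zpowers v : Subgroup G) : Set G) :
      Subgroup G) ≤ Nat.card a.1 :=
    Nat.card_le_card_of_injective _ (Subgroup.inclusion_injective inf_le_left)
  rw [← h3, hD.card] at h4
  exact Nat.pow_right_injective (le_refl 2) (le_antisymm h4 h1)

/-- The defect of the block of `x`. -/
theorem blockDefect_x (hM : IsPModular 2 M) (hmax : IsMaximalBrauerPair 2 M B a.1 a.2)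
    (hD : IsDih a.1 x j) : blockDefect 2 (bel 2 M a x).2 = j + 1 := by
  have : Fact (Nat.Prime 2) := ⟨Nat.prime_two⟩
  obtain ⟨v, hv, hf, h3⟩ := exists_fus_defect hM hmax hD.mem
  have hv2 : v * v ≠ 1 := by
    intro h
    have h4 : orderOf v ∣ 2 := orderOf_dvd_of_pow_eq_one (by rw [pow_two, h])
    rw [← hf.orderOf_eq, hD.ord] at h4
    have h5 := Nat.le_of_dvd (by norm_num) h4
    have h6 : 2 ^ 2 ≤ 2 ^ (j + 1) := Nat.pow_le_pow_right (by norm_num) (by have := hD.pos; omega)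
    omega
  have hvx : v ∈ Subgroup.zpowers x := by
    by_contra h
    exact hv2 (hD.sq v hv h)
  have h4 : a.1 ⊓ Subgroup.centralizer ((Subgroup.zpowers v : Subgroup G) : Set G) =
      Subgroup.zpowers x := by
    apply le_antisymm
    · rintro w ⟨hw, hwc⟩
      refine hD.mem_of_comm hvx hv2 hw ?_
      exact ((Subgroup.mem_centralizer_iff.1 hwc) v (Subgroup.mem_zpowers v)).symm
    · refine le_inf hD.zpowers_le fun w hw => ?_
      rw [Subgroup.mem_centralizer_iff]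
      intro c hc
      obtain ⟨k, rfl⟩ := Subgroup.mem_zpowers_iff.1 hw
      obtain ⟨l, rfl⟩ := Subgroup.mem_zpowers_iff.1 hvx
      obtain ⟨i, rfl⟩ := Subgroup.mem_zpowers_iff.1 hc
      rw [← zpow_mul, ← zpow_add, ← zpow_add, add_comm]
  rw [h4, Nat.card_zpowers, hD.ord] at h3
  exact Nat.pow_right_injective (le_refl 2) h3

theorem bel_eq_of_zpowers_eq (hM : IsPModular 2 M) (ha : IsBrauerPair 2 M a.1 a.2) {u v : G}
    (hu : u ∈ a.1) (h : Subgroup.zpowers u = Subgroup.zpowers v) :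
    bel 2 M a u = bel 2 M a v := by
  have : Fact (Nat.Prime 2) := ⟨Nat.prime_two⟩
  exact eq_bel hM ha h (bel_le hM ha hu)

section colx

variable {dx : IrrCharacter (Subgroup.centralizer ((bel 2 M a x).1 : Set G)) → ℕ}
  {ax : IrrCharacter G → ℕ → ℤ}

/-- The fusion of the generators of `⟨x⟩`. -/
theorem exists_conj_iff (hM : IsPModular 2 M) (hmax : IsMaximalBrauerPair 2 M B a.1 a.2)
    (hD : IsDih a.1 x j) {k k' : ℕ} (hk : k ∈ oddSet (j + 1)) (hk' : k' ∈ oddSet (j + 1)) :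
    (∃ g : G, g * x ^ k * g⁻¹ = x ^ k' ∧ conjIdx g (bel 2 M a x) = bel 2 M a x) ↔
      (k' = k ∨ k' = (2 ^ (j + 1) - 1) * k % 2 ^ (j + 1)) := by
  have : Fact (Nat.Prime 2) := ⟨Nat.prime_two⟩
  have ha : IsBrauerPair 2 M a.1 a.2 := hmax.1.1
  rw [mem_oddSet] at hk hk'
  have hb : ∀ k, Odd k → bel 2 M a (x ^ k) = bel 2 M a x := fun k hk =>
    bel_eq_of_zpowers_eq hM ha (a.1.pow_mem hD.mem k) (zpowers_pow_odd hD.pow_eq_one hk)
  have hN : 1 ≤ 2 ^ (j + 1) := Nat.one_le_two_pow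
  have hinv : x ^ ((2 ^ (j + 1) - 1) * k) = (x ^ k)⁻¹ := by
    rw [eq_inv_iff_mul_eq_one, ← pow_add]
    have h1 : (2 ^ (j + 1) - 1) * k + k = 2 ^ (j + 1) * k := by
      conv_lhs => rw [← Nat.succ_mul, Nat.succ_eq_add_one, Nat.sub_add_cancel hN]
    rw [h1, pow_mul, hD.pow_eq_one, one_pow]
  have hmod : x ^ ((2 ^ (j + 1) - 1) * k % 2 ^ (j + 1)) = (x ^ k)⁻¹ := by
    rw [← hinv]
    have h1 : (2 ^ (j + 1) - 1) * k % 2 ^ (j + 1) = (2 ^ (j + 1) - 1) * k % orderOf x := by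
      rw [hD.ord]
    rw [h1, pow_mod_orderOf]
  constructor
  · rintro ⟨g, hg, hgb⟩
    have hf : Fus 2 M a (x ^ k) (x ^ k') := ⟨g, hg, by rw [hb k hk.2, hb k' hk'.2, hgb]⟩
    rcases eq_or_inv_of_fus hM hmax hD (Subgroup.npow_mem_zpowers x k)
      (Subgroup.npow_mem_zpowers x k') hf with h1 | h1
    · left
      exact pow_injOn_Iio_orderOf (by rw [Set.mem_Iio, hD.ord]; exact hk'.1)
        (by rw [Set.mem_Iio, hD.ord]; exact hk.1) h1
    · right
      rw [← hmod] at h1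
      exact pow_injOn_Iio_orderOf (by rw [Set.mem_Iio, hD.ord]; exact hk'.1)
        (by rw [Set.mem_Iio, hD.ord]; exact Nat.mod_lt _ (by positivity)) h1
  · rintro (rfl | rfl)
    · exact ⟨1, by simp, conjIdx_one _⟩
    · obtain ⟨y, hy, hyx⟩ := hD.exists_notMem
      refine ⟨y, ?_, ?_⟩
      · rw [hmod, hD.conj_mem hy hyx (Subgroup.npow_mem_zpowers x k)]
      · rw [conjIdx_bel hM ha (conjIdx_self hM ha hy) hD.mem, hD.conj y hy hyx]
        refine bel_eq_of_zpowers_eq hM ha (inv_mem hD.mem) ?_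
        rw [Subgroup.zpowers_inv]

theorem not_modEq (hD : IsDih a.1 x j) : ¬ (2 ^ (j + 1) - 1) ≡ 1 [MOD 2 ^ (j + 1)] := by
  intro h
  have hN : 4 ≤ 2 ^ (j + 1) := by
    calc 4 = 2 ^ 2 := by norm_num
      _ ≤ 2 ^ (j + 1) := Nat.pow_le_pow_right (by norm_num) (by have := hD.pos; omega)
  unfold Nat.ModEq at h
  rw [Nat.mod_eq_of_lt (by omega), Nat.mod_eq_of_lt (by omega)] at h
  omega

theorem odd_sub_one (j : ℕ) : Odd (2 ^ (j + 1) - 1) := by
  refine Nat.Even.sub_odd Nat.one_le_two_pow ?_ odd_one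
  exact (Nat.even_pow.2 ⟨even_two, Nat.succ_ne_zero j⟩)

/-- `∑ a₀² = 4`. -/
theorem sum_sq_x [Fintype B] (hM : IsPModular 2 M) (hmax : IsMaximalBrauerPair 2 M B a.1 a.2)
    (hD : IsDih a.1 x j) (hx : Col M B x (bel 2 M a x) j dx ax) :
    ∑ χ : B, ax χ 0 ^ 2 = 4 := by
  have h1 := hx.sum_sq_zero hM (blockRank_bel hM hmax hD hD.mem (by
      intro h
      have := hD.ord
      rw [h, orderOf_one] at this
      have h2 : 1 < 2 ^ (j + 1) := Nat.one_lt_two_pow (Nat.succ_ne_zero j)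
      omega)) (odd_sub_one j) (not_modEq hD) (fun k k' hk hk' => exists_conj_iff hM hmax hD hk hk')
  rw [blockDefect_x hM hmax hD] at h1
  have h2 : (2 : ℤ) * 2 ^ (j + 1) = 2 ^ j * 4 := by rw [pow_succ]; ring
  rw [h2] at h1
  exact mul_left_cancel₀ (pow_ne_zero j two_ne_zero) h1

theorem real_x (hM : IsPModular 2 M) (hmax : IsMaximalBrauerPair 2 M B a.1 a.2)
    (hD : IsDih a.1 x j) (hx : Col M B x (bel 2 M a x) j dx ax) (χ : IrrCharacter G) :
    ∀ k ∈ oddSet (j + 1), conj (ev j (ax χ) k) = ev j (ax χ) k := by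
  intro k hk
  have hN : 1 ≤ 2 ^ (j + 1) := Nat.one_le_two_pow
  have hk2 := mem_oddSet.1 hk
  set k' := (2 ^ (j + 1) - 1) * k % 2 ^ (j + 1) with hk'
  have hk'o : k' ∈ oddSet (j + 1) := by
    rw [mem_oddSet]
    refine ⟨Nat.mod_lt _ (by positivity), ?_⟩
    have h4 : Odd ((2 ^ (j + 1) - 1) * k) := (odd_sub_one j).mul hk2.2
    rw [hk', Nat.odd_iff]
    rw [Nat.odd_iff] at h4
    rw [Nat.mod_mod_of_dvd _ (dvd_pow_self 2 (Nat.succ_ne_zero j))]
    exact h4
  obtain ⟨g, hg1, hg2⟩ := (exists_conj_iff hM hmax hD hk hk'o).2 (Or.inr rfl)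
  have h1 := hx.ev_eq hM (blockRank_bel hM hmax hD hD.mem (by
      intro h
      have := hD.ord
      rw [h, orderOf_one] at this
      have h2 : 1 < 2 ^ (j + 1) := Nat.one_lt_two_pow (Nat.succ_ne_zero j)
      omega)) hk2.2 (mem_oddSet.1 hk'o).2 hg1 hg2 χ
  rw [conj_ev (k' := k') (ax χ) ?_, h1]
  rw [Nat.dvd_iff_mod_eq_zero, hk', Nat.add_mod_mod]
  have h2 : k + (2 ^ (j + 1) - 1) * k = 2 ^ (j + 1) * k := by
    rw [add_comm, ← Nat.succ_mul, Nat.succ_eq_add_one, Nat.sub_add_cancel hN]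
  rw [h2, Nat.mul_mod_right]

theorem x_ne_one (hD : IsDih a.1 x j) : x ≠ 1 := by
  intro h
  have := hD.ord
  rw [h, orderOf_one] at this
  have h2 : 1 < 2 ^ (j + 1) := Nat.one_lt_two_pow (Nat.succ_ne_zero j)
  omega

/-- The characters of height zero, as a finset. -/
noncomputable def htZero (B : Set (IrrCharacter G)) [Fintype B] : Finset B := by
  classical
  exact Finset.univ.filter fun χ : B => blockHeight 2 B ((χ : IrrCharacter G) : G → ℂ) = 0

theorem mem_htZero [Fintype B] {χ : B} :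
    χ ∈ htZero B ↔ blockHeight 2 B ((χ : IrrCharacter G) : G → ℂ) = 0 := by
  unfold htZero
  simp

theorem card_htZero [Fintype B] : (htZero B).card =
    Nat.card {χ : IrrCharacter G // χ ∈ B ∧ blockHeight 2 B (χ : G → ℂ) = 0} := by
  classical
  have h1 : Nat.card {χ : B // blockHeight 2 B ((χ : IrrCharacter G) : G → ℂ) = 0} =
      (htZero B).card := by
    rw [Nat.card_eq_fintype_card, Fintype.card_subtype]
    rfl
  rw [← h1]
  exact Nat.card_congr
    { toFun := fun χ => ⟨χ.1.1, χ.1.2, χ.2⟩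
      invFun := fun χ => ⟨⟨χ.1, χ.2.1⟩, χ.2.2⟩
      left_inv := fun _ => rfl
      right_inv := fun _ => rfl }

/-- There are four characters of height zero, on them `a₀ = ± 1`, elsewhere `a₀ = 0`. -/
theorem main_x [Fintype B] (hM : IsPModular 2 M) (hmax : IsMaximalBrauerPair 2 M B a.1 a.2)
    (hD : IsDih a.1 x j) (hx : Col M B x (bel 2 M a x) j dx ax) :
    (htZero B).card = 4 ∧ (∀ χ ∈ htZero B, ax χ 0 ^ 2 = 1) ∧ ∀ χ ∉ htZero B, ax χ 0 = 0 := by
  refine NumCol.num_four (htZero B) (fun χ : B => ax χ 0) ?_ (sum_sq_x hM hmax hD hx) ?_ ?_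
  · intro χ hχ
    exact hx.odd_zero hM (real_x hM hmax hD hx) χ.2 (mem_htZero.1 hχ)
  · rw [card_htZero]
    exact four_dvd hM hmax.1.2.1 (by rw [blockDefect_eq hM hmax hD]; omega)
  · rw [card_htZero]
    exact one_le hM hmax.1.2.1

end colx

section colz

variable {dz : IrrCharacter (Subgroup.centralizer ((bel 2 M a (x ^ 2 ^ j)).1 : Set G)) → ℕ}
  {az : IrrCharacter G → ℕ → ℤ}

theorem exists_colx (hM : IsPModular 2 M) (hmax : IsMaximalBrauerPair 2 M B a.1 a.2)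
    (hD : IsDih a.1 x j) : ∃ dx ax, Col M B x (bel 2 M a x) j dx ax := by
  have : Fact (Nat.Prime 2) := ⟨Nat.prime_two⟩
  exact exists_col hM (isSubsec_bel hM hmax hD.mem) (blockRank_bel hM hmax hD hD.mem (x_ne_one hD))
    hD.pow_eq_one

theorem exists_colz (hM : IsPModular 2 M) (hmax : IsMaximalBrauerPair 2 M B a.1 a.2)
    (hD : IsDih a.1 x j) :
    ∃ dz az, Col M B (x ^ 2 ^ j) (bel 2 M a (x ^ 2 ^ j)) 0 dz az := by
  have : Fact (Nat.Prime 2) := ⟨Nat.prime_two⟩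
  exact exists_col hM (isSubsec_bel hM hmax hD.z_mem) (blockRank_bel hM hmax hD hD.z_mem hD.z_ne)
    (by rw [zero_add, pow_one, pow_two, hD.z_sq])

/-- Integral columns with the valuation given by the heights. -/
theorem dichotomy [Fintype B] (hM : IsPModular 2 M) (hmax : IsMaximalBrauerPair 2 M B a.1 a.2)
    (hD : IsDih a.1 x j) (hy : y ∈ a.1) (hyx : y ∉ Subgroup.zpowers x)
    {c : IrrCharacter G → ℤ}
    (hc : ∀ χ ∈ B, ∃ m : ℤ, Odd m ∧ c χ = 2 ^ blockHeight 2 B (χ : G → ℂ) * m)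
    (hsum : ∑ χ : B, c χ ^ 2 = 2 ^ (j + 2)) :
    (blockRank 2 B + rho M a x y j = 4 ∧ (∀ χ ∈ htZero B, c χ ^ 2 = 1) ∧
      ∀ χ ∉ htZero B, c χ ^ 2 = 4) ∨
    (blockRank 2 B = 1 ∧ rho M a x y j = 1 ∧
      (∃ χ₀ ∈ htZero B, c χ₀ ^ 2 = 9 ∧ ∀ χ ∈ htZero B, χ ≠ χ₀ → c χ ^ 2 = 1) ∧
      ∀ χ ∉ htZero B, c χ ^ 2 = 4) := by
  have : Fact (Nat.Prime 2) := ⟨Nat.prime_two⟩
  obtain ⟨dx, ax, hx⟩ := exists_colx hM hmax hD
  refine NumCol.num_col (htZero B) (fun χ : B => c χ) (main_x hM hmax hD hx).1 ?_ ?_ (j := j) ?_ ?_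
    ?_ (rho_pos y)
  · intro χ hχ
    obtain ⟨m, hm, h⟩ := hc χ χ.2
    rw [mem_htZero.1 hχ, pow_zero, one_mul] at h
    rwa [h]
  · intro χ hχ
    obtain ⟨m, hm, h⟩ := hc χ χ.2
    have h0 : blockHeight 2 B ((χ : IrrCharacter G) : G → ℂ) ≠ 0 := fun h' => hχ (mem_htZero.2 h')
    change Even (c χ) ∧ c χ ≠ 0
    rw [h]
    refine ⟨?_, ?_⟩
    · exact Even.mul_right ((Int.even_pow.2 ⟨even_two, h0⟩)) m
    · refine mul_ne_zero (pow_ne_zero _ two_ne_zero) ?_
      rintro rfl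
      exact absurd hm (by decide)
  · change ∑ χ : B, c χ ^ 2 = _
    rw [hsum, pow_add]; ring
  · rw [← Nat.card_eq_fintype_card]
    exact card_eq hM hmax hD hy hyx
  · exact RankPos.one_le_blockRank (isPBlock_nonempty hM hmax.1.2.1)

theorem height_le_one {c : IrrCharacter G → ℤ} {χ : IrrCharacter G}
    (hc : ∃ m : ℤ, Odd m ∧ c χ = 2 ^ blockHeight 2 B (χ : G → ℂ) * m) (h4 : c χ ^ 2 = 4) :
    blockHeight 2 B (χ : G → ℂ) = 1 := by
  obtain ⟨m, hm, h⟩ := hc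
  set t := blockHeight 2 B (χ : G → ℂ)
  have h1 : c χ = 2 ∨ c χ = -2 := by
    have h2 : (c χ - 2) * (c χ + 2) = 0 := by linarith [h4, sq (c χ)]
    rcases mul_eq_zero.1 h2 with h3 | h3
    · left; linarith
    · right; linarith
  rcases t with _ | _ | t
  · exfalso
    rw [pow_zero, one_mul] at h
    rw [← h] at hm
    rcases h1 with h1 | h1 <;> rw [h1] at hm <;> exact absurd hm (by decide)
  · rfl
  · exfalso
    have h2 : (4 : ℤ) ∣ c χ := by
      rw [h, pow_add]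
      exact ⟨2 ^ t * m, by ring⟩
    rcases h1 with h1 | h1 <;> rw [h1] at h2 <;> exact absurd h2 (by decide)

end colz

end Cfsg.Agent.H613.DihCol
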