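import Mathlib
import Cfsg.Agent.H613.LocMono
import Cfsg.Agent.H613.TwoColC
import Cfsg.Agent.Blocks.ConvCentral

/-!
# Columns in `G` and in the centralizer of a central element; convolution squares
-/

set_option autoImplicit false
set_option linter.unusedSectionVars false

open Cfsg
open scoped ComplexConjugate

namespace Cfsg.Agent.H613.LocW

open Cfsg.Agent.Blocks.Blau Cfsg.Agent.Blocks.Local Cfsg.Agent.Characters
open Cfsg.Agent.H613.SubSys Cfsg.Agent.H613.SubFus Cfsg.Agent.H644 Cfsg.Agent.H651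
open Cfsg.Agent.H649 Cfsg.Agent.H613.LocMono Cfsg.Agent.H613.TwoCol Cfsg.Agent.H617.TwoAvg
open Cfsg.Agent.H613.RegGram Cfsg.Agent.H613.Contrib

universe u

variable {G : Type u} [Group G] [Finite G] {p : ℕ} {M : Ideal AlgInt}

/-- Transfer of the numbers `W` to `C_G(Q)`. -/
theorem W_loc (Q : Subgroup G) (c : BrauerPairIdx (Subgroup.centralizer (Q : Set G)))
    (u : Subgroup.centralizer (Q : Set G)) (F : G → ℂ) (F' : Subgroup.centralizer (Q : Set G) → ℂ)
    (hF : ∀ y : Subgroup.centralizer (c.1 : Set (Subgroup.centralizer (Q : Set G))),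
      ¬ p ∣ orderOf y →
        F ((u : G) * ((y : Subgroup.centralizer (Q : Set G)) : G)) = F' (u * y))
    (η : IrrCharacter (Subgroup.centralizer (c.1 : Set (Subgroup.centralizer (Q : Set G))))) :
    W p (u : G) (locIdx Q c) F (H649.irrMap (locIso Q c.1) η) = W p u c F' η := by
  classical
  have := Fintype.ofFinite (Subgroup.centralizer ((locIdx Q c).1 : Set G))
  have := Fintype.ofFinite (Subgroup.centralizer (c.1 : Set (Subgroup.centralizer (Q : Set G))))
  rw [W_eq_sum, W_eq_sum]
  have h1 : Nat.card (Subgroup.centralizer ((locIdx Q c).1 : Set G)) =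
      Nat.card (Subgroup.centralizer (c.1 : Set (Subgroup.centralizer (Q : Set G)))) :=
    Nat.card_congr (locIso Q c.1).symm.toEquiv
  rw [h1]
  congr 1
  rw [Finset.sum_filter, Finset.sum_filter]
  let e : Subgroup.centralizer (c.1 : Set (Subgroup.centralizer (Q : Set G))) ≃
    Subgroup.centralizer ((locIdx Q c).1 : Set G) := (locIso Q c.1).toEquiv
  refine (Fintype.sum_equiv e _ _ fun y => ?_).symm
  have h2 : orderOf (e y) = orderOf y :=
    orderOf_injective (locIso Q c.1).toMonoidHom (locIso Q c.1).injective y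
  rw [h2]
  by_cases hy : p ∣ orderOf y
  · rw [if_neg (not_not.2 hy), if_neg (not_not.2 hy)]
  · rw [if_pos hy, if_pos hy, ← hF y hy]
    have h3 : ((H649.irrMap (locIso Q c.1) η :
        IrrCharacter (Subgroup.centralizer ((locIdx Q c).1 : Set G))) :
        Subgroup.centralizer ((locIdx Q c).1 : Set G) → ℂ) (e y) =
        (η : Subgroup.centralizer (c.1 : Set (Subgroup.centralizer (Q : Set G))) → ℂ) y :=
      H649.irrMap_apply' (locIso Q c.1) η y
    rw [h3]
    rfl

/-- Expansion of `W` of a class function. -/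
theorem W_expand [Fintype G] [Fintype (IrrCharacter G)] {F : G → ℂ} (hF : IsClassFunction G F)
    (u : G) (b : BrauerPairIdx G) (η : IrrCharacter (Subgroup.centralizer (b.1 : Set G))) :
    W p u b F η = ∑ χ : IrrCharacter G, classInner F (χ : G → ℂ) * W p u b (χ : G → ℂ) η := by
  rw [← W_sum]
  congr 1
  conv_lhs => rw [Core.classFunction_eq_sum hF]
  funext g
  rw [Finset.sum_apply]
  rfl

open Cfsg.Agent.Blocks.ConvCentral

/-- The coefficients of the convolution square. -/
theorem classInner_conv [Fintype G] {f : G → ℂ} (hf : IsClassFunction G f) (χ : IrrCharacter G) :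
    classInner (conv f f) (χ : G → ℂ) = (Nat.card G : ℂ)⁻¹ *
      ((∑ s : G, f s * conj ((χ : G → ℂ) s)) ^ 2 / (χ : G → ℂ) 1) := by
  have h1 := lin_conv (Core.isIrr_conj χ.2) hf (f' := f)
  have h2 : conj ((χ : G → ℂ) 1) = (χ : G → ℂ) 1 := Blocks.Orthogonality.conj_irr_one χ.2
  rw [h2] at h1
  have h3 : (χ : G → ℂ) 1 ≠ 0 := Blocks.Basic.irr_one_ne_zero χ.2
  rw [Core.classInner_def]
  congr 1
  rw [eq_div_iff h3, pow_two]
  exact h1

end Cfsg.Agent.H613.LocW
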