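import Mathlib
import Cfsg.Agent.H613.LocW

/-!
# Convolution squares of functions supported on involutions, in `G` and in `C_G(z)`
-/

set_option autoImplicit false
set_option linter.unusedSectionVars false

open Cfsg
open scoped ComplexConjugate

namespace Cfsg.Agent.H613.LocW

open Cfsg.Agent.Blocks.ConvCentral

variable {G : Type*} [Group G] [Fintype G]

theorem mem_zpowers_mul {u y : G} (huy : Commute u y) (h : (orderOf u).Coprime (orderOf y)) :
    u ∈ Subgroup.zpowers (u * y) := by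
  obtain ⟨m, hm1, hm2⟩ := Nat.chineseRemainder h 1 0
  refine Subgroup.mem_zpowers_iff.2 ⟨(m : ℤ), ?_⟩
  rw [zpow_natCast, huy.mul_pow]
  have h1 : u ^ m = u := by
    conv_rhs => rw [← pow_one u]
    exact pow_eq_pow_iff_modEq.2 hm1
  have h2 : y ^ m = 1 := orderOf_dvd_iff_pow_eq_one.1 ((Nat.modEq_zero_iff_dvd).1 hm2)
  rw [h1, h2, mul_one]

/-- Only elements centralizing `z` contribute. -/
theorem conv_eq {z : G} (hz2 : z * z = 1) {Q : Subgroup G}
    (hQ : Q = Subgroup.centralizer ({z} : Set G)) [Fintype Q] (f : G → ℂ)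
    (hinv : ∀ s, f s ≠ 0 → s * s = 1) (g : Q) (hz : z ∈ Subgroup.zpowers (g : G)) :
    conv f f (g : G) = conv (fun h : Q => f h) (fun h : Q => f h) g := by
  classical
  rw [conv_apply, conv_apply]
  refine (Finset.sum_of_injOn (fun k : Q => (k : G)) (Subtype.val_injective.injOn)
    (fun _ _ => Finset.mem_coe.2 (Finset.mem_univ _)) ?_ ?_).symm
  · intro s _ hs
    by_contra h0
    have hs1 : f s ≠ 0 := left_ne_zero_of_mul h0
    have hs2 : f (s⁻¹ * g) ≠ 0 := right_ne_zero_of_mul h0
    have h1 := hinv s hs1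
    have h2 := hinv _ hs2
    have hsi : s⁻¹ = s := inv_eq_of_mul_eq_one_left h1
    rw [hsi] at h2
    -- `s g s⁻¹ = g⁻¹`
    have h3 : s * (g : G) * s⁻¹ = (g : G)⁻¹ := by
      rw [hsi, eq_inv_iff_mul_eq_one]
      calc s * (g : G) * s * g = (s * g) * (s * g) := by group
        _ = 1 := h2
    obtain ⟨k, hk⟩ := Subgroup.mem_zpowers_iff.1 hz
    have h4 : s * z * s⁻¹ = z := by
      have hzi : z⁻¹ = z := inv_eq_of_mul_eq_one_left hz2
      rw [← hk, ← conj_zpow, h3, inv_zpow, hk, hzi]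
    have h5 : s ∈ Q := by
      rw [hQ, Subgroup.mem_centralizer_singleton_iff]
      calc s * z = (s * z * s⁻¹) * s := by group
        _ = z * s := by rw [h4]
    exact hs ⟨⟨s, h5⟩, Finset.mem_coe.2 (Finset.mem_univ _), rfl⟩
  · intro s _
    rfl

end Cfsg.Agent.H613.LocW
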