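import Mathlib
import Cfsg.Agent.H613.LocConv
import Cfsg.Agent.H613.DihCol

/-!
# Auxiliary results for the exclusion argument
-/

set_option autoImplicit false
set_option linter.unusedSectionVars false

open Cfsg
open scoped ComplexConjugate

namespace Cfsg.Agent.H613.ExcA

open Cfsg.Agent.Blocks.Blau Cfsg.Agent.Blocks.Local Cfsg.Agent.Characters
open Cfsg.Agent.H613.SubSys Cfsg.Agent.H613.SubFus Cfsg.Agent.H644 Cfsg.Agent.H651
open Cfsg.Agent.H649 Cfsg.Agent.H613.LocMono Cfsg.Agent.H613.TwoCol Cfsg.Agent.H617.TwoAvg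
open Cfsg.Agent.H613.RegGram Cfsg.Agent.H613.Contrib

universe u

section gram

variable {K : Type u} [Group K] [Fintype K] {p : ℕ} [Fact p.Prime] {M : Ideal AlgInt}

/-- A block of rank one: degrees and the form. -/
theorem exists_rank_deg (hM : IsPModular p M) {c : Set (IrrCharacter K)} (hc : IsPBlock M c)
    (hl : blockRank p c = 1) :
    ∃ (d : IrrCharacter K → ℕ) (f : ℂ), f ≠ 0 ∧ (∀ η ∈ c, 0 < d η) ∧
      ∑ᶠ η ∈ c, d η ^ 2 = p ^ blockDefect p c ∧
      (∀ η ∈ c, (η : K → ℂ) 1 = d η * f) ∧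
      ∀ (η : IrrCharacter K), η ∈ c → ∀ (η' : IrrCharacter K), η' ∈ c →
        rg p (η : K → ℂ) (η' : K → ℂ) = (d η : ℂ) * (d η' : ℂ) / (p : ℂ) ^ blockDefect p c := by
  classical
  have := Core.finite_irr (G := K)
  have := Fintype.ofFinite (IrrCharacter K)
  have := Fintype.ofFinite c
  have hreg1 : IsPRegular p (1 : K) := by
    rw [IsPRegular, orderOf_one]; exact hM.1.one_lt.ne' ∘ Nat.dvd_one.1
  obtain ⟨D, hD⟩ := Cfsg.Agent.H646.DefectBasic.exists_isDefectGroup hM hc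
  obtain ⟨φ, d, _, hd, hsum⟩ := S4675.result p M hM c hc D hD hl
  have hcard : Nat.card D = p ^ blockDefect p c := S0908.result p M hM c hc D hD
  rw [hcard] at hsum
  have hr : ∀ (η : IrrCharacter K), η ∈ c → ∀ (η' : IrrCharacter K), η' ∈ c →
      rg p (η : K → ℂ) (η' : K → ℂ) = (d η : ℂ) * (d η' : ℂ) * rg p φ φ := by
    intro η hη η' hη'
    rw [rg_def, rg_def, pair_eq_sum_filter, pair_eq_sum_filter]
    have e1 : ∑ x : K with ¬ p ∣ orderOf x, (η : K → ℂ) x * conj ((η' : K → ℂ) x) =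
        (d η : ℂ) * (d η' : ℂ) * ∑ x : K with ¬ p ∣ orderOf x, φ x * conj (φ x) := by
      rw [Finset.mul_sum]
      refine Finset.sum_congr rfl fun x hx => ?_
      have hx' : ¬ p ∣ orderOf x := (Finset.mem_filter.1 hx).2
      rw [hd η hη x hx', hd η' hη' x hx', map_mul, Complex.conj_natCast]
      ring
    rw [e1]
    ring
  have hp0 : (p : ℂ) ^ blockDefect p c ≠ 0 := pow_ne_zero _ (by exact_mod_cast hM.1.ne_zero)
  have h1 := sum_rg_self hM hc
  rw [hl] at h1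
  have h2 : ∑ ζ : c, rg p ((ζ : IrrCharacter K) : K → ℂ) ((ζ : IrrCharacter K) : K → ℂ) =
      (p : ℂ) ^ blockDefect p c * rg p φ φ := by
    have h3 : ∑ ζ : c, d (ζ : IrrCharacter K) ^ 2 = p ^ blockDefect p c := by
      rw [← hsum, ← finsum_set_coe_eq_finsum_mem, finsum_eq_sum_of_fintype]
    have h3' : ∀ ζ : c, rg p ((ζ : IrrCharacter K) : K → ℂ) ((ζ : IrrCharacter K) : K → ℂ) =
        (d (ζ : IrrCharacter K) : ℂ) * (d (ζ : IrrCharacter K) : ℂ) * rg p φ φ :=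
      fun ζ => hr (ζ : IrrCharacter K) ζ.2 (ζ : IrrCharacter K) ζ.2
    rw [Finset.sum_congr rfl fun ζ _ => h3' ζ, ← Finset.sum_mul]
    congr 1
    have h4 : ((∑ ζ : c, d (ζ : IrrCharacter K) ^ 2 : ℕ) : ℂ) = (p : ℂ) ^ blockDefect p c := by
      rw [h3]; push_cast; rfl
    rw [← h4]
    push_cast
    exact Finset.sum_congr rfl fun ζ _ => by ring
  rw [h2] at h1
  have h5 : rg p φ φ = 1 / (p : ℂ) ^ blockDefect p c := by
    rw [eq_div_iff hp0, mul_comm, h1, Nat.cast_one]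
  obtain ⟨η₀, hη₀⟩ := isPBlock_nonempty hM hc
  refine ⟨d, φ 1, ?_, fun η hη => ?_, hsum, fun η hη => hd η hη 1 hreg1,
    fun η hη η' hη' => by rw [hr η hη η' hη', h5]; ring⟩
  · intro h
    have h7 := hd η₀ hη₀ 1 hreg1
    rw [h, mul_zero] at h7
    exact apply_one_ne_zero η₀ h7
  · by_contra h0
    have h6 : d η = 0 := by omega
    have h7 := hd η hη 1 hreg1
    rw [h6, Nat.cast_zero, zero_mul] at h7
    exact apply_one_ne_zero η h7

end gram

section val

variable {G : Type u} [Group G] [Fintype G] {p : ℕ} [Fact p.Prime] {M : Ideal AlgInt}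
  {B : Set (IrrCharacter G)}

/-- The 2-parts of the decomposition numbers of a block of rank one. -/
theorem val_rank_one (hM : IsPModular 2 M) (hB : IsPBlock M B) {d : IrrCharacter G → ℕ}
    (hrg : ∀ (η : IrrCharacter G), η ∈ B → ∀ (η' : IrrCharacter G), η' ∈ B →
        rg 2 (η : G → ℂ) (η' : G → ℂ) = (d η : ℂ) * (d η' : ℂ) / (2 : ℂ) ^ blockDefect 2 B)
    {χ : IrrCharacter G} (hχ : χ ∈ B) :
    ∃ m : ℤ, Odd m ∧ (d χ : ℤ) = 2 ^ blockHeight 2 B (χ : G → ℂ) * m := by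
  have : Fact (Nat.Prime 2) := ⟨Nat.prime_two⟩
  have hP := isPrime_of_isPModular hM
  obtain ⟨ψ, hψ, hψ0⟩ := H648.HeightForm.exists_height_zero (p := 2) hB
  have hp0 : (2 : ℂ) ^ blockDefect 2 B ≠ 0 := pow_ne_zero _ two_ne_zero
  have hreg : ∀ f : G → ℂ, regPart 2 f = pRegularPart 2 f := by
    intro f
    funext g
    unfold regPart pRegularPart
    by_cases h : 2 ∣ orderOf g
    · rw [if_pos h]
      exact (if_neg (show ¬ IsPRegular 2 g from not_not.2 h)).symm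
    · rw [if_neg h]
      exact (if_pos (show IsPRegular 2 g from h)).symm
  have key : ∀ χ : IrrCharacter G, χ ∈ B → ∃ m : ℤ, Odd m ∧
      (d ψ : ℤ) * d χ = 2 ^ blockHeight 2 B (χ : G → ℂ) * m := by
    intro χ hχ
    obtain ⟨n, hn, ⟨m, hm⟩, hn2⟩ := H648.HeightForm.exists_int_height (p := 2) hM hB hψ hψ0 hχ
    have h1 : ((2 : ℂ) ^ blockDefect 2 B) * rg 2 (ψ : G → ℂ) (χ : G → ℂ) = n := by
      rw [← hn, rg_eq_classInner, hreg]
      push_cast
      rfl
    rw [hrg ψ hψ χ hχ, mul_div_cancel₀ _ hp0] at h1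
    have h2 : (d ψ : ℤ) * d χ = n := by exact_mod_cast h1
    refine ⟨m, ?_, by rw [h2, hm]; norm_num⟩
    rw [← Int.not_even_iff_odd, even_iff_two_dvd]
    rintro ⟨k, hk⟩
    apply hn2
    refine ⟨k, ?_⟩
    rw [hm, hk, pow_succ]
    push_cast
    ring
  obtain ⟨m0, hm0, h0⟩ := key ψ hψ
  rw [hψ0, pow_zero, one_mul] at h0
  have hodd : Odd (d ψ : ℤ) := by
    rw [← h0] at hm0
    exact (Int.odd_mul.1 hm0).1
  obtain ⟨m, hm, h1⟩ := key χ hχ
  have h2 : (2 : ℤ) ^ blockHeight 2 B (χ : G → ℂ) ∣ d χ := by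
    refine (IsCoprime.pow_left ?_ : IsCoprime ((2 : ℤ) ^ blockHeight 2 B (χ : G → ℂ))
      (d ψ : ℤ)).dvd_of_dvd_mul_left ⟨m, h1⟩
    exact (Int.isCoprime_iff_gcd_eq_one.2 (by
      rw [Int.gcd_eq_natAbs]
      exact Nat.coprime_two_left.2 (Int.natAbs_odd.2 hodd)))
  obtain ⟨c, hc⟩ := h2
  refine ⟨c, ?_, hc⟩
  rw [hc, mul_left_comm] at h1
  have h3 := mul_left_cancel₀ (pow_ne_zero _ (two_ne_zero (α := ℤ))) h1
  rw [← h3] at hm
  exact (Int.odd_mul.1 hm).2

end val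

section col

variable {G : Type u} [Group G] [Finite G] {M : Ideal AlgInt} {B : Set (IrrCharacter G)}
  {u : G} {b : BrauerPairIdx G} {j : ℕ}
  {d : IrrCharacter (Subgroup.centralizer (b.1 : Set G)) → ℕ} {a : IrrCharacter G → ℕ → ℤ}

/-- The form on the block of a subsection. -/
theorem rg_eq_of_col (hM : IsPModular 2 M) (h : Col M B u b j d a) (hl : blockRank 2 b.2 = 1)
    [Fintype (Subgroup.centralizer (b.1 : Set G))]
    {η η' : IrrCharacter (Subgroup.centralizer (b.1 : Set G))} (hη : η ∈ b.2) (hη' : η' ∈ b.2) :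
    rg 2 (η' : Subgroup.centralizer (b.1 : Set G) → ℂ)
      (η : Subgroup.centralizer (b.1 : Set G) → ℂ) = (d η : ℂ) * d η' / 2 ^ blockDefect 2 b.2 := by
  have : Fact (Nat.Prime 2) := ⟨Nat.prime_two⟩
  have := Core.finite_irr (G := G)
  have := Fintype.ofFinite B
  have hp0 : (2 : ℂ) ^ blockDefect 2 b.2 ≠ 0 := pow_ne_zero _ two_ne_zero
  rw [← h.sub.sum_W_mul_conj_W hM hη hη']
  have h1 : ∀ ψ : B, W 2 u b ((ψ : IrrCharacter G) : G → ℂ) η *
      conj (W 2 u b ((ψ : IrrCharacter G) : G → ℂ) η') =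
      (d η : ℂ) * d η' / 2 ^ blockDefect 2 b.2 / 2 ^ blockDefect 2 b.2 *
        (ev j (a ψ) 1 * conj (ev j (a ψ) 1)) := by
    intro ψ
    have h2 := h.val (ψ : IrrCharacter G) 1 odd_one η hη
    have h3 := h.val (ψ : IrrCharacter G) 1 odd_one η' hη'
    rw [pow_one] at h2 h3
    rw [h2, h3]
    simp only [map_mul, map_div₀, map_pow, Complex.conj_natCast, map_ofNat]
    ring
  rw [Finset.sum_congr rfl fun ψ _ => h1 ψ, ← Finset.mul_sum, h.sum_sq hM odd_one hl]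
  field_simp

/-- The column at a nontrivial element is orthogonal to values at elements of other sections. -/
theorem sum_W_mul_conj_apply' {p : ℕ} [Fact p.Prime] (hM : IsPModular p M) [Fintype B]
    (hB : IsPBlock M B) {u : G}
    (hu : ∃ k : ℕ, orderOf u = p ^ k) {b : BrauerPairIdx G}
    (hb1 : b.1 = Subgroup.zpowers u)
    (η : IrrCharacter (Subgroup.centralizer (b.1 : Set G))) {t v : G} (ht : IsPPart p t v)
    (hv : ¬ IsConj u v) :
    ∑ ψ : B, W p u b (ψ : G → ℂ) η * conj ((ψ : G → ℂ) t) = 0 := by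
  classical
  have := Fintype.ofFinite G
  have := Fintype.ofFinite (Subgroup.centralizer (b.1 : Set G))
  have := isPrime_of_isPModular hM
  have hcen : Subgroup.centralizer (b.1 : Set G) = Subgroup.centralizer ({u} : Set G) := by
    rw [hb1, centralizer_zpowers]
  have hort : ∀ y : Subgroup.centralizer (b.1 : Set G), ¬ p ∣ orderOf y →
      ∑ ψ : B, (ψ : G → ℂ) (u * (y : G)) * conj ((ψ : G → ℂ) t) = 0 := by
    intro y hy
    have h1 : IsPPart p (u * (y : G)) u := by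
      refine ⟨(y : G), rfl, ?_, hu, ?_⟩
      · exact (Subgroup.mem_centralizer_singleton_iff.1 (hcen ▸ y.2)).symm
      · rwa [Subgroup.orderOf_coe]
    have h3 := (S0925.result p M hM).2 _ _ _ _ h1 ht hv B hB
    have hfin := Core.finite_irr (G := G)
    rw [finsum_mem_eq_toFinset_sum] at h3
    rw [← Finset.sum_subtype B.toFinset (p := fun x => x ∈ B) (fun x => Set.mem_toFinset)
      (fun ψ : IrrCharacter G => (ψ : G → ℂ) (u * (y : G)) * conj ((ψ : G → ℂ) t))]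
    rw [← h3]
    refine Finset.sum_congr rfl fun ψ _ => ?_
    rw [Cfsg.Agent.Blocks.Orthogonality.irr_apply_inv ψ.2]
  simp only [W_eq_sum]
  have e1 : ∀ ψ : B, (Nat.card (Subgroup.centralizer (b.1 : Set G)) : ℂ)⁻¹ *
      (∑ y : Subgroup.centralizer (b.1 : Set G) with ¬ p ∣ orderOf y,
        (ψ : G → ℂ) (u * (y : G)) * conj ((η : _ → ℂ) y)) * conj ((ψ : G → ℂ) t) =
      (Nat.card (Subgroup.centralizer (b.1 : Set G)) : ℂ)⁻¹ *
      ∑ y : Subgroup.centralizer (b.1 : Set G) with ¬ p ∣ orderOf y,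
        conj ((η : _ → ℂ) y) * ((ψ : G → ℂ) (u * (y : G)) * conj ((ψ : G → ℂ) t)) := by
    intro ψ
    rw [mul_assoc, Finset.sum_mul]
    congr 1
    exact Finset.sum_congr rfl fun y _ => by ring
  rw [Finset.sum_congr rfl fun ψ _ => e1 ψ, ← Finset.mul_sum, Finset.sum_comm]
  convert mul_zero _
  refine Finset.sum_eq_zero fun y hy => ?_
  rw [← Finset.mul_sum, hort y (Finset.mem_filter.1 hy).2, mul_zero]

/-- Averaging over the odd exponents. -/
theorem sum_zero_of_ev {ι : Type*} (s : Finset ι) {j : ℕ} (c : ι → ℂ) (a : ι → ℕ → ℤ)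
    (h : ∀ k ∈ oddSet (j + 1), ∑ i ∈ s, ev j (a i) k * c i = 0) :
    ∑ i ∈ s, (a i 0 : ℂ) * c i = 0 := by
  have h1 : ∑ k ∈ oddSet (j + 1), ∑ i ∈ s, ev j (a i) k * c i = 0 :=
    Finset.sum_eq_zero h
  rw [Finset.sum_comm] at h1
  have h2 : ∀ i ∈ s, ∑ k ∈ oddSet (j + 1), ev j (a i) k * c i = 2 ^ j * ((a i 0 : ℂ) * c i) := by
    intro i _
    rw [← Finset.sum_mul, sum_ev]; ring
  rw [Finset.sum_congr rfl h2, ← Finset.mul_sum] at h1
  exact (mul_eq_zero.1 h1).resolve_left (pow_ne_zero _ two_ne_zero)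

/-- The trace of the columns is orthogonal to the values at elements of other sections. -/
theorem sum_zero_mul_conj (hM : IsPModular 2 M) [Fintype B] (h : Col M B u b j d a) {t v : G}
    (ht : IsPPart 2 t v) (hv : ∀ k, Odd k → ¬ IsConj (u ^ k) v) :
    ∑ ψ : B, (a ψ 0 : ℂ) * conj ((ψ : G → ℂ) t) = 0 := by
  have : Fact (Nat.Prime 2) := ⟨Nat.prime_two⟩
  have hp0 : (2 : ℂ) ^ blockDefect 2 b.2 ≠ 0 := pow_ne_zero _ two_ne_zero
  refine sum_zero_of_ev Finset.univ _ (fun ψ : B => a ψ) (j := j) fun k hk => ?_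
  have hk' := (mem_oddSet.1 hk).2
  obtain ⟨η, hη⟩ := h.nonempty hM
  have hsub := h.sub.pow h.pow hk'
  have h1 := sum_W_mul_conj_apply' hM h.sub.ind.2.1 hsub.pelt hsub.fst η ht (hv k hk')
  have h2 : ∀ ψ : B, W 2 (u ^ k) b ((ψ : IrrCharacter G) : G → ℂ) η * conj ((ψ : G → ℂ) t) =
      (d η : ℂ) / 2 ^ blockDefect 2 b.2 * (ev j (a ψ) k * conj ((ψ : G → ℂ) t)) := by
    intro ψ
    rw [h.val ψ k hk' η hη]; ring
  rw [Finset.sum_congr rfl fun ψ _ => h2 ψ, ← Finset.mul_sum] at h1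
  refine (mul_eq_zero.1 h1).resolve_left (div_ne_zero ?_ hp0)
  exact_mod_cast (h.pos η hη).ne'

/-- The traces of the columns of nonconjugate subsections are orthogonal. -/
theorem sum_zero_mul_zero (hM : IsPModular 2 M) [Fintype B] (h : Col M B u b j d a) {u' : G}
    {b' : BrauerPairIdx G}
    {d' : IrrCharacter (Subgroup.centralizer (b'.1 : Set G)) → ℕ} {a' : IrrCharacter G → ℕ → ℤ}
    (h' : Col M B u' b' 0 d' a') (hne : orderOf u ≠ orderOf u') :
    ∑ ψ : B, a' ψ 0 * a ψ 0 = 0 := by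
  have h1 : ∑ ψ : B, (a ψ 0 : ℂ) * conj (ev 0 (a' ψ) 1) = 0 := by
    refine sum_zero_of_ev Finset.univ _ (fun ψ : B => a ψ) (j := j) fun k hk => ?_
    refine h.orth hM h' (mem_oddSet.1 hk).2 odd_one ?_
    rintro ⟨x, hx, -⟩
    apply hne
    have h2 : orderOf (u ^ k) = orderOf (u' ^ 1) := by
      rw [← hx, Cfsg.Agent.Blocks.Blau.orderOf_conj_eq]
    rw [pow_one, ← Nat.card_zpowers, zpowers_pow_odd h.pow (mem_oddSet.1 hk).2,
      Nat.card_zpowers] at h2
    exact h2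
  have h2 : ((∑ ψ : B, a' ψ 0 * a ψ 0 : ℤ) : ℂ) = 0 := by
    rw [← h1]
    push_cast
    refine Finset.sum_congr rfl fun ψ _ => ?_
    rw [ev_zero, map_intCast, mul_comm]
  exact_mod_cast h2

end col

end Cfsg.Agent.H613.ExcA
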