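import Mathlib
import Cfsg.Agent.H613.ExcA
import Cfsg.Agent.CharDeep.DegreeBound
import Cfsg.Agent.Characters.GaloisBasic

/-!
# Auxiliary results for the exclusion argument: the centralizer side
-/

set_option autoImplicit false
set_option linter.unusedSectionVars false

open Cfsg
open scoped ComplexConjugate

namespace Cfsg.Agent.H613.ExcB

open Cfsg.Agent.Blocks.Blau Cfsg.Agent.Blocks.Local Cfsg.Agent.Characters
open Cfsg.Agent.H613.SubSys Cfsg.Agent.H613.SubFus Cfsg.Agent.H644 Cfsg.Agent.H651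
open Cfsg.Agent.H649 Cfsg.Agent.H613.LocMono Cfsg.Agent.H613.TwoCol Cfsg.Agent.H617.TwoAvg
open Cfsg.Agent.H613.RegGram Cfsg.Agent.H613.Contrib Cfsg.Agent.H613.DihGrp
open Cfsg.Agent.H613.DihCol Cfsg.Agent.H613.DihFus Cfsg.Agent.H613.SubDef Cfsg.Agent.H613.ExcA

universe u

theorem char_invol {G : Type u} [Group G] [Finite G] {χ : G → ℂ} (hχ : IsCharacter G χ) {t : G}
    (ht : t ^ 2 = 1) : ∃ n : ℤ, χ t = n := by
  obtain ⟨d, m, -, h1, h2⟩ := GaloisBasic.isCharacter_exists_fin_pow hχ t two_ne_zero ht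
  have h3 := h2 1
  rw [pow_one] at h3
  rw [h3]
  have h4 : ∀ i, ∃ n : ℤ, m i ^ 1 = n := by
    intro i
    rcases sq_eq_one_iff.1 (h1 i) with h | h
    · exact ⟨1, by rw [h]; norm_num⟩
    · exact ⟨-1, by rw [h]; norm_num⟩
  choose n hn using h4
  exact ⟨∑ i, n i, by rw [Finset.sum_congr rfl fun i _ => hn i]; push_cast; rfl⟩

/-- A central involution acts by a sign. -/
theorem exists_sign {G : Type u} [Group G] [Finite G] {χ : G → ℂ} (hχ : IsIrrCharacter G χ) {z : G}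
    (hz : z ∈ Subgroup.center G) (hz2 : z * z = 1) :
    ∃ ε : ℤ, ε ^ 2 = 1 ∧ ∀ g, χ (z * g) = ε * χ g := by
  have := Fintype.ofFinite G
  obtain ⟨w, -, hw⟩ := CharDeep.DegreeBound.exists_omega hχ hz
  have h1 : χ 1 ≠ 0 := Blocks.Basic.irr_one_ne_zero hχ
  have h2 : w ^ 2 = 1 := by
    have h3 := hw z
    have h4 := hw 1
    rw [one_mul] at h4
    rw [hz2, h4] at h3
    have h5 : (w ^ 2 - 1) * χ 1 = 0 := by linear_combination -h3
    have h6 := (mul_eq_zero.1 h5).resolve_right h1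
    linear_combination h6
  have hcomm : ∀ g, z * g = g * z := fun g => (Subgroup.mem_center_iff.1 hz g).symm
  rcases sq_eq_one_iff.1 h2 with h | h
  · exact ⟨1, by norm_num, fun g => by rw [hcomm, hw, h]; norm_num⟩
  · exact ⟨-1, by norm_num, fun g => by rw [hcomm, hw, h]; norm_num⟩

theorem isDih_subgroupOf {G : Type u} [Group G] {P : Subgroup G} {x : G} {j : ℕ}
    (h : IsDih P x j) {H : Subgroup G} (hH : P ≤ H) (xH : H) (hx : (xH : G) = x) :
    IsDih (P.subgroupOf H) xH j := by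
  refine ⟨h.pos, ?_, ?_, ?_, ?_, ?_⟩
  · rw [Subgroup.mem_subgroupOf, hx]; exact h.mem
  · rw [← Subgroup.orderOf_coe, hx]; exact h.ord
  · rw [Nat.card_congr (Subgroup.subgroupOfEquivOfLe hH).toEquiv]; exact h.card
  · intro y hy hyx
    apply Subtype.ext
    refine h.sq y hy fun h' => hyx ?_
    obtain ⟨k, hk⟩ := Subgroup.mem_zpowers_iff.1 h'
    exact Subgroup.mem_zpowers_iff.2 ⟨k, Subtype.ext (by rw [← hk, ← hx]; rfl)⟩
  · intro y hy hyx
    apply Subtype.ext
    have h1 := h.conj y hy fun h' => hyx (by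
      obtain ⟨k, hk⟩ := Subgroup.mem_zpowers_iff.1 h'
      exact Subgroup.mem_zpowers_iff.2 ⟨k, Subtype.ext (by rw [← hk, ← hx]; rfl)⟩)
    change (y : G) * (xH : G) * (y : G)⁻¹ = (xH : G)⁻¹
    rw [hx]
    exact h1

section

variable {G : Type u} [Group G] [Finite G] {M : Ideal AlgInt}
  {B : Set (IrrCharacter G)} {a : BrauerPairIdx G} {x y : G} {j : ℕ}

/-- The column at an involution not fused to `z` vanishes on characters of positive height. -/
theorem vanish_invol (hM : IsPModular 2 M) (hmax : IsMaximalBrauerPair 2 M B a.1 a.2)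
    (hD : IsDih a.1 x j) {v : G} (hv : v ∈ a.1) (hv1 : v ≠ 1) (hv2 : v * v = 1)
    (hvz : ¬ Fus 2 M a v (x ^ 2 ^ j)) {χ : IrrCharacter G} (hχ : χ ∈ B)
    (hχ0 : blockHeight 2 B (χ : G → ℂ) ≠ 0)
    {η : IrrCharacter (Subgroup.centralizer ((bel 2 M a v).1 : Set G))}
    (hη : η ∈ (bel 2 M a v).2) : W 2 v (bel 2 M a v) (χ : G → ℂ) η = 0 := by
  classical
  have : Fact (Nat.Prime 2) := ⟨Nat.prime_two⟩
  have := Core.finite_irr (G := G)
  have := Fintype.ofFinite B
  have hl := blockRank_bel hM hmax hD hv hv1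
  obtain ⟨d, c, hc⟩ := exists_col hM (isSubsec_bel hM hmax hv) hl (j := 0)
    (by rw [zero_add, pow_one, pow_two, hv2])
  obtain ⟨v', hv', hf, hdef⟩ := exists_fus_defect hM hmax hv
  have hv'1 : v' ≠ 1 := by
    rintro rfl
    have := hf.orderOf_eq
    rw [orderOf_one, orderOf_eq_one_iff] at this
    exact hv1 this
  have hv'2 : v' * v' = 1 := by
    have h1 : orderOf v' ∣ 2 := by
      rw [← hf.orderOf_eq]
      exact orderOf_dvd_of_pow_eq_one (by rw [pow_two, hv2])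
    rw [← pow_two]
    exact orderOf_dvd_iff_pow_eq_one.1 h1
  have hv'x : v' ∉ Subgroup.zpowers x := by
    intro h
    rcases hD.eq_of_sq h hv'2 with h1 | h1
    · exact hv'1 h1
    · rw [h1] at hf; exact hvz hf
  have hcard : Nat.card (a.1 ⊓ Subgroup.centralizer ((Subgroup.zpowers v' : Subgroup G) : Set G) :
      Subgroup G) ≤ 4 := by
    have h1 : ((a.1 ⊓ Subgroup.centralizer ((Subgroup.zpowers v' : Subgroup G) : Set G) :
        Subgroup G) : Set G) ⊆ (({1, x ^ 2 ^ j, v', x ^ 2 ^ j * v'} : Finset G) : Set G) := by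
      rintro w ⟨hw1, hw2⟩
      have h2 := hD.eq_of_comm hv' hv'x hw1
        ((Subgroup.mem_centralizer_iff.1 hw2) v' (Subgroup.mem_zpowers v')).symm
      simpa using h2
    have h2 := Set.ncard_le_ncard h1 (Finset.finite_toSet _)
    rw [Set.ncard_coe_finset] at h2
    exact h2.trans Finset.card_le_four
  have hsum := hc.sum_sq_int hM hl
  have hle : (2 : ℤ) ^ blockDefect 2 (bel 2 M a v).2 ≤ 4 := by
    rw [← hdef] at hcard
    exact_mod_cast hcard
  have hodd : ∀ ψ ∈ htZero B, Odd (c (ψ : IrrCharacter G) 0) := by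
    intro ψ hψ
    have h1 := hc.not_memLocalIdeal hM ψ.2 (mem_htZero.1 hψ) (k := 1) odd_one
    rw [ev_zero] at h1
    have hP := isPrime_of_isPModular hM
    rw [memLocalIdeal_intCast_iff hM] at h1
    exact Int.not_even_iff_odd.1 (fun h2 => h1 (by
      obtain ⟨m, hm⟩ := h2
      exact ⟨m, by rw [hm]; push_cast; ring⟩))
  obtain ⟨dx, ax, hx⟩ := exists_colx hM hmax hD
  have h4 := (main_x hM hmax hD hx).1
  have hge : (4 : ℤ) ≤ ∑ ψ : B, c (ψ : IrrCharacter G) 0 ^ 2 := by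
    have h5 : ∑ ψ ∈ htZero B, (1 : ℤ) ≤ ∑ ψ ∈ htZero B, c (ψ : IrrCharacter G) 0 ^ 2 := by
      refine Finset.sum_le_sum fun ψ hψ => ?_
      obtain ⟨k, hk, hk'⟩ := NumCol.odd_sq (hodd ψ hψ)
      linarith
    rw [Finset.sum_const, h4] at h5
    refine le_trans (by simpa using h5) ?_
    exact Finset.sum_le_sum_of_subset_of_nonneg (Finset.subset_univ _) fun _ _ _ => sq_nonneg _
  have hsum4 : ∑ ψ : B, c (ψ : IrrCharacter G) 0 ^ 2 = 4 := le_antisymm (by rw [hsum]; exact hle) hge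
  obtain ⟨-, -, h0⟩ := NumCol.num_four (htZero B) (fun ψ : B => c (ψ : IrrCharacter G) 0) hodd
    hsum4 (by rw [h4]) (by rw [h4]; norm_num)
  have h5 : c χ 0 = 0 := h0 ⟨χ, hχ⟩ fun h => hχ0 (mem_htZero.1 h)
  have h6 := hc.val χ 1 odd_one η hη
  rw [pow_one] at h6
  rw [h6, ev_zero, h5, Int.cast_zero, mul_zero]

/-- Characters of positive height vanish at the involutions not conjugate to `z`. -/
theorem apply_invol_eq_zero (hM : IsPModular 2 M) (hmax : IsMaximalBrauerPair 2 M B a.1 a.2)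
    (hD : IsDih a.1 x j) {t : G} (ht1 : t ≠ 1) (ht2 : t * t = 1)
    (htz : ¬ IsConj t (x ^ 2 ^ j)) {χ : IrrCharacter G} (hχ : χ ∈ B)
    (hχ0 : blockHeight 2 B (χ : G → ℂ) ≠ 0) : (χ : G → ℂ) t = 0 := by
  have : Fact (Nat.Prime 2) := ⟨Nat.prime_two⟩
  have hB := hmax.1.2.1
  have ht : orderOf t = 2 := orderOf_eq_prime (by rw [pow_two, ht2]) ht1
  have key := apply_eq_zero_of_W (p := 2) (v := t) (f := (χ : G → ℂ)) (y := 1) hM
    (isClassFunction_coe χ) ?_ (by rw [orderOf_one]; norm_num) (Commute.one_right t)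
  · rwa [mul_one] at key
  · intro c hc1 hc η hη
    by_cases hind : IsInducedBlock M (Subgroup.centralizer (c.1 : Set G)) c.2 B
    · have hsub : IsSubsec 2 M B t c := ⟨hc1, ⟨1, by rw [ht, pow_one]⟩, hind⟩
      obtain ⟨g, hg1, hg2⟩ := exists_fus_of_isSubsec hM hmax hsub
      have h2 := W_conj 2 g t c (isClassFunction_coe χ) η
      rw [← h2]
      have key : ∀ b : BrauerPairIdx G, b = bel 2 M a (g * t * g⁻¹) →
          ∀ η' : IrrCharacter (Subgroup.centralizer (b.1 : Set G)), η' ∈ b.2 →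
          W 2 (g * t * g⁻¹) b (χ : G → ℂ) η' = 0 := by
        rintro _ rfl η' hη'
        refine vanish_invol hM hmax hD hg1 (fun h => ht1 (conj_eq_one_iff.1 h)) ?_ ?_ hχ hχ0 hη'
        · calc g * t * g⁻¹ * (g * t * g⁻¹) = g * (t * t) * g⁻¹ := by group
            _ = 1 := by rw [ht2]; group
        · rintro ⟨w, hw, -⟩
          apply htz
          refine isConj_iff.2 ⟨w * g, ?_⟩
          rw [← hw]; group
      exact key _ hg2 _ ((cjI_mem g c η).2 hη)
    · exact W_eq_zero hM ⟨1, by rw [ht, pow_one]⟩ hc1 hB hc hind hχ hη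

end

end Cfsg.Agent.H613.ExcB
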