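import Mathlib

/-!
# Numerical lemmas for the exclusion of the case of one Brauer character and fused involutions
-/

set_option autoImplicit false

namespace Cfsg.Agent.H613.NumExc

/-- `x = 0` if `x ^ 2 = 3 y ^ 2`. -/
theorem eq_zero_of_sq {x y : ℤ} (h : x ^ 2 = 3 * y ^ 2) : x = 0 ∧ y = 0 := by
  by_cases hy : y = 0
  · subst hy
    refine ⟨?_, rfl⟩
    have h1 : x ^ 2 = 0 := by rw [h]; ring
    exact pow_eq_zero_iff two_ne_zero |>.1 h1
  · exfalso
    have h1 : Irrational (Real.sqrt (3 : ℕ)) := Nat.Prime.irrational_sqrt Nat.prime_three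
    apply h1
    have hy' : (y : ℝ) ≠ 0 := by exact_mod_cast hy
    refine ⟨|x / y|, ?_⟩
    have h2 : ((x : ℝ) / y) ^ 2 = 3 := by
      rw [div_pow, div_eq_iff (pow_ne_zero 2 hy')]
      exact_mod_cast h
    have h3 : Real.sqrt ((3 : ℕ) : ℝ) = |(x : ℝ) / y| := by
      rw [← Real.sqrt_sq_eq_abs, h2]
      norm_num
    rw [h3]
    push_cast
    rfl

/-- Three signs adding up to `- 3 α`. -/
theorem eq_neg_of_sum {ι : Type*} (T : Finset ι) (hT : T.card = 3) (a : ι → ℤ) {α : ℤ}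
    (hα : α ^ 2 = 1) (ha : ∀ i ∈ T, a i ^ 2 = 1) (h : 3 * α + ∑ i ∈ T, a i = 0) :
    ∀ i ∈ T, a i = -α := by
  have h1 : ∀ i ∈ T, 0 ≤ 1 + α * a i := by
    intro i hi
    have h2 : (α * a i) ^ 2 = 1 := by rw [mul_pow, hα, ha i hi]; norm_num
    have h3 : |α * a i| ≤ 1 := by
      rw [← sq_le_one_iff_abs_le_one, h2]
    have := (abs_le.1 h3).1
    linarith
  have h2 : ∑ i ∈ T, (1 + α * a i) = 0 := by
    rw [Finset.sum_add_distrib, Finset.sum_const, hT, ← Finset.mul_sum]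
    have h3 : ∑ i ∈ T, a i = -(3 * α) := by linarith
    rw [h3, nsmul_eq_mul, mul_one]
    push_cast
    linear_combination -3 * hα
  intro i hi
  have h3 := (Finset.sum_eq_zero_iff_of_nonneg h1).1 h2 i hi
  have h4 : α * (1 + α * a i) = 0 := by rw [h3, mul_zero]
  linear_combination h4 - a i * hα

theorem sign_cases {α : ℤ} (h : α ^ 2 = 1) : α = 1 ∨ α = -1 := by
  have h1 : (α - 1) * (α + 1) = 0 := by linear_combination h
  rcases mul_eq_zero.1 h1 with h2 | h2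
  · left; linarith
  · right; linarith

/-- The two sums of the block with one Brauer character. -/
theorem num_G {ι : Type*} [Fintype ι] (s : Finset ι) (d c a : ι → ℤ) (hs : s.card = 4)
    (ha : ∀ i ∈ s, a i ^ 2 = 1) (ha0 : ∀ i ∉ s, a i = 0)
    {i₁ : ι} (hi₁ : i₁ ∈ s) (hc1 : c i₁ ^ 2 = 9) (hc : ∀ i ∈ s, i ≠ i₁ → c i ^ 2 = 1)
    (hc0 : ∀ i ∉ s, c i ^ 2 = 4)
    {i₀ : ι} (hi₀ : i₀ ∈ s) (hd1 : d i₀ = 3) (hd : ∀ i ∈ s, i ≠ i₀ → d i = 1)
    (hd0 : ∀ i ∉ s, d i = 2)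
    (hdc : ∑ i, d i * c i = 0) (hda : ∑ i, d i * a i = 0) (hca : ∑ i, c i * a i = 0) :
    ∑ i, (c i : ℚ) ^ 3 / d i = 0 ∨
      ∑ i, (c i : ℚ) ^ 3 / d i = 2 * ∑ i, (c i : ℚ) ^ 2 * a i / d i ∨
      ∑ i, (c i : ℚ) ^ 3 / d i = -2 * ∑ i, (c i : ℚ) ^ 2 * a i / d i := by
  classical
  have hT0 : (s.erase i₀).card = 3 := by rw [Finset.card_erase_of_mem hi₀, hs]
  have hT1 : (s.erase i₁).card = 3 := by rw [Finset.card_erase_of_mem hi₁, hs]
  set α := a i₀ with hα
  have hα2 : α ^ 2 = 1 := ha i₀ hi₀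
  -- signs of `a`
  have hda' : ∑ i ∈ s, d i * a i = 0 := by
    rw [← hda]
    refine Finset.sum_subset (Finset.subset_univ s) fun i _ hi => ?_
    rw [ha0 i hi, mul_zero]
  have hca' : ∑ i ∈ s, c i * a i = 0 := by
    rw [← hca]
    refine Finset.sum_subset (Finset.subset_univ s) fun i _ hi => ?_
    rw [ha0 i hi, mul_zero]
  have haT : ∀ i ∈ s.erase i₀, a i = -α := by
    refine eq_neg_of_sum _ hT0 a hα2 (fun i hi => ha i (Finset.mem_of_mem_erase hi)) ?_
    rw [← Finset.add_sum_erase s _ hi₀, hd1] at hda'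
    rw [← hda']
    congr 1
    refine Finset.sum_congr rfl fun i hi => ?_
    rw [hd i (Finset.mem_of_mem_erase hi) (Finset.ne_of_mem_erase hi), one_mul]
  -- signs of `c a`
  obtain ⟨σ, hσ2, hσ⟩ : ∃ σ : ℤ, σ ^ 2 = 1 ∧ c i₁ * a i₁ = 3 * σ := by
    have h1 : (c i₁ * a i₁) ^ 2 = 9 := by rw [mul_pow, hc1, ha i₁ hi₁]; norm_num
    have h2 : (c i₁ * a i₁ - 3) * (c i₁ * a i₁ + 3) = 0 := by linear_combination h1
    rcases mul_eq_zero.1 h2 with h3 | h3
    · exact ⟨1, by norm_num, by linarith⟩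
    · exact ⟨-1, by norm_num, by linarith⟩
  have hcT : ∀ i ∈ s.erase i₁, c i * a i = -σ := by
    refine eq_neg_of_sum _ hT1 (fun i => c i * a i) hσ2 (fun i hi => ?_) ?_
    · rw [mul_pow, hc i (Finset.mem_of_mem_erase hi) (Finset.ne_of_mem_erase hi),
        ha i (Finset.mem_of_mem_erase hi)]
      norm_num
    · rw [← Finset.add_sum_erase s _ hi₁, hσ] at hca'
      exact hca'
  have hcv : ∀ i ∈ s, c i = (c i * a i) * a i := by
    intro i hi
    have := ha i hi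
    linear_combination -c i * this
  -- sums over the complement
  have hcomp : ∑ i ∈ sᶜ, (c i : ℚ) ^ 3 / d i = ∑ i ∈ sᶜ, (d i : ℚ) * c i := by
    refine Finset.sum_congr rfl fun i hi => ?_
    have hi' := Finset.mem_compl.1 hi
    have h1 : (c i : ℚ) ^ 2 = 4 := by exact_mod_cast hc0 i hi'
    have h2 : (d i : ℚ) = 2 := by exact_mod_cast hd0 i hi'
    rw [h2, pow_succ, h1]
    ring
  have hP : ∑ i, (c i : ℚ) ^ 3 / d i = ∑ i ∈ s, ((c i : ℚ) ^ 3 / d i - d i * c i) := by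
    rw [← Finset.sum_add_sum_compl s, hcomp, Finset.sum_sub_distrib]
    have h1 : ∑ i ∈ s, (d i : ℚ) * c i + ∑ i ∈ sᶜ, (d i : ℚ) * c i = 0 := by
      rw [Finset.sum_add_sum_compl]
      exact_mod_cast hdc
    linear_combination h1
  have hPx : ∑ i, (c i : ℚ) ^ 2 * a i / d i = ∑ i ∈ s, (c i : ℚ) ^ 2 * a i / d i := by
    refine (Finset.sum_subset (Finset.subset_univ s) fun i _ hi => ?_).symm
    rw [ha0 i hi]; simp
  rw [hP, hPx]
  by_cases h01 : i₀ = i₁
  · left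
    subst h01
    rw [← Finset.add_sum_erase s _ hi₀]
    have h1 : c i₀ = 3 * σ * α := by rw [hcv i₀ hi₀, hσ]
    have h2 : ∀ i ∈ s.erase i₀, ((c i : ℚ) ^ 3 / d i - d i * c i) = 0 := by
      intro i hi
      have h3 : c i = σ * α := by
        rw [hcv i (Finset.mem_of_mem_erase hi), hcT i hi, haT i hi]; ring
      rw [h3, hd i (Finset.mem_of_mem_erase hi) (Finset.ne_of_mem_erase hi)]
      rcases sign_cases hσ2 with h4 | h4 <;> rcases sign_cases hα2 with h5 | h5 <;>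
        rw [h4, h5] <;> norm_num
    rw [Finset.sum_eq_zero h2, h1, hd1]
    rcases sign_cases hσ2 with h4 | h4 <;> rcases sign_cases hα2 with h5 | h5 <;>
      rw [h4, h5] <;> norm_num
  · right
    have hi₁' : i₁ ∈ s.erase i₀ := Finset.mem_erase.2 ⟨Ne.symm h01, hi₁⟩
    have hT2 : ((s.erase i₀).erase i₁).card = 2 := by
      rw [Finset.card_erase_of_mem hi₁', hT0]
    rw [← Finset.add_sum_erase s _ hi₀, ← Finset.add_sum_erase (s.erase i₀) _ hi₁',
      ← Finset.add_sum_erase s (fun i => (c i : ℚ) ^ 2 * a i / d i) hi₀,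
      ← Finset.add_sum_erase (s.erase i₀) (fun i => (c i : ℚ) ^ 2 * a i / d i) hi₁']
    have e1 : a i₁ = -α := haT i₁ hi₁'
    have e2 : c i₁ = -(3 * σ * α) := by rw [hcv i₁ hi₁, hσ, e1]; ring
    have e3 : c i₀ = -(σ * α) := by
      rw [hcv i₀ hi₀, hcT i₀ (Finset.mem_erase.2 ⟨h01, hi₀⟩)]; ring
    have e4 : d i₁ = 1 := hd i₁ hi₁ (Ne.symm h01)
    have e5 : ∀ i ∈ (s.erase i₀).erase i₁, c i = σ * α ∧ a i = -α ∧ d i = 1 := by
      intro i hi
      have hi0 := Finset.mem_of_mem_erase hi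
      have hi1 : i ∈ s.erase i₁ :=
        Finset.mem_erase.2 ⟨Finset.ne_of_mem_erase hi, Finset.mem_of_mem_erase hi0⟩
      refine ⟨?_, haT i hi0, hd i (Finset.mem_of_mem_erase hi0) (Finset.ne_of_mem_erase hi0)⟩
      rw [hcv i (Finset.mem_of_mem_erase hi0), hcT i hi1, haT i hi0]; ring
    have e6 : ∑ i ∈ (s.erase i₀).erase i₁, ((c i : ℚ) ^ 3 / d i - d i * c i) =
        2 * (((σ * α : ℤ) : ℚ) ^ 3 - ((σ * α : ℤ) : ℚ)) := by
      rw [Finset.sum_congr rfl fun i hi => by rw [(e5 i hi).1, (e5 i hi).2.2], Finset.sum_const,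
        hT2]
      norm_num
    have e7 : ∑ i ∈ (s.erase i₀).erase i₁, ((c i : ℚ) ^ 2 * a i / d i) =
        2 * (((σ * α : ℤ) : ℚ) ^ 2 * ((-α : ℤ) : ℚ)) := by
      rw [Finset.sum_congr rfl fun i hi => by
        rw [(e5 i hi).1, (e5 i hi).2.1, (e5 i hi).2.2], Finset.sum_const, hT2]
      norm_num
    rw [e6, e7, e2, e3, e4, hd1, e1, ← hα]
    rcases sign_cases hσ2 with h4 | h4 <;> rcases sign_cases hα2 with h5 | h5 <;>
      rw [h4, h5] <;> norm_num

/-- The two sums of the block of the centralizer of `z`. -/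
theorem num_H {ι : Type*} [Fintype ι] (s : Finset ι) (e a τ ε : ι → ℤ) (hs : s.card = 4)
    (he : ∀ i ∈ s, e i = 1) (he0 : ∀ i ∉ s, e i = 2) (hε : ∀ i, ε i ^ 2 = 1)
    (hcard : Odd (Fintype.card ι)) (hεe : ∑ i, ε i * e i ^ 2 = 0)
    (ha : ∀ i ∈ s, a i ^ 2 = 1) (ha0 : ∀ i ∉ s, a i = 0) (hea : ∑ i, e i * a i = 0)
    (hτ0 : ∀ i ∉ s, τ i = 0) (hτe : ∑ i, τ i * e i = 0) (hτa : ∑ i, τ i * a i = 0) (φ : ℂ) :
    ∃ t r ε₀ : ℤ, ε₀ ^ 2 = 1 ∧
      ∑ i, ((ε i : ℂ) * e i * φ + τ i) ^ 2 * ε i = ε₀ * (2 * (t ^ 2 + r ^ 2)) ∧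
      ∑ i, ((ε i : ℂ) * e i * φ + τ i) ^ 2 * a i / e i = 2 * (t ^ 2 - r ^ 2) ∧
      (t = 0 → r = 0 → ∀ i, τ i = 0) := by
  classical
  -- parity of the sum of signs over the complement
  have hcompl : Odd sᶜ.card := by
    have h1 := Finset.card_add_card_compl s
    rw [hs] at h1
    rw [← h1] at hcard
    rw [Nat.odd_iff] at hcard ⊢
    omega
  have hpar : ∀ T : Finset ι, (2 : ℤ) ∣ (T.card : ℤ) - ∑ i ∈ T, ε i := by
    intro T
    have h1 : (T.card : ℤ) - ∑ i ∈ T, ε i = ∑ i ∈ T, (1 - ε i) := by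
      rw [Finset.sum_sub_distrib, Finset.sum_const, nsmul_eq_mul, mul_one]
    rw [h1]
    refine Finset.dvd_sum fun i _ => ?_
    rcases sign_cases (hε i) with h | h <;> rw [h] <;> norm_num
  have hS : ∑ i ∈ s, ε i + 4 * ∑ i ∈ sᶜ, ε i = 0 := by
    rw [← hεe, ← Finset.sum_add_sum_compl s (fun i => ε i * e i ^ 2), Finset.mul_sum]
    congr 1
    · exact Finset.sum_congr rfl fun i hi => by rw [he i hi]; ring
    · exact Finset.sum_congr rfl fun i hi => by rw [he0 i (Finset.mem_compl.1 hi)]; ring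
  have habs : ∀ i, |ε i| ≤ 1 := fun i => by
    rcases sign_cases (hε i) with h | h <;> rw [h] <;> norm_num
  have hSle : |∑ i ∈ s, ε i| ≤ 4 := by
    refine (Finset.abs_sum_le_sum_abs _ _).trans ?_
    refine (Finset.sum_le_sum fun i _ => habs i).trans ?_
    rw [Finset.sum_const, hs]; norm_num
  set T := ∑ i ∈ sᶜ, ε i with hT
  have hTodd : Odd T := by
    obtain ⟨k, hk⟩ := hpar sᶜ
    obtain ⟨m, hm⟩ := hcompl
    rw [← hT] at hk
    refine ⟨m - k, ?_⟩
    rw [hm] at hk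
    push_cast at hk
    linarith
  have hT1 : T ^ 2 = 1 := by
    have h1 : |T| ≤ 1 := by
      have h2 : |4 * T| ≤ 4 := by
        have h3 : 4 * T = -∑ i ∈ s, ε i := by linarith
        rw [h3, abs_neg]; exact hSle
      rw [abs_mul] at h2
      norm_num at h2
      linarith
    have h2 : T ≠ 0 := by
      rintro h
      rw [h] at hTodd
      exact absurd hTodd (by decide)
    have h3 : |T| ≠ 0 := abs_ne_zero.2 h2
    have h4 : |T| = 1 := by have := abs_nonneg T; omega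
    rw [← sq_abs, h4]; norm_num
  have hεs : ∀ i ∈ s, ε i = -T := by
    have h1 : ∀ i ∈ s, 0 ≤ 1 + T * ε i := by
      intro i _
      rcases sign_cases (hε i) with h | h <;> rcases sign_cases hT1 with h' | h' <;>
        rw [h, h'] <;> norm_num
    have h2 : ∑ i ∈ s, (1 + T * ε i) = 0 := by
      rw [Finset.sum_add_distrib, Finset.sum_const, hs, ← Finset.mul_sum]
      have h3 : ∑ i ∈ s, ε i = -(4 * T) := by linarith
      rw [h3, nsmul_eq_mul, mul_one]
      push_cast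
      linear_combination -4 * hT1
    intro i hi
    have h3 := (Finset.sum_eq_zero_iff_of_nonneg h1).1 h2 i hi
    linear_combination T * h3 - ε i * hT1
  -- the partition by the signs of `a`
  have hsa : ∑ i ∈ s, a i = 0 := by
    rw [← hea]
    refine Finset.sum_subset_zero_on_sdiff (Finset.subset_univ s) (fun i hi => ?_) fun i hi => ?_
    · rw [ha0 i (Finset.mem_sdiff.1 hi).2, mul_zero]
    · rw [he i hi, one_mul]
  have hsτ : ∑ i ∈ s, τ i = 0 := by
    rw [← hτe]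
    refine Finset.sum_subset_zero_on_sdiff (Finset.subset_univ s) (fun i hi => ?_) fun i hi => ?_
    · rw [hτ0 i (Finset.mem_sdiff.1 hi).2, zero_mul]
    · rw [he i hi, mul_one]
  have hsτa : ∑ i ∈ s, τ i * a i = 0 := by
    rw [← hτa]
    refine Finset.sum_subset_zero_on_sdiff (Finset.subset_univ s) (fun i hi => ?_) fun i hi => rfl
    rw [ha0 i (Finset.mem_sdiff.1 hi).2, mul_zero]
  set sp := s.filter (fun i => a i = 1) with hsp
  set sm := s.filter (fun i => ¬ a i = 1) with hsm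
  have hm1 : ∀ i ∈ sm, a i = -1 := by
    intro i hi
    obtain ⟨h1, h2⟩ := Finset.mem_filter.1 hi
    rcases sign_cases (ha i h1) with h | h
    · exact absurd h h2
    · exact h
  have hp1 : ∀ i ∈ sp, a i = 1 := fun i hi => (Finset.mem_filter.1 hi).2
  have hsplit : ∀ f : ι → ℤ, ∑ i ∈ s, f i = ∑ i ∈ sp, f i + ∑ i ∈ sm, f i := fun f =>
    (Finset.sum_filter_add_sum_filter_not s _ f).symm
  have hcards : sp.card + sm.card = 4 := by
    rw [← hs]; exact Finset.card_filter_add_card_filter_not _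
  have hc2 : sp.card = 2 ∧ sm.card = 2 := by
    rw [hsplit, Finset.sum_congr rfl hp1, Finset.sum_congr rfl hm1, Finset.sum_const,
      Finset.sum_const] at hsa
    simp at hsa
    omega
  have hτp : ∑ i ∈ sp, τ i = 0 ∧ ∑ i ∈ sm, τ i = 0 := by
    rw [hsplit] at hsτ hsτa
    rw [Finset.sum_congr rfl fun i hi => by rw [hp1 i hi, mul_one],
      Finset.sum_congr (s₁ := sm) rfl fun i hi => by rw [hm1 i hi, mul_neg_one],
      Finset.sum_neg_distrib] at hsτa
    constructor <;> linarith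
  obtain ⟨p, q, hpq, hpS⟩ := Finset.card_eq_two.1 hc2.1
  obtain ⟨u, v, huv, huS⟩ := Finset.card_eq_two.1 hc2.2
  have hq : τ q = - τ p := by
    have := hτp.1
    rw [hpS, Finset.sum_pair hpq] at this
    linarith
  have hv : τ v = - τ u := by
    have := hτp.2
    rw [huS, Finset.sum_pair huv] at this
    linarith
  have hsq : ∑ i ∈ s, τ i ^ 2 = 2 * (τ p ^ 2 + τ u ^ 2) := by
    rw [hsplit, hpS, huS, Finset.sum_pair hpq, Finset.sum_pair huv, hq, hv]; ring
  have hsqa : ∑ i ∈ s, τ i ^ 2 * a i = 2 * (τ p ^ 2 - τ u ^ 2) := by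
    rw [hsplit, Finset.sum_congr rfl fun i hi => by rw [hp1 i hi, mul_one],
      Finset.sum_congr (s₁ := sm) rfl fun i hi => by rw [hm1 i hi, mul_neg_one],
      Finset.sum_neg_distrib, hpS, huS, Finset.sum_pair hpq, Finset.sum_pair huv, hq, hv]
    ring
  refine ⟨τ p, τ u, -T, by rw [neg_sq, hT1], ?_, ?_, ?_⟩
  · have h1 : ∀ i, ((ε i : ℂ) * e i * φ + τ i) ^ 2 * ε i =
        φ ^ 2 * ((ε i * e i ^ 2 : ℤ) : ℂ) + 2 * φ * ((τ i * e i : ℤ) : ℂ) +
          ((τ i ^ 2 * ε i : ℤ) : ℂ) := by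
      intro i
      rcases sign_cases (hε i) with h | h <;> rw [h] <;> push_cast <;> ring
    rw [Finset.sum_congr rfl fun i _ => h1 i, Finset.sum_add_distrib, Finset.sum_add_distrib,
      ← Finset.mul_sum, ← Finset.mul_sum, ← Int.cast_sum, ← Int.cast_sum, hεe, hτe, Int.cast_zero,
      mul_zero, mul_zero, zero_add, zero_add, ← Int.cast_sum]
    have h2 : ∑ i, τ i ^ 2 * ε i = -T * (2 * (τ p ^ 2 + τ u ^ 2)) := by
      rw [← hsq, Finset.mul_sum]
      refine (Finset.sum_subset_zero_on_sdiff (Finset.subset_univ s) (fun i hi => ?_)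
        fun i hi => ?_).symm
      · rw [hτ0 i (Finset.mem_sdiff.1 hi).2]; ring
      · rw [hεs i hi]; ring
    rw [h2]
    push_cast
    ring
  · have h1 : ∑ i, ((ε i : ℂ) * e i * φ + τ i) ^ 2 * a i / e i =
        ∑ i ∈ s, (φ ^ 2 * ((a i : ℤ) : ℂ) + 2 * φ * (-(T : ℂ)) * ((τ i * a i : ℤ) : ℂ) +
          ((τ i ^ 2 * a i : ℤ) : ℂ)) := by
      refine (Finset.sum_subset_zero_on_sdiff (Finset.subset_univ s) (fun i hi => ?_)
        fun i hi => ?_).symm
      · rw [ha0 i (Finset.mem_sdiff.1 hi).2]; simp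
      · rw [he i hi, hεs i hi]
        rcases sign_cases hT1 with h | h <;> rw [h] <;> push_cast <;> ring
    rw [h1, Finset.sum_add_distrib, Finset.sum_add_distrib, ← Finset.mul_sum, ← Finset.mul_sum,
      ← Int.cast_sum, ← Int.cast_sum, ← Int.cast_sum, hsa, hsτa, hsqa]
    push_cast
    ring
  · intro hp hu i
    by_cases hi : i ∈ s
    · by_cases hi1 : a i = 1
      · have h1 : i ∈ sp := Finset.mem_filter.2 ⟨hi, hi1⟩
        rw [hpS, Finset.mem_insert, Finset.mem_singleton] at h1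
        rcases h1 with rfl | rfl
        · exact hp
        · rw [hq, hp, neg_zero]
      · have h1 : i ∈ sm := Finset.mem_filter.2 ⟨hi, hi1⟩
        rw [huS, Finset.mem_insert, Finset.mem_singleton] at h1
        rcases h1 with rfl | rfl
        · exact hu
        · rw [hv, hu, neg_zero]
    · exact hτ0 i hi

/-- Conclusion: the two integers vanish. -/
theorem num_final {P Px : ℚ} (hP : P = 0 ∨ P = 2 * Px ∨ P = -2 * Px) {t r ε₀ : ℤ}
    (hε : ε₀ ^ 2 = 1) {A C : ℂ} (hC : C ≠ 0)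
    (h1 : A * P = C * (ε₀ * (2 * (t ^ 2 + r ^ 2)))) (h2 : A * Px = C * (2 * (t ^ 2 - r ^ 2))) :
    t = 0 ∧ r = 0 := by
  have hcast : ∀ m : ℤ, C * (m : ℂ) = 0 → m = 0 := by
    intro m hm
    have := (mul_eq_zero.1 hm).resolve_left hC
    exact_mod_cast this
  rcases hP with hP | hP | hP
  · rw [hP, Rat.cast_zero, mul_zero] at h1
    have h3 : ε₀ * (2 * (t ^ 2 + r ^ 2)) = 0 := hcast _ (by rw [h1]; push_cast; ring)
    have h4 : t ^ 2 + r ^ 2 = 0 := by
      rcases sign_cases hε with h | h <;> rw [h] at h3 <;> linarith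
    constructor
    · have : t ^ 2 = 0 := by nlinarith [sq_nonneg t, sq_nonneg r]
      exact pow_eq_zero_iff two_ne_zero |>.1 this
    · have : r ^ 2 = 0 := by nlinarith [sq_nonneg t, sq_nonneg r]
      exact pow_eq_zero_iff two_ne_zero |>.1 this
  · have h3 : ε₀ * (t ^ 2 + r ^ 2) - 2 * (t ^ 2 - r ^ 2) = 0 := by
      apply hcast
      rw [hP] at h1
      push_cast at h1 ⊢
      linear_combination (-1 / 2 : ℂ) * h1 + h2
    rcases sign_cases hε with h | h
    · rw [h] at h3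
      obtain ⟨h4, h5⟩ := eq_zero_of_sq (x := t) (y := r) (by linarith)
      exact ⟨h4, h5⟩
    · rw [h] at h3
      obtain ⟨h4, h5⟩ := eq_zero_of_sq (x := r) (y := t) (by linarith)
      exact ⟨h5, h4⟩
  · have h3 : ε₀ * (t ^ 2 + r ^ 2) + 2 * (t ^ 2 - r ^ 2) = 0 := by
      apply hcast
      rw [hP] at h1
      push_cast at h1 ⊢
      linear_combination (-1 / 2 : ℂ) * h1 - h2
    rcases sign_cases hε with h | h
    · rw [h] at h3
      obtain ⟨h4, h5⟩ := eq_zero_of_sq (x := r) (y := t) (by linarith)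
      exact ⟨h5, h4⟩
    · rw [h] at h3
      obtain ⟨h4, h5⟩ := eq_zero_of_sq (x := t) (y := r) (by linarith)
      exact ⟨h4, h5⟩

end Cfsg.Agent.H613.NumExc
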