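import Mathlib
import Cfsg.Agent.H613.ExcB
import Cfsg.Agent.H613.NumExc

/-!
# The exclusion argument: the block of the centralizer of the central involution
-/

set_option autoImplicit false
set_option linter.unusedSectionVars false

open Cfsg
open scoped ComplexConjugate

namespace Cfsg.Agent.H613.ExcC

open Cfsg.Agent.Blocks.Blau Cfsg.Agent.Blocks.Local Cfsg.Agent.Characters
open Cfsg.Agent.H613.SubSys Cfsg.Agent.H613.SubFus Cfsg.Agent.H644 Cfsg.Agent.H651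
open Cfsg.Agent.H649 Cfsg.Agent.H613.LocMono Cfsg.Agent.H613.TwoCol Cfsg.Agent.H617.TwoAvg
open Cfsg.Agent.H613.RegGram Cfsg.Agent.H613.Contrib Cfsg.Agent.H613.DihGrp
open Cfsg.Agent.H613.DihCol Cfsg.Agent.H613.DihFus Cfsg.Agent.H613.SubDef Cfsg.Agent.H613.ExcA
open Cfsg.Agent.H613.ExcB Cfsg.Agent.H613.LocW

universe u

variable {G : Type u} [Group G] [Finite G] {M : Ideal AlgInt}
  {B : Set (IrrCharacter G)} {a : BrauerPairIdx G} {x y : G} {j : ℕ}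

/-- Block orthogonality of values. -/
theorem sum_apply_mul_conj {p : ℕ} [Fact p.Prime] (hM : IsPModular p M) [Fintype B]
    (hB : IsPBlock M B) {s t u v : G}
    (hs : IsPPart p s u) (ht : IsPPart p t v) (huv : ¬ IsConj u v) :
    ∑ ψ : B, (ψ : G → ℂ) s * conj ((ψ : G → ℂ) t) = 0 := by
  classical
  have := Fintype.ofFinite G
  have h3 := (S0925.result p M hM).2 _ _ _ _ hs ht huv B hB
  have hfin := Core.finite_irr (G := G)
  rw [finsum_mem_eq_toFinset_sum] at h3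
  rw [← Finset.sum_subtype B.toFinset (p := fun x => x ∈ B) (fun x => Set.mem_toFinset)
    (fun ψ : IrrCharacter G => (ψ : G → ℂ) s * conj ((ψ : G → ℂ) t))]
  rw [← h3]
  refine Finset.sum_congr rfl fun ψ _ => ?_
  rw [Cfsg.Agent.Blocks.Orthogonality.irr_apply_inv ψ.2]

theorem isPPart_one : IsPPart 2 (1 : G) 1 :=
  ⟨1, one_mul 1, Commute.one_left 1, ⟨0, by simp⟩, by rw [orderOf_one]; norm_num⟩

theorem isPPart_invol {t : G} (ht1 : t ≠ 1) (ht2 : t * t = 1) : IsPPart 2 t t :=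
  ⟨1, mul_one t, Commute.one_right t,
    ⟨1, by rw [orderOf_eq_prime (by rw [pow_two, ht2]) ht1, pow_one]⟩,
    by rw [orderOf_one]; norm_num⟩

theorem not_isConj_pow (hD : IsDih a.1 x j) {t : G} (ht2 : t * t = 1) {k : ℕ} (hk : Odd k) :
    ¬ IsConj (x ^ k) t := by
  intro h
  obtain ⟨g, hg⟩ := isConj_iff.1 h
  have h1 : orderOf (x ^ k) = orderOf t := by
    rw [← hg, Cfsg.Agent.Blocks.Blau.orderOf_conj_eq]
  rw [← Nat.card_zpowers, zpowers_pow_odd hD.pow_eq_one hk, Nat.card_zpowers, hD.ord] at h1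
  have h2 : orderOf t ∣ 2 := orderOf_dvd_of_pow_eq_one (by rw [pow_two, ht2])
  rw [← h1] at h2
  have h3 := Nat.le_of_dvd (by norm_num) h2
  have h4 : 2 ^ 2 ≤ 2 ^ (j + 1) := Nat.pow_le_pow_right (by norm_num) (by have := hD.pos; omega)
  omega

theorem sum_sq_of_finsum [Fintype B] {d : IrrCharacter G → ℕ} {m : ℕ}
    (h : ∑ᶠ η ∈ B, d η ^ 2 = m) : ∑ χ : B, (d χ : ℤ) ^ 2 = m := by
  rw [← h, ← finsum_set_coe_eq_finsum_mem, finsum_eq_sum_of_fintype]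
  push_cast
  rfl

theorem nat_of_sq {d : ℕ} {m : ℕ} (h : (d : ℤ) ^ 2 = (m : ℤ) ^ 2) : d = m := by
  have h1 : d ^ 2 = m ^ 2 := by exact_mod_cast h
  exact (Nat.pow_left_inj two_ne_zero).1 h1

/-- The two sums for the block of `C_G(z)`. -/
theorem Hside [Fintype B] (hM : IsPModular 2 M) (hmax : IsMaximalBrauerPair 2 M B a.1 a.2)
    (hD : IsDih a.1 x j) (hy : y ∈ a.1) (hyx : y ∉ Subgroup.zpowers x)
    (hl : blockRank 2 B = 1) (hzc : x ^ 2 ^ j ∈ Subgroup.center G) (S : Finset G)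
    (hS : ∀ t ∈ S, t ≠ 1 ∧ t * t = 1 ∧ t ≠ x ^ 2 ^ j)
    {dx : IrrCharacter (Subgroup.centralizer ((bel 2 M a x).1 : Set G)) → ℕ}
    {ax : IrrCharacter G → ℕ → ℤ} (hx : Col M B x (bel 2 M a x) j dx ax)
    {e : IrrCharacter G → ℕ} {f : ℂ} (hf : f ≠ 0)
    (hsum : ∑ᶠ η ∈ B, e η ^ 2 = 2 ^ blockDefect 2 B)
    (hdeg : ∀ η ∈ B, (η : G → ℂ) 1 = e η * f)
    (hrg : ∀ [Fintype G], ∀ (η : IrrCharacter G), η ∈ B → ∀ (η' : IrrCharacter G), η' ∈ B →
        rg 2 (η : G → ℂ) (η' : G → ℂ) = (e η : ℂ) * (e η' : ℂ) / (2 : ℂ) ^ blockDefect 2 B)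
    (ε τ : IrrCharacter G → ℤ)
    (hε : ∀ χ : IrrCharacter G, ε χ ^ 2 = 1 ∧ ∀ g, (χ : G → ℂ) (x ^ 2 ^ j * g) = ε χ * (χ : G → ℂ) g)
    (hτ : ∀ χ : IrrCharacter G, (τ χ : ℂ) = ∑ t ∈ S, (χ : G → ℂ) t) :
    ∃ t r ε₀ : ℤ, ε₀ ^ 2 = 1 ∧
      ∑ ξ : B, ((ε ξ : ℂ) * e ξ * f + τ ξ) ^ 2 * ε ξ = ε₀ * (2 * (t ^ 2 + r ^ 2)) ∧
      ∑ ξ : B, ((ε ξ : ℂ) * e ξ * f + τ ξ) ^ 2 * ax ξ 0 / e ξ = 2 * (t ^ 2 - r ^ 2) ∧
      (t = 0 → r = 0 → ∀ ξ : B, τ ξ = 0) := by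
  classical
  have : Fact (Nat.Prime 2) := ⟨Nat.prime_two⟩
  have := Fintype.ofFinite G
  have hB := hmax.1.2.1
  have hzcomm : ∀ g : G, g * x ^ 2 ^ j = x ^ 2 ^ j * g := fun g => Subgroup.mem_center_iff.1 hzc g
  -- `z` is only conjugate to itself
  have hzconj : ∀ t : G, IsConj t (x ^ 2 ^ j) → t = x ^ 2 ^ j := by
    intro t h
    obtain ⟨g, hg⟩ := isConj_iff.1 h.symm
    rw [hzcomm, mul_inv_cancel_right] at hg
    exact hg.symm
  have hρ : rho M a x y j ≠ 1 := by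
    intro h1
    obtain ⟨g, hg, -⟩ := fus_of_rho_eq_one hM hmax hD hy hyx h1 hy
      (by rintro rfl; exact hyx (Subgroup.one_mem _)) (hD.sq y hy hyx)
    have h2 := hzconj y (isConj_iff.2 ⟨g, hg⟩).symm
    apply hyx
    rw [h2]
    exact hD.z_mem'
  have hfz : conj f ≠ 0 := by
    intro h
    apply hf
    rw [← Complex.conj_conj f, h, map_zero]
  -- the decomposition numbers
  have hval : ∀ χ ∈ B, ∃ m : ℤ, Odd m ∧ (e χ : ℤ) = 2 ^ blockHeight 2 B (χ : G → ℂ) * m :=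
    fun χ hχ => val_rank_one hM hB hrg hχ
  have hsum' : ∑ χ : B, (e χ : ℤ) ^ 2 = 2 ^ (j + 2) := by
    have h1 := sum_sq_of_finsum hsum
    rw [blockDefect_eq hM hmax hD] at h1
    exact_mod_cast h1
  obtain ⟨hlr, he1, he4⟩ : blockRank 2 B + rho M a x y j = 4 ∧
      (∀ χ ∈ htZero B, ((e χ : ℤ)) ^ 2 = 1) ∧ ∀ χ ∉ htZero B, ((e χ : ℤ)) ^ 2 = 4 := by
    rcases dichotomy hM hmax hD hy hyx (c := fun χ => (e χ : ℤ)) hval hsum' with h | h
    · exact h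
    · exact absurd h.2.1 hρ
  obtain ⟨hx4, hx1, hx0⟩ := main_x hM hmax hD hx
  have hcard : Odd (Fintype.card B) := by
    rw [← Nat.card_eq_fintype_card, card_eq hM hmax hD hy hyx, hl]
    have h1 : rho M a x y j = 3 := by omega
    rw [h1]
    have h2 : Even (2 ^ j) := Nat.even_pow.2 ⟨even_two, by have := hD.pos; omega⟩
    obtain ⟨m, hm⟩ := h2
    have h3 : 1 ≤ 2 ^ j := Nat.one_le_two_pow
    exact ⟨m + 1, by omega⟩
  -- orthogonality relations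
  have hεe : ∑ χ : B, ε χ * (e χ : ℤ) ^ 2 = 0 := by
    have h1 := sum_apply_mul_conj hM hB (isPPart_invol hD.z_ne hD.z_sq) isPPart_one (by
      intro h
      exact hD.z_ne (isConj_one_right.1 h.symm))
    have h2 : ∀ ψ : B, (ψ : G → ℂ) (x ^ 2 ^ j) * conj ((ψ : G → ℂ) 1) =
        (f * conj f) * ((ε ψ * (e ψ : ℤ) ^ 2 : ℤ) : ℂ) := by
      intro ψ
      have h3 := (hε ψ).2 1
      rw [mul_one] at h3
      rw [h3, hdeg ψ ψ.2, map_mul, Complex.conj_natCast]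
      push_cast
      ring
    rw [Finset.sum_congr rfl fun ψ _ => h2 ψ, ← Finset.mul_sum, ← Int.cast_sum] at h1
    exact_mod_cast (mul_eq_zero.1 h1).resolve_left (mul_ne_zero hf hfz)
  have hea : ∑ χ : B, (e χ : ℤ) * ax χ 0 = 0 := by
    have h1 := sum_zero_mul_conj hM hx isPPart_one (fun k hk => not_isConj_pow hD (by simp) hk)
    have h2 : ∀ ψ : B, (ax ψ 0 : ℂ) * conj ((ψ : G → ℂ) 1) =
        conj f * (((e ψ : ℤ) * ax ψ 0 : ℤ) : ℂ) := by
      intro ψ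
      rw [hdeg ψ ψ.2, map_mul, Complex.conj_natCast]
      push_cast
      ring
    rw [Finset.sum_congr rfl fun ψ _ => h2 ψ, ← Finset.mul_sum, ← Int.cast_sum] at h1
    exact_mod_cast (mul_eq_zero.1 h1).resolve_left hfz
  have hτ0 : ∀ χ : B, χ ∉ htZero B → τ χ = 0 := by
    intro χ hχ
    have h1 := hτ χ
    rw [Finset.sum_eq_zero fun t ht => apply_invol_eq_zero hM hmax hD (hS t ht).1 (hS t ht).2.1
      (fun h => (hS t ht).2.2 (hzconj t h)) χ.2 (fun h => hχ (mem_htZero.2 h))] at h1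
    exact_mod_cast h1
  have hτc : ∀ χ : IrrCharacter G, ∑ t ∈ S, conj ((χ : G → ℂ) t) = (τ χ : ℂ) := by
    intro χ
    rw [← map_sum, ← hτ, map_intCast]
  have hτe : ∑ χ : B, τ χ * (e χ : ℤ) = 0 := by
    have h1 : ∑ χ : B, (∑ t ∈ S, (χ : G → ℂ) t) * conj ((χ : G → ℂ) 1) = 0 := by
      simp only [Finset.sum_mul]
      rw [Finset.sum_comm]
      refine Finset.sum_eq_zero fun t ht => ?_
      exact sum_apply_mul_conj hM hB (isPPart_invol (hS t ht).1 (hS t ht).2.1) isPPart_one (by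
        intro h
        exact (hS t ht).1 (isConj_one_right.1 h.symm))
    have h2 : ∀ ψ : B, (∑ t ∈ S, (ψ : G → ℂ) t) * conj ((ψ : G → ℂ) 1) =
        conj f * ((τ ψ * (e ψ : ℤ) : ℤ) : ℂ) := by
      intro ψ
      rw [hdeg ψ ψ.2, map_mul, Complex.conj_natCast, ← hτ]
      push_cast
      ring
    rw [Finset.sum_congr rfl fun ψ _ => h2 ψ, ← Finset.mul_sum, ← Int.cast_sum] at h1
    exact_mod_cast (mul_eq_zero.1 h1).resolve_left hfz
  have hτa : ∑ χ : B, τ χ * ax χ 0 = 0 := by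
    have h1 : ∑ χ : B, (ax χ 0 : ℂ) * ∑ t ∈ S, conj ((χ : G → ℂ) t) = 0 := by
      simp only [Finset.mul_sum]
      rw [Finset.sum_comm]
      refine Finset.sum_eq_zero fun t ht => ?_
      exact sum_zero_mul_conj hM hx (isPPart_invol (hS t ht).1 (hS t ht).2.1)
        (fun k hk => not_isConj_pow hD (hS t ht).2.1 hk)
    have h2 : ∀ ψ : B, (ax ψ 0 : ℂ) * ∑ t ∈ S, conj ((ψ : G → ℂ) t) =
        ((τ ψ * ax ψ 0 : ℤ) : ℂ) := by
      intro ψ
      rw [hτc]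
      push_cast
      ring
    rw [Finset.sum_congr rfl fun ψ _ => h2 ψ, ← Int.cast_sum] at h1
    exact_mod_cast h1
  have key := NumExc.num_H (htZero B) (fun χ : B => (e χ : ℤ)) (fun χ : B => ax χ 0)
    (fun χ : B => τ χ) (fun χ : B => ε χ) hx4
    (fun χ hχ => by
      have := nat_of_sq (d := e χ) (m := 1) (by rw [he1 χ hχ]; norm_num)
      change ((e χ : ℕ) : ℤ) = 1
      rw [this]; norm_num)
    (fun χ hχ => by
      have := nat_of_sq (d := e χ) (m := 2) (by rw [he4 χ hχ]; norm_num)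
      change ((e χ : ℕ) : ℤ) = 2
      rw [this]; norm_num)
    (fun χ => (hε χ).1) hcard hεe hx1 hx0 hea hτ0 hτe hτa f
  simpa only [Int.cast_natCast] using key

end Cfsg.Agent.H613.ExcC
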