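import Mathlib
import Cfsg.Agent.H613.NumExc

/-!
# Numerical lemma for the exclusion of the case of one Brauer character and fused involutions
-/

set_option autoImplicit false

namespace Cfsg.Agent.H613.NumExcB

open Cfsg.Agent.H613.NumExc

/-- The two sums of the block with one Brauer character. -/
theorem num_G {ι : Type*} [Fintype ι] (s : Finset ι) (d c a : ι → ℤ) (hs : s.card = 4)
    (ha : ∀ i ∈ s, a i ^ 2 = 1) (ha0 : ∀ i ∉ s, a i = 0)
    {i₁ : ι} (hi₁ : i₁ ∈ s) (hc1 : c i₁ ^ 2 = 9) (hc : ∀ i ∈ s, i ≠ i₁ → c i ^ 2 = 1)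
    (hc0 : ∀ i ∉ s, c i ^ 2 = 4)
    {i₀ : ι} (hi₀ : i₀ ∈ s) (hd1 : d i₀ = 3) (hd : ∀ i ∈ s, i ≠ i₀ → d i = 1)
    (hd0 : ∀ i ∉ s, d i = 2)
    (hdc : ∑ i, d i * c i = 0) (hda : ∑ i, d i * a i = 0) :
    ∑ i, (c i : ℚ) ^ 3 / d i = 0 ∨
      ∑ i, (c i : ℚ) ^ 2 * a i / d i = 32 / 3 ∨
      ∑ i, (c i : ℚ) ^ 2 * a i / d i = - (32 / 3) := by
  classical
  have hT0 : (s.erase i₀).card = 3 := by rw [Finset.card_erase_of_mem hi₀, hs]
  have hT1 : (s.erase i₁).card = 3 := by rw [Finset.card_erase_of_mem hi₁, hs]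
  set α := a i₀ with hα
  have hα2 : α ^ 2 = 1 := ha i₀ hi₀
  -- signs of `a`
  have hda' : ∑ i ∈ s, d i * a i = 0 := by
    rw [← hda]
    refine Finset.sum_subset (Finset.subset_univ s) fun i _ hi => ?_
    rw [ha0 i hi, mul_zero]
  have haT : ∀ i ∈ s.erase i₀, a i = -α := by
    refine eq_neg_of_sum _ hT0 a hα2 (fun i hi => ha i (Finset.mem_of_mem_erase hi)) ?_
    rw [← Finset.add_sum_erase s _ hi₀, hd1] at hda'
    rw [← hda']
    congr 1
    refine Finset.sum_congr rfl fun i hi => ?_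
    rw [hd i (Finset.mem_of_mem_erase hi) (Finset.ne_of_mem_erase hi), one_mul]
  by_cases h01 : i₀ = i₁
  · left
    subst h01
    rw [show (0 : ℚ) = ((∑ i, d i * c i : ℤ) : ℚ) by rw [hdc]; norm_num]
    push_cast
    refine Finset.sum_congr rfl fun i _ => ?_
    have h1 : c i ^ 2 = d i ^ 2 ∧ d i ≠ 0 := by
      by_cases hi : i ∈ s
      · by_cases hi0 : i = i₀
        · subst hi0
          rw [hc1, hd1]; norm_num
        · rw [hc i hi hi0, hd i hi hi0]; norm_num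
      · rw [hc0 i hi, hd0 i hi]; norm_num
    have h2 : (c i : ℚ) ^ 2 = (d i : ℚ) ^ 2 := by exact_mod_cast h1.1
    have h3 : (d i : ℚ) ≠ 0 := by exact_mod_cast h1.2
    rw [pow_succ, h2, div_eq_iff h3]
    ring
  · right
    have hPx : ∑ i, (c i : ℚ) ^ 2 * a i / d i = ∑ i ∈ s, (c i : ℚ) ^ 2 * a i / d i := by
      refine (Finset.sum_subset (Finset.subset_univ s) fun i _ hi => ?_).symm
      rw [ha0 i hi]; simp
    have hi₁' : i₁ ∈ s.erase i₀ := Finset.mem_erase.2 ⟨Ne.symm h01, hi₁⟩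
    have hT2 : ((s.erase i₀).erase i₁).card = 2 := by
      rw [Finset.card_erase_of_mem hi₁', hT0]
    rw [hPx, ← Finset.add_sum_erase s (fun i => (c i : ℚ) ^ 2 * a i / d i) hi₀,
      ← Finset.add_sum_erase (s.erase i₀) (fun i => (c i : ℚ) ^ 2 * a i / d i) hi₁']
    have e1 : a i₁ = -α := haT i₁ hi₁'
    have e4 : d i₁ = 1 := hd i₁ hi₁ (Ne.symm h01)
    have e5 : ∀ i ∈ (s.erase i₀).erase i₁, (c i : ℚ) ^ 2 * a i / d i = -α := by
      intro i hi
      have hi0 := Finset.mem_of_mem_erase hi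
      have h1 : (c i : ℚ) ^ 2 = 1 := by
        exact_mod_cast hc i (Finset.mem_of_mem_erase hi0) (Finset.ne_of_mem_erase hi)
      rw [haT i hi0, hd i (Finset.mem_of_mem_erase hi0) (Finset.ne_of_mem_erase hi0), h1]
      push_cast
      ring
    have e3 : (c i₀ : ℚ) ^ 2 = 1 := by exact_mod_cast hc i₀ hi₀ h01
    have e6 : (c i₁ : ℚ) ^ 2 = 9 := by exact_mod_cast hc1
    rw [Finset.sum_congr rfl e5, Finset.sum_const, hT2, e1, e4, e3, e6, hd1, ← hα]
    rcases sign_cases hα2 with h5 | h5 <;> rw [h5] <;> norm_num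

end Cfsg.Agent.H613.NumExcB
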