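import Mathlib
import Cfsg.Agent.H613.ExcC
import Cfsg.Agent.H613.NumExcB
import Cfsg.Agent.H624.InvDiv

/-!
# Pairs of involutions: the average over the generators of a cyclic 2-group
-/

set_option autoImplicit false
set_option linter.unusedSectionVars false

open Cfsg
open scoped ComplexConjugate

namespace Cfsg.Agent.H613.ExcD

open Cfsg.Agent.Blocks Cfsg.Agent.Blocks.Local
open Cfsg.Agent.H613.RegGram Cfsg.Agent.H613.Contrib Cfsg.Agent.H624.InvCount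

section count

variable {G : Type*} [Group G] [Finite G]

theorem inv_of_isConj {z t : G} (hz2 : z * z = 1) (ht : IsConj z t) : t⁻¹ = t := by
  obtain ⟨c, rfl⟩ := isConj_iff.1 ht
  apply inv_eq_of_mul_eq_one_left
  calc c * z * c⁻¹ * (c * z * c⁻¹) = c * (z * z) * c⁻¹ := by group
    _ = 1 := by rw [hz2]; group

theorem conj_eq_inv {z x y t : G} (hz2 : z * z = 1) {m : ℕ} (hx : orderOf x = 2 ^ m)
    (hxy : Commute x y) (hy : ¬ 2 ∣ orderOf y) (h1 : IsConj z t)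
    (h2 : IsConj z (x * y * t⁻¹)) : t * x * t⁻¹ = x⁻¹ := by
  have : Fact (Nat.Prime 2) := ⟨Nat.prime_two⟩
  obtain ⟨N, hN⟩ := PPart.exists_pow_eq (G := G) 2
  have hpp : IsPPart 2 (x * y) x := PPart.isPPart_mul hxy ⟨m, hx⟩ hy
  have ht := inv_of_isConj hz2 h1
  have hs := inv_of_isConj hz2 h2
  have h3 : t * (x * y) * t⁻¹ = (x * y)⁻¹ := by
    have h4 : t * (x * y)⁻¹ = x * y * t⁻¹ := by rw [← hs]; group
    calc t * (x * y) * t⁻¹ = t * (x * y * t⁻¹) := by group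
      _ = t * (t * (x * y)⁻¹) := by rw [h4]
      _ = t⁻¹ * (t * (x * y)⁻¹) := by rw [ht]
      _ = (x * y)⁻¹ := by group
  have h5 : (x * y) ^ N = x := hN _ _ hpp
  have h6 := conj_pow (i := N) (a := t) (b := x * y)
  rw [h3, inv_pow, h5] at h6
  exact h6.symm

theorem pairs_pow {z x y t : G} (hz2 : z * z = 1) {m : ℕ} (hx : orderOf x = 2 ^ m)
    (hxy : Commute x y) (hy : ¬ 2 ∣ orderOf y) {k : ℕ} (hk : Odd k) (h1 : IsConj z t)
    (h2 : IsConj z (x * y * t⁻¹)) : IsConj z (x ^ k * y * t⁻¹) := by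
  set s := x * y * t⁻¹ with hs
  have hti := inv_of_isConj hz2 h1
  have hsi := inv_of_isConj hz2 h2
  have h3 : IsConj z (x * y * s⁻¹) := by
    have e : x * y * s⁻¹ = (x * y) * t * (x * y)⁻¹ := by rw [hs]; group
    rw [e]
    exact h1.trans (isConj_iff.2 ⟨x * y, rfl⟩)
  have h4 : s * x * s⁻¹ = x⁻¹ := conj_eq_inv hz2 hx hxy hy h2 h3
  obtain ⟨i, rfl⟩ := hk
  have h5 : s * (x ^ i)⁻¹ * s⁻¹ = x ^ i := by
    have := conj_pow (i := i) (a := s) (b := x⁻¹)
    rw [inv_pow] at this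
    rw [← this]
    have h6 : s * x⁻¹ * s⁻¹ = (s * x * s⁻¹)⁻¹ := by group
    rw [h6, h4, inv_inv]
  have h6 : x ^ (2 * i + 1) * y * t⁻¹ = x ^ i * s * (x ^ i)⁻¹ := by
    have h7 : s * (x ^ i)⁻¹ = x ^ i * s := by
      calc s * (x ^ i)⁻¹ = (s * (x ^ i)⁻¹ * s⁻¹) * s := by group
        _ = x ^ i * s := by rw [h5]
    calc x ^ (2 * i + 1) * y * t⁻¹ = x ^ (i + i) * (x * y * t⁻¹) := by
          rw [pow_succ, two_mul]; group
      _ = x ^ i * (x ^ i * s) := by rw [pow_add, ← hs]; group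
      _ = x ^ i * s * (x ^ i)⁻¹ := by rw [mul_assoc (x ^ i) s, h7]
  rw [h6]
  exact h2.trans (isConj_iff.2 ⟨x ^ i, rfl⟩)

theorem exists_odd_inv {x : G} {m : ℕ} (hx : orderOf x = 2 ^ (m + 1)) {k : ℕ} (hk : Odd k) :
    ∃ k', Odd k' ∧ (x ^ k) ^ k' = x := by
  have h1 : Nat.Coprime k (2 ^ (m + 1)) := Nat.Coprime.pow_right _ (Nat.coprime_two_right.2 hk)
  obtain ⟨k', hk'⟩ := Nat.exists_mul_mod_eq_one_of_coprime h1
    (Nat.one_lt_two_pow (Nat.succ_ne_zero m))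
  refine ⟨k', ?_, ?_⟩
  · by_contra h
    rw [Nat.not_odd_iff_even] at h
    have h2 : Even (k * k') := h.mul_left k
    rw [Nat.even_iff] at h2
    have h3 : k * k' % 2 = 1 := by
      rw [← Nat.mod_mod_of_dvd (k * k') (dvd_pow_self 2 (Nat.succ_ne_zero m)), hk'.2]
    omega
  · rw [← pow_mul, ← pow_mod_orderOf, hx, hk'.2, pow_one]

theorem card_pairs_pow {z x y : G} (hz2 : z * z = 1) {m : ℕ} (hx : orderOf x = 2 ^ (m + 1))
    (hxy : Commute x y) (hy : ¬ 2 ∣ orderOf y) {k : ℕ} (hk : Odd k) :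
    Nat.card {t : G // IsConj z t ∧ IsConj z (x ^ k * y * t⁻¹)} =
      Nat.card {t : G // IsConj z t ∧ IsConj z (x * y * t⁻¹)} := by
  have hxk : orderOf (x ^ k) = 2 ^ (m + 1) := by
    rw [Nat.Coprime.orderOf_pow, hx]
    rw [hx]
    exact (Nat.Coprime.pow_right _ (Nat.coprime_two_right.2 hk)).symm
  refine Nat.card_congr (Equiv.subtypeEquivRight fun t => ⟨fun h => ⟨h.1, ?_⟩, fun h =>
    ⟨h.1, pairs_pow hz2 hx hxy hy hk h.1 h.2⟩⟩)
  obtain ⟨k', hk', hk''⟩ := exists_odd_inv hx hk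
  have := pairs_pow hz2 hxk (hxy.pow_left k) hy hk' h.1 h.2
  rwa [hk''] at this

end count

section sums

variable {G : Type*} [Group G] [Fintype G] {M : Ideal AlgInt}

open Classical in
/-- The weighted sum does not depend on the generator. -/
theorem sum_pow_eq (hM : IsPModular 2 M) {B : Set (IrrCharacter G)} (hB : IsPBlock M B)
    {z : G} (hz2 : z * z = 1) {x : G} {m : ℕ} (hx : orderOf x = 2 ^ (m + 1)) {H : Subgroup G}
    [Fintype H] (hH : H = Subgroup.centralizer ({x} : Set G)) {b : Set (IrrCharacter H)}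
    (hb : IsInducedBlock M H b B) {θ : IrrCharacter H} (hθ : θ ∈ b)
    [Fintype (IrrCharacter G)] {k : ℕ} (hk : Odd k) :
    ∑ χ : IrrCharacter G with χ ∈ B, (χ : G → ℂ) z ^ 2 / (χ : G → ℂ) 1 *
        wt 2 (x ^ k) (χ : G → ℂ) (θ : H → ℂ) =
      ∑ χ : IrrCharacter G with χ ∈ B, (χ : G → ℂ) z ^ 2 / (χ : G → ℂ) 1 *
        wt 2 x (χ : G → ℂ) (θ : H → ℂ) := by
  have hK0 : ((Finset.univ.filter (fun t : G => IsConj z t)).card : ℂ) ^ 2 ≠ 0 := by
    have : z ∈ Finset.univ.filter (fun t : G => IsConj z t) := by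
      rw [Finset.mem_filter]
      exact ⟨Finset.mem_univ _, IsConj.refl z⟩
    exact pow_ne_zero _ (by exact_mod_cast (Finset.card_pos.2 ⟨z, this⟩).ne')
  have hpow : x ^ 2 ^ (m + 1) = 1 := by rw [← hx, pow_orderOf_eq_one]
  have hxk : orderOf (x ^ k) = 2 ^ (m + 1) := by
    rw [Nat.Coprime.orderOf_pow, hx]
    rw [hx]
    exact (Nat.Coprime.pow_right _ (Nat.coprime_two_right.2 hk)).symm
  have hHk : H = Subgroup.centralizer ({x ^ k} : Set G) := by
    rw [Cfsg.Agent.H617.ContrAvg.centralizer_odd_pow hpow hk, hH]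
  have hcomm : ∀ y : H, Commute x (y : G) := by
    intro y
    have : (y : G) ∈ Subgroup.centralizer ({x} : Set G) := hH ▸ y.2
    exact (Subgroup.mem_centralizer_singleton_iff.1 this).symm
  apply mul_left_cancel₀ hK0
  rw [sum_eq_card_mul hM hB hz2 ⟨m + 1, hxk⟩ hHk hb hθ,
    sum_eq_card_mul hM hB hz2 ⟨m + 1, hx⟩ hH hb hθ]
  congr 2
  refine Finset.sum_congr rfl fun y hy => ?_
  have hy' : ¬ 2 ∣ orderOf (y : G) := by
    rw [Subgroup.orderOf_coe]; exact (Finset.mem_filter.1 hy).2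
  rw [card_pairs_pow hz2 hx (hcomm y) hy' hk]

end sums

end Cfsg.Agent.H613.ExcD
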