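import Mathlib
import Cfsg.Agent.H613.ExcD

/-!
# The exclusion argument: sums over the block
-/

set_option autoImplicit false
set_option linter.unusedSectionVars false

open Cfsg
open scoped ComplexConjugate

namespace Cfsg.Agent.H613.ExcE

open Cfsg.Agent.Blocks.Blau Cfsg.Agent.Blocks.Local Cfsg.Agent.Characters
open Cfsg.Agent.H613.SubSys Cfsg.Agent.H613.SubFus Cfsg.Agent.H644 Cfsg.Agent.H651
open Cfsg.Agent.H649 Cfsg.Agent.H613.LocMono Cfsg.Agent.H613.TwoCol Cfsg.Agent.H617.TwoAvg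
open Cfsg.Agent.H613.RegGram Cfsg.Agent.H613.Contrib Cfsg.Agent.H613.DihGrp
open Cfsg.Agent.H613.DihCol Cfsg.Agent.H613.DihFus Cfsg.Agent.H613.SubDef Cfsg.Agent.H613.ExcA
open Cfsg.Agent.H613.ExcB Cfsg.Agent.H613.ExcC Cfsg.Agent.H613.ExcD Cfsg.Agent.H624.InvCount

universe u

variable {G : Type u} [Group G] [Fintype G] {M : Ideal AlgInt}
  {B : Set (IrrCharacter G)} {a : BrauerPairIdx G} {x y z : G} {j : ℕ}

open Classical in
/-- Divisibility of the average. -/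
theorem div_avg (hM : IsPModular 2 M) {u : G} (hu : orderOf u = 2 ^ (j + 1)) {b : BrauerPairIdx G}
    {dx : IrrCharacter (Subgroup.centralizer (b.1 : Set G)) → ℕ}
    {ax : IrrCharacter G → ℕ → ℤ} (hx : Col M B u b j dx ax)
    (hz2 : z * z = 1)
    {θ : IrrCharacter (Subgroup.centralizer (b.1 : Set G))} (hθ : θ ∈ b.2)
    [Fintype (IrrCharacter G)] :
    MemLocalRing M (((Finset.univ.filter (fun t : G => IsConj z t)).card : ℂ) ^ 2 / (Nat.card G : ℂ) *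
      (∑ χ : IrrCharacter G with χ ∈ B, (χ : G → ℂ) z ^ 2 / (χ : G → ℂ) 1 * (ax χ 0 : ℂ)) *
      (dx θ : ℂ) / 2 ^ j) := by
  have : Fact (Nat.Prime 2) := ⟨Nat.prime_two⟩
  have := isPrime_of_isPModular hM
  have := Fintype.ofFinite (Subgroup.centralizer (b.1 : Set G))
  have hp0 : (2 : ℂ) ^ blockDefect 2 b.2 ≠ 0 := pow_ne_zero _ two_ne_zero
  have hj0 : (2 : ℂ) ^ j ≠ 0 := pow_ne_zero _ two_ne_zero
  have h1 := div_sum hM hx.sub.ind.2.1 hz2 hu hx.sub.centralizer_eq hx.sub.ind hθ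
  have h2 : ∀ k ∈ oddSet (j + 1), ∑ χ : IrrCharacter G with χ ∈ B,
      (χ : G → ℂ) z ^ 2 / (χ : G → ℂ) 1 * ((dx θ : ℂ) / 2 ^ blockDefect 2 b.2 * ev j (ax χ) k) =
      ∑ χ : IrrCharacter G with χ ∈ B, (χ : G → ℂ) z ^ 2 / (χ : G → ℂ) 1 *
        wt 2 u (χ : G → ℂ) (θ : Subgroup.centralizer (b.1 : Set G) → ℂ) := by
    intro k hk
    have hk' := (mem_oddSet.1 hk).2
    rw [← sum_pow_eq hM hx.sub.ind.2.1 hz2 hu hx.sub.centralizer_eq hx.sub.ind hθ hk']
    refine Finset.sum_congr rfl fun χ _ => ?_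
    rw [← W_eq, hx.val χ k hk' θ hθ]
  have h3 : (2 : ℂ) ^ j * ∑ χ : IrrCharacter G with χ ∈ B, (χ : G → ℂ) z ^ 2 / (χ : G → ℂ) 1 *
        wt 2 u (χ : G → ℂ) (θ : Subgroup.centralizer (b.1 : Set G) → ℂ) =
      2 ^ j * ((dx θ : ℂ) / 2 ^ blockDefect 2 b.2 *
        ∑ χ : IrrCharacter G with χ ∈ B, (χ : G → ℂ) z ^ 2 / (χ : G → ℂ) 1 * (ax χ 0 : ℂ)) := by
    have h4 := Finset.sum_congr rfl h2
    rw [Finset.sum_const, card_oddSet, nsmul_eq_mul, Finset.sum_comm] at h4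
    push_cast at h4
    rw [← h4, Finset.mul_sum, Finset.mul_sum]
    refine Finset.sum_congr rfl fun χ _ => ?_
    rw [← Finset.mul_sum, ← Finset.mul_sum, sum_ev]
    ring
  have h4 := mul_left_cancel₀ hj0 h3
  rw [h4] at h1
  convert h1 using 1
  field_simp

/-- The only subsection at `z` is the one below the maximal pair. -/
theorem eq_bel_of_isSubsec (hM : IsPModular 2 M) (hmax : IsMaximalBrauerPair 2 M B a.1 a.2)
    (hD : IsDih a.1 x j) (hy : y ∈ a.1) (hyx : y ∉ Subgroup.zpowers x)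
    (hρ : rho M a x y j = 1) {c : BrauerPairIdx G} (hc : IsSubsec 2 M B (x ^ 2 ^ j) c) :
    c = bel 2 M a (x ^ 2 ^ j) := by
  have : Fact (Nat.Prime 2) := ⟨Nat.prime_two⟩
  have := isPrime_of_isPModular hM
  obtain ⟨g, hg1, hg2⟩ := exists_fus_of_isSubsec hM hmax hc
  obtain ⟨w, hw1, hw2⟩ := fus_of_rho_eq_one hM hmax hD hy hyx hρ hg1
    (fun h => hD.z_ne (conj_eq_one_iff.1 h)) (by
      calc g * x ^ 2 ^ j * g⁻¹ * (g * x ^ 2 ^ j * g⁻¹) = g * (x ^ 2 ^ j * x ^ 2 ^ j) * g⁻¹ := by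
            group
        _ = 1 := by rw [hD.z_sq]; group)
  have h1 : conjIdx (w⁻¹ * g) c = bel 2 M a (x ^ 2 ^ j) := by
    rw [← conjIdx_conjIdx, hg2, ← hw2, conjIdx_inv_conjIdx]
  have h2 : w⁻¹ * g ∈ Subgroup.centralizer (c.1 : Set G) := by
    rw [hc.centralizer_eq, Subgroup.mem_centralizer_singleton_iff]
    have h3 : x ^ 2 ^ j = w⁻¹ * (g * x ^ 2 ^ j * g⁻¹) * w := by rw [← hw1]; group
    calc w⁻¹ * g * x ^ 2 ^ j = w⁻¹ * (g * x ^ 2 ^ j * g⁻¹) * w * (w⁻¹ * g) := by group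
      _ = x ^ 2 ^ j * (w⁻¹ * g) := by rw [← h3]
  have h3 : conjIdx (w⁻¹ * g) c = c := centralizer_le_idxStab hc.ind.1 h2
  rw [← h3, h1]

/-- The values at `u` when there is only one subsection. -/
theorem exists_kappa (hM : IsPModular 2 M) {u : G} {b : BrauerPairIdx G}
    {d : IrrCharacter (Subgroup.centralizer (b.1 : Set G)) → ℕ} {c : IrrCharacter G → ℕ → ℤ}
    (h : Col M B u b 0 d c) (hl : blockRank 2 b.2 = 1)
    (honly : ∀ e : BrauerPairIdx G, IsSubsec 2 M B u e → e = b) :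
    ∃ κ : ℂ, (∀ χ ∈ B, (χ : G → ℂ) u = (c χ 0 : ℂ) * κ) ∧
      ∀ η ∈ b.2, (η : Subgroup.centralizer (b.1 : Set G) → ℂ) 1 = (d η : ℂ) * κ := by
  classical
  have : Fact (Nat.Prime 2) := ⟨Nat.prime_two⟩
  have hP := isPrime_of_isPModular hM
  have := Fintype.ofFinite (Subgroup.centralizer (b.1 : Set G))
  have := Core.finite_irr (G := Subgroup.centralizer (b.1 : Set G))
  have := Fintype.ofFinite (IrrCharacter (Subgroup.centralizer (b.1 : Set G)))
  have := Fintype.ofFinite b.2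
  have h21 : ¬ 2 ∣ orderOf (1 : Subgroup.centralizer (b.1 : Set G)) := by
    rw [orderOf_one]; norm_num
  refine ⟨∑ ζ : b.2, (d (ζ : IrrCharacter (Subgroup.centralizer (b.1 : Set G))) : ℂ) /
    2 ^ blockDefect 2 b.2 * ((ζ : IrrCharacter (Subgroup.centralizer (b.1 : Set G))) :
      Subgroup.centralizer (b.1 : Set G) → ℂ) 1, fun χ hχ => ?_, fun η hη => ?_⟩
  · have h1 := congrFun (regPart_eq_sum 2 (isClassFunction_mul (ψ := (χ : G → ℂ))
      h.sub.centralizer_eq (isClassFunction_coe χ))) 1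
    rw [regPart_of_not_dvd h21, Finset.sum_apply] at h1
    simp only [Subgroup.coe_one, mul_one, Pi.smul_apply, smul_eq_mul] at h1
    rw [h1, sum_eq_sum_coe b.2, Finset.mul_sum]
    · refine Finset.sum_congr rfl fun ζ _ => ?_
      rw [← wt_def, ← W_eq]
      have h2 := h.val χ 1 odd_one (ζ : IrrCharacter (Subgroup.centralizer (b.1 : Set G))) ζ.2
      rw [pow_one] at h2
      rw [h2, ev_zero]
      ring
    · intro ζ hζ
      rw [← wt_def, Cfsg.Agent.H639.wt_eq_zero hM h.sub.pelt h.sub.centralizer_eq h.sub.ind.2.1 hχ,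
        zero_mul]
      intro hind
      apply hζ
      have h2 := honly ⟨b.1, blockOf M (ζ : Subgroup.centralizer (b.1 : Set G) → ℂ)⟩
        ⟨h.sub.fst, h.sub.pelt, hind⟩
      have h3 : ζ ∈ (⟨b.1, blockOf M (ζ : Subgroup.centralizer (b.1 : Set G) → ℂ)⟩ :
        BrauerPairIdx G).2 := Cfsg.Agent.Blocks.Basic.mem_blockOf_self ζ
      have key : ∀ e : BrauerPairIdx G, e = b → ∀ (he : e.1 = b.1), ∀ ζ',
          HEq ζ' ζ → ζ' ∈ e.2 → ζ ∈ b.2 := by
        rintro _ rfl _ ζ' hζ' hm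
        rw [eq_of_heq hζ'] at hm
        exact hm
      exact key _ h2 rfl ζ HEq.rfl h3
  · have h1 := congrFun (regPart_eq_sum_block hM h.sub.ind.1 hη) 1
    rw [regPart_of_not_dvd h21, Finset.sum_apply] at h1
    simp only [Pi.smul_apply, smul_eq_mul] at h1
    rw [h1, Finset.mul_sum]
    refine Finset.sum_congr rfl fun ζ _ => ?_
    rw [rg_eq_of_col hM h hl ζ.2 hη]
    ring

end Cfsg.Agent.H613.ExcE
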