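import Mathlib
import Cfsg.Agent.H613.ExcE

/-!
# The exclusion argument: positivity
-/

set_option autoImplicit false
set_option linter.unusedSectionVars false

open Cfsg
open scoped ComplexConjugate

namespace Cfsg.Agent.H613.ExcF

open Cfsg.Agent.Blocks.Blau Cfsg.Agent.Blocks.Local Cfsg.Agent.Characters
open Cfsg.Agent.H613.SubSys Cfsg.Agent.H613.SubFus Cfsg.Agent.H644 Cfsg.Agent.H651
open Cfsg.Agent.H649 Cfsg.Agent.H613.LocMono Cfsg.Agent.H613.TwoCol Cfsg.Agent.H617.TwoAvg
open Cfsg.Agent.H613.RegGram Cfsg.Agent.H613.Contrib Cfsg.Agent.H613.DihGrp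
open Cfsg.Agent.H613.DihCol Cfsg.Agent.H613.DihFus Cfsg.Agent.H613.SubDef Cfsg.Agent.H613.ExcA
open Cfsg.Agent.H613.ExcB Cfsg.Agent.H613.ExcC Cfsg.Agent.H613.ExcD Cfsg.Agent.H613.ExcE
open Cfsg.Agent.H624.InvCount Cfsg.Agent.H613.LocW

universe u

section general

variable {G : Type u} [Group G] [Finite G] {p : ℕ} [Fact p.Prime] {M : Ideal AlgInt}
  {B : Set (IrrCharacter G)} {a : BrauerPairIdx G}

/-- Characters of `B` vanish off the conjugates of a defect group. -/
theorem exists_conj_mem_of_apply_ne (hM : IsPModular p M)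
    (hmax : IsMaximalBrauerPair p M B a.1 a.2) {t : G} (ht : ∃ k : ℕ, orderOf t = p ^ k)
    {ξ : IrrCharacter G} (hξ : ξ ∈ B) (h : (ξ : G → ℂ) t ≠ 0) : ∃ g : G, g * t * g⁻¹ ∈ a.1 := by
  by_contra hno
  push Not at hno
  apply h
  have key := apply_eq_zero_of_W (p := p) (v := t) (f := (ξ : G → ℂ)) (y := 1) hM
    (isClassFunction_coe ξ) ?_ (by
      rw [orderOf_one]; exact (Fact.out : p.Prime).one_lt.ne' ∘ Nat.dvd_one.1)
    (Commute.one_right t)
  · rwa [mul_one] at key
  · intro c hc1 hc η hη
    by_cases hind : IsInducedBlock M (Subgroup.centralizer (c.1 : Set G)) c.2 B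
    · exfalso
      obtain ⟨g, hg, _⟩ := exists_fus_of_isSubsec hM hmax ⟨hc1, ht, hind⟩
      exact hno g hg
    · exact W_eq_zero hM ht hc1 hmax.1.2.1 hc hind hξ hη

/-- Some character of `B` does not vanish at a given element of the defect group. -/
theorem exists_apply_ne (hM : IsPModular p M) (hmax : IsMaximalBrauerPair p M B a.1 a.2)
    {t : G} (ht : t ∈ a.1) : ∃ ξ ∈ B, (ξ : G → ℂ) t ≠ 0 := by
  classical
  by_contra hno
  push Not at hno
  have := Fintype.ofFinite G
  have := isPrime_of_isPModular hM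
  have := Core.finite_irr (G := G)
  have := Fintype.ofFinite (IrrCharacter G)
  have hsub := isSubsec_bel hM hmax ht
  obtain ⟨k, hk⟩ := hsub.pelt
  obtain ⟨η, hη⟩ := isPBlock_nonempty hM hsub.ind.1
  have := Fintype.ofFinite (Subgroup.centralizer ((bel p M a t).1 : Set G))
  let F : G → ℂ := fun g => if IsConj t g then 1 else 0
  have hF : IsClassFunction G F := by
    intro g h
    change (if IsConj t (h * g * h⁻¹) then (1 : ℂ) else 0) = if IsConj t g then (1 : ℂ) else 0
    have e : IsConj t (h * g * h⁻¹) ↔ IsConj t g :=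
      ⟨fun h' => h'.trans (isConj_iff.2 ⟨h, rfl⟩).symm, fun h' => h'.trans (isConj_iff.2 ⟨h, rfl⟩)⟩
    simp only [e]
  have h1 : W p t (bel p M a t) F η = 0 := by
    rw [W_expand hF]
    refine Finset.sum_eq_zero fun χ _ => ?_
    by_cases hχ : χ ∈ B
    · have h2 : classInner F (χ : G → ℂ) = 0 := by
        rw [Core.classInner_def, Finset.sum_eq_zero, mul_zero]
        intro g _
        change (if IsConj t g then (1 : ℂ) else 0) * _ = 0
        split_ifs with h3
        · rw [Cfsg.Agent.Blocks.InvSum.eq_of_isConj (Core.isIrr_isClassFunction χ.2) h3, hno χ hχ,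
            map_zero, mul_zero]
        · rw [zero_mul]
      rw [h2, zero_mul]
    · rw [W_eq_zero hM ⟨k, hk⟩ hsub.fst (Cfsg.Agent.Blocks.Basic.isPBlock_blockOf χ) hsub.ind.1 ?_
        (Cfsg.Agent.Blocks.Basic.mem_blockOf_self χ) hη, mul_zero]
      intro hind
      apply hχ
      rw [Cfsg.Agent.H648.Dict.isInducedBlock_unique hsub.ind hind]
      exact Cfsg.Agent.Blocks.Basic.mem_blockOf_self χ
  rw [W_eq_sum] at h1
  have h2 : ∑ s : Subgroup.centralizer ((bel p M a t).1 : Set G) with ¬ p ∣ orderOf s,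
      F (t * (s : G)) * conj ((η : Subgroup.centralizer ((bel p M a t).1 : Set G) → ℂ) s) =
      conj ((η : Subgroup.centralizer ((bel p M a t).1 : Set G) → ℂ) 1) := by
    rw [Finset.sum_eq_single (1 : Subgroup.centralizer ((bel p M a t).1 : Set G))]
    · change (if IsConj t (t * ((1 : Subgroup.centralizer ((bel p M a t).1 : Set G)) : G))
        then (1 : ℂ) else 0) * _ = _
      rw [Subgroup.coe_one, mul_one, if_pos (IsConj.refl t), one_mul]
    · intro s hs hs1
      change (if IsConj t (t * (s : G)) then (1 : ℂ) else 0) * _ = _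
      rw [if_neg, zero_mul]
      intro hc
      apply hs1
      have hcomm : Commute t (s : G) := by
        have h3 : (s : G) ∈ Subgroup.centralizer ({t} : Set G) := hsub.centralizer_eq ▸ s.2
        exact (Subgroup.mem_centralizer_singleton_iff.1 h3).symm
      have hs2 : ¬ p ∣ orderOf (s : G) := by
        rw [Subgroup.orderOf_coe]; exact (Finset.mem_filter.1 hs).2
      have hcop : (orderOf t).Coprime (orderOf (s : G)) := by
        rw [hk]
        exact Nat.Coprime.pow_left _ ((Nat.Prime.coprime_iff_not_dvd Fact.out).2 hs2)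
      have h4 := hcomm.orderOf_mul_eq_mul_orderOf_of_coprime hcop
      obtain ⟨w, hw⟩ := isConj_iff.1 hc
      rw [← hw, Cfsg.Agent.Blocks.Blau.orderOf_conj_eq] at h4
      have h5 : orderOf (s : G) = 1 := by
        have h6 := orderOf_pos t
        have h7 : orderOf t * 1 = orderOf t * orderOf (s : G) := by rw [mul_one]; exact h4
        exact (Nat.eq_of_mul_eq_mul_left h6 h7).symm
      exact Subtype.ext (orderOf_eq_one_iff.1 h5)
    · intro h3
      exfalso
      apply h3
      rw [Finset.mem_filter]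
      refine ⟨Finset.mem_univ _, ?_⟩
      rw [orderOf_one]; exact (Fact.out : p.Prime).one_lt.ne' ∘ Nat.dvd_one.1
  rw [h2] at h1
  rcases mul_eq_zero.1 h1 with h3 | h3
  · have : (Nat.card (Subgroup.centralizer ((bel p M a t).1 : Set G)) : ℂ) ≠ 0 := by
      exact_mod_cast Nat.card_pos.ne'
    exact this (inv_eq_zero.1 h3)
  · apply apply_one_ne_zero η
    rw [← Complex.conj_conj ((η : Subgroup.centralizer ((bel p M a t).1 : Set G) → ℂ) 1), h3,
      map_zero]

end general

end Cfsg.Agent.H613.ExcF
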