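import Mathlib
import Cfsg.Agent.H613.ExcF

/-!
# The exclusion theorem
-/

set_option autoImplicit false
set_option linter.unusedSectionVars false

open Cfsg
open scoped ComplexConjugate

namespace Cfsg.Agent.H613.ExcG

open Cfsg.Agent.Blocks.Blau Cfsg.Agent.Blocks.Local Cfsg.Agent.Characters
open Cfsg.Agent.H613.SubSys Cfsg.Agent.H613.SubFus Cfsg.Agent.H644 Cfsg.Agent.H651
open Cfsg.Agent.H649 Cfsg.Agent.H613.LocMono Cfsg.Agent.H613.TwoCol Cfsg.Agent.H617.TwoAvg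
open Cfsg.Agent.H613.RegGram Cfsg.Agent.H613.Contrib Cfsg.Agent.H613.DihGrp
open Cfsg.Agent.H613.DihCol Cfsg.Agent.H613.DihFus Cfsg.Agent.H613.SubDef Cfsg.Agent.H613.ExcA
open Cfsg.Agent.H613.ExcB Cfsg.Agent.H613.ExcC Cfsg.Agent.H613.ExcD Cfsg.Agent.H613.ExcE
open Cfsg.Agent.H624.InvCount Cfsg.Agent.H613.LocW Cfsg.Agent.H613.ExcF

universe u

/-- The 2-part of the degree of a character of height zero. -/
theorem exists_odd_deg {G : Type u} [Group G] [Finite G] {B : Set (IrrCharacter G)}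
    {ψ : IrrCharacter G} (hψ : ψ ∈ B) (h0 : blockHeight 2 B (ψ : G → ℂ) = 0) :
    ∃ g1 g2 : ℕ, Odd g1 ∧ Odd g2 ∧
      (2 : ℂ) ^ blockDefect 2 B * (ψ : G → ℂ) 1 * g1 = (Nat.card G : ℂ) * g2 := by
  have h1 := defect_add_eq (p := 2) hψ h0
  have hG : Nat.card G ≠ 0 := Nat.card_pos.ne'
  have hc := charDegree_ne_zero ψ
  have hodd : ∀ {m : ℕ}, m ≠ 0 → Odd (m / 2 ^ m.factorization 2) := by
    intro m hm
    have := Nat.coprime_ordCompl Nat.prime_two hm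
    exact Nat.coprime_two_left.1 this
  refine ⟨Nat.card G / 2 ^ (Nat.card G).factorization 2,
    charDegree (ψ : G → ℂ) / 2 ^ (charDegree (ψ : G → ℂ)).factorization 2, hodd hG, hodd hc, ?_⟩
  rw [apply_one_eq_charDegree]
  have h2 := Nat.ordProj_mul_ordCompl_eq_self (Nat.card G) 2
  have h3 := Nat.ordProj_mul_ordCompl_eq_self (charDegree (ψ : G → ℂ)) 2
  set a := Nat.card G / 2 ^ (Nat.card G).factorization 2
  set c := charDegree (ψ : G → ℂ) / 2 ^ (charDegree (ψ : G → ℂ)).factorization 2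
  have h4 : 2 ^ blockDefect 2 B * charDegree (ψ : G → ℂ) * a = Nat.card G * c := by
    conv_lhs => rw [← h3]
    conv_rhs => rw [← h2, ← h1, pow_add]
    ring
  exact_mod_cast h4

theorem sum_filter_eq {G : Type u} [Group G] [Fintype (IrrCharacter G)]
    (B : Set (IrrCharacter G)) [Fintype B] [DecidablePred fun χ : IrrCharacter G => χ ∈ B]
    (F : IrrCharacter G → ℂ) :
    ∑ χ : IrrCharacter G with χ ∈ B, F χ = ∑ χ : B, F χ :=
  Finset.sum_subtype _ (by simp) F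

/-- The 2-adic contradiction. -/
theorem val_contra {M : Ideal AlgInt} (hM : IsPModular 2 M) {j n : ℕ} (hj : 2 ≤ j)
    (hn : n = j + 2)
    {K gG gH d0 e0 t g1 g2 h1 h2 : ℕ} {κ φ χ1 η1 s : ℂ} (hs : s = 32 / 3 ∨ s = -(32 / 3))
    (hK : K * gH = gG) (hgG : gG ≠ 0)
    (hg1 : Odd g1) (hg2 : Odd g2) (hh1 : Odd h1) (hh2 : Odd h2) (hd : Odd d0) (he : Odd e0)
    (ht : Odd t)
    (eG : (2 : ℂ) ^ n * χ1 * g1 = gG * g2) (eH : (2 : ℂ) ^ n * η1 * h1 = gH * h2)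
    (eχ : χ1 = d0 * φ) (eη : η1 = e0 * κ)
    (hZ : MemLocalRing M ((K : ℂ) ^ 2 / gG * (κ ^ 2 / φ * s) * t / 2 ^ j)) : False := by
  have hP := isPrime_of_isPModular hM
  have hgG' : (gG : ℂ) ≠ 0 := by exact_mod_cast hgG
  have hgH : gH ≠ 0 := by rintro rfl; exact hgG (by rw [← hK, mul_zero])
  have hgH' : (gH : ℂ) ≠ 0 := by exact_mod_cast hgH
  have hne : ∀ {m : ℕ}, Odd m → (m : ℂ) ≠ 0 := fun hm => by
    exact_mod_cast hm.pos.ne'
  have hKc : (K : ℂ) * gH = gG := by exact_mod_cast hK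
  have h2n : (2 : ℂ) ^ n ≠ 0 := pow_ne_zero _ two_ne_zero
  obtain ⟨i, rfl⟩ : ∃ i, j = i + 2 := ⟨j - 2, by omega⟩
  -- the product with an odd number
  have key : ∀ s : ℂ, s = 32 / 3 → MemLocalRing M ((K : ℂ) ^ 2 / gG * (κ ^ 2 / φ * s) * t / 2 ^ (i + 2)) →
      False := by
    intro s hs hZ
    have h3 : ((3 * h1 ^ 2 * e0 ^ 2 * g2 : ℕ) : ℂ) *
        ((K : ℂ) ^ 2 / gG * (κ ^ 2 / φ * s) * t / 2 ^ (i + 2)) =
        ((((h2 ^ 2 * d0 * g1 * t : ℕ) : ℤ)) : ℂ) / (2 : ℂ) ^ (2 * i + 1) := by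
      have e1 : κ = gH * h2 / (2 ^ n * h1 * e0) := by
        rw [eq_div_iff (mul_ne_zero (mul_ne_zero h2n (hne hh1)) (hne he)), ← eH, eη]
        ring
      have e2 : φ = gG * g2 / (2 ^ n * g1 * d0) := by
        rw [eq_div_iff (mul_ne_zero (mul_ne_zero h2n (hne hg1)) (hne hd)), ← eG, eχ]
        ring
      have := hne hg1
      have := hne hg2
      have := hne hh1
      have := hne hh2
      have := hne hd
      have := hne he
      rw [e1, e2, hs, hn, ← hKc]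
      have hK0 : (K : ℂ) ≠ 0 := by
        intro h
        rw [h, zero_mul] at hKc
        exact hgG' hKc.symm
      push_cast
      field_simp
      ring
    have h4 : MemLocalRing M (((((h2 ^ 2 * d0 * g1 * t : ℕ) : ℤ)) : ℂ) / (2 : ℂ) ^ (2 * i + 1)) := by
      rw [← h3]
      exact memLocalRing_mul (memLocalRing_natCast _) hZ
    have h5 := pow_dvd_of_memLocalRing hM (2 * i + 1) (k := ((h2 ^ 2 * d0 * g1 * t : ℕ) : ℤ))
      (by exact_mod_cast h4)
    have h6 : (2 : ℤ) ∣ ((h2 ^ 2 * d0 * g1 * t : ℕ) : ℤ) :=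
      (dvd_pow_self (2 : ℤ) (Nat.succ_ne_zero (2 * i))).trans (by exact_mod_cast h5)
    have h7 : 2 ∣ h2 ^ 2 * d0 * g1 * t := by exact_mod_cast h6
    have h8 : Odd (h2 ^ 2 * d0 * g1 * t) := (((hh2.pow).mul hd).mul hg1).mul ht
    rw [← Nat.not_even_iff_odd] at h8
    exact h8 (even_iff_two_dvd.2 h7)
  rcases hs with hs | hs
  · exact key s hs hZ
  · refine key (-s) (by rw [hs, neg_neg]) ?_
    have := memLocalRing_neg hZ
    convert this using 1
    ring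

variable {G : Type u} [Group G] [Finite G] {M : Ideal AlgInt}
  {B : Set (IrrCharacter G)} {a : BrauerPairIdx G} {x y : G} {j : ℕ}

theorem cube_pos_aux [Fintype G] [Fintype (IrrCharacter G)] [Fintype B]
    (hM : IsPModular 2 M) (hmax : IsMaximalBrauerPair 2 M B a.1 a.2)
    (hD : IsDih a.1 x j) (hy : y ∈ a.1) (hyx : y ∉ Subgroup.zpowers x)
    (hρ : rho M a x y j = 1) {Q : Subgroup G}
    {f : Set (IrrCharacter (Subgroup.centralizer (Q : Set G)))}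
    (hf : (⟨Q, f⟩ : BrauerPairIdx G) = bel 2 M a (x ^ 2 ^ j)) :
    ∑ χ : B, (χ : G → ℂ) (x ^ 2 ^ j) ^ 3 / (χ : G → ℂ) 1 ≠ 0 := by
  classical
  have : Fact (Nat.Prime 2) := ⟨Nat.prime_two⟩
  have hP := isPrime_of_isPModular hM
  have hB := hmax.1.2.1
  have hsub : IsSubsec 2 M B (x ^ 2 ^ j) ⟨Q, f⟩ := hf ▸ isSubsec_bel hM hmax hD.z_mem
  have hQ : Q = Subgroup.zpowers (x ^ 2 ^ j) := hsub.fst
  have hbr : IsBrauerPairOf 2 M B Q f := ((isSubsec_iff hM hB).1 hsub).2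
  have hle : LEIdx 2 M ⟨Q, f⟩ a := hf ▸ bel_le hM hmax.1.1 hD.z_mem
  have hPC : a.1 ≤ Subgroup.centralizer (Q : Set G) := by
    intro w hw
    rw [hQ, Subgroup.mem_centralizer_iff]
    intro c hc
    obtain ⟨k, rfl⟩ := Subgroup.mem_zpowers_iff.1 hc
    exact ((show Commute w (x ^ 2 ^ j) from hD.z_comm hw).zpow_right k).eq.symm
  obtain ⟨a', ha'1, hmax', -⟩ := exists_loc_max hM hmax hbr hle hPC
  have := Fintype.ofFinite (Subgroup.centralizer (Q : Set G))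
  have := Core.finite_irr (G := Subgroup.centralizer (Q : Set G))
  have := Fintype.ofFinite (IrrCharacter (Subgroup.centralizer (Q : Set G)))
  have hmem' : ∀ t : Subgroup.centralizer (Q : Set G), t ∈ a'.1 ↔ (t : G) ∈ a.1 := fun t => by
    rw [ha'1, Subgroup.mem_subgroupOf]
  have hA : ∀ ξ : IrrCharacter (Subgroup.centralizer (Q : Set G)),
      ξ ∈ f ↔ IsInducedBlock M (Subgroup.centralizer (Q : Set G))
        (blockOf M (ξ : Subgroup.centralizer (Q : Set G) → ℂ)) B := by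
    intro ξ
    constructor
    · intro hξ
      rw [← Cfsg.Agent.Blocks.Basic.isPBlock_eq_blockOf hsub.ind.1 hξ]
      exact hsub.ind
    · intro hind
      have h2 := eq_bel_of_isSubsec hM hmax hD hy hyx hρ
        (c := ⟨Q, blockOf M (ξ : Subgroup.centralizer (Q : Set G) → ℂ)⟩)
        ⟨hQ, hsub.pelt, hind⟩
      rw [← hf] at h2
      have h3 : blockOf M (ξ : Subgroup.centralizer (Q : Set G) → ℂ) = f :=
        eq_of_heq (Sigma.mk.inj h2).2
      rw [← h3]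
      exact Cfsg.Agent.Blocks.Basic.mem_blockOf_self ξ
  have hK : ∀ t : Subgroup.centralizer (Q : Set G),
      t * t = 1 → t ≠ 1 → (∃ ξ ∈ f, (ξ : Subgroup.centralizer (Q : Set G) → ℂ) t ≠ 0) →
      IsConj (x ^ 2 ^ j) (t : G) := by
    rintro t ht2 ht1 ⟨ξ, hξ, hne⟩
    obtain ⟨g, hg⟩ := exists_conj_mem_of_apply_ne hM hmax'
      ⟨1, by rw [pow_one]; exact orderOf_eq_prime (by rw [pow_two, ht2]) ht1⟩ hξ hne
    rw [hmem'] at hg
    have hg' : (g : G) * (t : G) * (g : G)⁻¹ ∈ a.1 := hg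
    have ht1' : (t : G) ≠ 1 := fun h => ht1 (Subtype.ext h)
    have ht2' : (t : G) * (t : G) = 1 := by
      have := congrArg Subtype.val ht2
      exact this
    obtain ⟨w, hw, -⟩ := fus_of_rho_eq_one hM hmax hD hy hyx hρ hg'
      (fun h => ht1' (conj_eq_one_iff.1 h)) (by
        calc (g : G) * (t : G) * (g : G)⁻¹ * ((g : G) * (t : G) * (g : G)⁻¹)
            = (g : G) * ((t : G) * (t : G)) * (g : G)⁻¹ := by group
          _ = 1 := by rw [ht2']; group)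
    refine isConj_iff.2 ⟨(g : G)⁻¹ * w, ?_⟩
    calc (g : G)⁻¹ * w * x ^ 2 ^ j * ((g : G)⁻¹ * w)⁻¹
        = (g : G)⁻¹ * (w * x ^ 2 ^ j * w⁻¹) * (g : G) := by group
      _ = (t : G) := by rw [hw]; group
  have hex : ∃ t : Subgroup.centralizer (Q : Set G),
      t * t = 1 ∧ t ≠ 1 ∧ t ≠ ⟨x ^ 2 ^ j, hPC hD.z_mem⟩ ∧
      ∃ ξ ∈ f, (ξ : Subgroup.centralizer (Q : Set G) → ℂ) t ≠ 0 := by
    refine ⟨⟨y, hPC hy⟩, Subtype.ext (hD.sq y hy hyx), ?_, ?_, ?_⟩
    · intro h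
      apply hyx
      have h1 : y = 1 := congrArg Subtype.val h
      rw [h1]; exact Subgroup.one_mem _
    · intro h
      apply hyx
      have h1 : y = x ^ 2 ^ j := congrArg Subtype.val h
      rw [h1]; exact hD.z_mem'
    · exact exists_apply_ne hM hmax' ((hmem' ⟨y, hPC hy⟩).2 hy)
  obtain ⟨r, hr, hsum⟩ := cube_sum_pos hM hB hD.z_sq hD.z_ne hsub.centralizer_eq
    (zH := ⟨x ^ 2 ^ j, hPC hD.z_mem⟩) rfl hA hK hex
  rw [sum_filter_eq] at hsum
  rw [hsum]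
  exact_mod_cast hr.ne'

/-- Positivity of the cubic sum. -/
theorem cube_pos [Fintype G] [Fintype (IrrCharacter G)] [Fintype B]
    (hM : IsPModular 2 M) (hmax : IsMaximalBrauerPair 2 M B a.1 a.2)
    (hD : IsDih a.1 x j) (hy : y ∈ a.1) (hyx : y ∉ Subgroup.zpowers x)
    (hρ : rho M a x y j = 1) :
    ∑ χ : B, (χ : G → ℂ) (x ^ 2 ^ j) ^ 3 / (χ : G → ℂ) 1 ≠ 0 :=
  cube_pos_aux hM hmax hD hy hyx hρ rfl

end Cfsg.Agent.H613.ExcG
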