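import Mathlib
import Cfsg.Agent.H613.ExcG

/-!
# The exclusion theorem
-/

set_option autoImplicit false
set_option linter.unusedSectionVars false

open Cfsg
open scoped ComplexConjugate

namespace Cfsg.Agent.H613.ExcH

open Cfsg.Agent.Blocks.Blau Cfsg.Agent.Blocks.Local Cfsg.Agent.Characters
open Cfsg.Agent.H613.SubSys Cfsg.Agent.H613.SubFus Cfsg.Agent.H644 Cfsg.Agent.H651
open Cfsg.Agent.H649 Cfsg.Agent.H613.LocMono Cfsg.Agent.H613.TwoCol Cfsg.Agent.H617.TwoAvg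
open Cfsg.Agent.H613.RegGram Cfsg.Agent.H613.Contrib Cfsg.Agent.H613.DihGrp
open Cfsg.Agent.H613.DihCol Cfsg.Agent.H613.DihFus Cfsg.Agent.H613.SubDef Cfsg.Agent.H613.ExcA
open Cfsg.Agent.H613.ExcB Cfsg.Agent.H613.ExcC Cfsg.Agent.H613.ExcD Cfsg.Agent.H613.ExcE
open Cfsg.Agent.H624.InvCount Cfsg.Agent.H613.LocW Cfsg.Agent.H613.ExcF Cfsg.Agent.H613.ExcG

universe u

variable {G : Type u} [Group G] [Finite G] {M : Ideal AlgInt}
  {B : Set (IrrCharacter G)} {a : BrauerPairIdx G} {x y : G} {j : ℕ}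

/-- A height zero character of a block with a column has odd entry. -/
theorem exists_odd_of_col (hM : IsPModular 2 M) {u : G} {b : BrauerPairIdx G} {i : ℕ}
    {d : IrrCharacter (Subgroup.centralizer (b.1 : Set G)) → ℕ} {c : IrrCharacter G → ℕ → ℤ}
    (h : Col M B u b i d c) (hl : blockRank 2 b.2 = 1) :
    ∃ η ∈ b.2, blockHeight 2 b.2 (η : Subgroup.centralizer (b.1 : Set G) → ℂ) = 0 ∧
      Odd (d η) := by
  have := isPrime_of_isPModular hM
  have := Fintype.ofFinite (Subgroup.centralizer (b.1 : Set G))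
  obtain ⟨η, hη, h0⟩ := H648.HeightForm.exists_height_zero (p := 2) h.sub.ind.1
  obtain ⟨m, hm, hd⟩ := val_rank_one hM h.sub.ind.1 (d := d)
    (fun η hη η' hη' => rg_eq_of_col hM h hl hη' hη |>.trans (by ring)) hη
  refine ⟨η, hη, h0, ?_⟩
  rw [h0, pow_zero, one_mul] at hd
  rw [← hd] at hm
  exact_mod_cast hm

theorem exclusion (hM : IsPModular 2 M) (hmax : IsMaximalBrauerPair 2 M B a.1 a.2)
    (hD : IsDih a.1 x j) (hy : y ∈ a.1) (hyx : y ∉ Subgroup.zpowers x) :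
    ¬ (blockRank 2 B = 1 ∧ rho M a x y j = 1) := by
  classical
  rintro ⟨hl, hρ⟩
  have : Fact (Nat.Prime 2) := ⟨Nat.prime_two⟩
  have hP := isPrime_of_isPModular hM
  have hB := hmax.1.2.1
  have := Fintype.ofFinite G
  have := Core.finite_irr (G := G)
  have := Fintype.ofFinite (IrrCharacter G)
  have := Fintype.ofFinite B
  obtain ⟨dx, ax, hx⟩ := exists_colx hM hmax hD
  obtain ⟨dz, az, hz⟩ := exists_colz hM hmax hD
  have hlz := blockRank_bel hM hmax hD hD.z_mem hD.z_ne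
  have hlx := blockRank_bel hM hmax hD hD.mem (x_ne_one hD)
  obtain ⟨κ, hκ1, hκ2⟩ := exists_kappa hM hz hlz
    (fun e he => eq_bel_of_isSubsec hM hmax hD hy hyx hρ he)
  obtain ⟨d, φ, hφ, hdpos, hdsum, hdeg, hrg⟩ := exists_rank_deg hM hB hl
  obtain ⟨hx4, hx1, hx0⟩ := main_x hM hmax hD hx
  have hfz : conj φ ≠ 0 := by
    intro h
    apply hφ
    rw [← Complex.conj_conj φ, h, map_zero]
  -- `j ≥ 2`
  have hcard := card_eq hM hmax hD hy hyx
  rw [hl, hρ] at hcard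
  have hj : 2 ≤ j := by
    have h1 : (htZero B).card ≤ Fintype.card B := Finset.card_le_univ _
    rw [hx4, ← Nat.card_eq_fintype_card, hcard] at h1
    by_contra hj
    have := hD.pos
    have h2 : j = 1 := by omega
    subst h2
    norm_num at h1
  -- the two dichotomies
  have hz' := dichotomy hM hmax hD hy hyx (c := fun χ => az χ 0)
    (fun χ hχ => hz.val_major hM (by rw [blockDefect_z hM hmax hD, blockDefect_eq hM hmax hD]) hχ)
    (by rw [hz.sum_sq_int hM hlz, blockDefect_z hM hmax hD])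
  rcases hz' with h | ⟨-, -, ⟨i₁, hi₁, hc1, hc⟩, hc0⟩
  · rw [hl, hρ] at h
    omega
  have hdval : ∀ χ ∈ B, ∃ m : ℤ, Odd m ∧ (d χ : ℤ) = 2 ^ blockHeight 2 B (χ : G → ℂ) * m :=
    fun χ hχ => val_rank_one hM hB hrg hχ
  have hdsum' : ∑ χ : B, (d χ : ℤ) ^ 2 = 2 ^ (j + 2) := by
    have h1 := sum_sq_of_finsum hdsum
    rw [blockDefect_eq hM hmax hD] at h1
    exact_mod_cast h1
  have hd' := dichotomy hM hmax hD hy hyx (c := fun χ => (d χ : ℤ)) hdval hdsum'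
  rcases hd' with h | ⟨-, -, ⟨i₀, hi₀, hd1, hd⟩, hd0⟩
  · rw [hl, hρ] at h
    omega
  have hd1' : (d i₀ : ℤ) = 3 := by
    have := nat_of_sq (d := d i₀) (m := 3) (by rw [hd1]; norm_num)
    rw [this]; norm_num
  have hd'' : ∀ χ ∈ htZero B, χ ≠ i₀ → (d χ : ℤ) = 1 := by
    intro χ hχ hne
    have := nat_of_sq (d := d χ) (m := 1) (by rw [hd χ hχ hne]; norm_num)
    rw [this]; norm_num
  have hd0' : ∀ χ ∉ htZero B, (d χ : ℤ) = 2 := by
    intro χ hχ
    have := nat_of_sq (d := d χ) (m := 2) (by rw [hd0 χ hχ]; norm_num)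
    rw [this]; norm_num
  -- orthogonality
  have horth : ∀ c : IrrCharacter G → ℤ, ∑ ψ : B, (c ψ : ℂ) * conj ((ψ : G → ℂ) 1) = 0 →
      ∑ χ : B, (d χ : ℤ) * c χ = 0 := by
    intro c h1
    have h2 : ∀ ψ : B, (c ψ : ℂ) * conj ((ψ : G → ℂ) 1) =
        conj φ * (((d ψ : ℤ) * c ψ : ℤ) : ℂ) := by
      intro ψ
      rw [hdeg ψ ψ.2, map_mul, Complex.conj_natCast]
      push_cast
      ring
    rw [Finset.sum_congr rfl fun ψ _ => h2 ψ, ← Finset.mul_sum, ← Int.cast_sum] at h1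
    exact_mod_cast (mul_eq_zero.1 h1).resolve_left hfz
  have hda : ∑ χ : B, (d χ : ℤ) * ax χ 0 = 0 :=
    horth (fun χ => ax χ 0) (sum_zero_mul_conj hM hx isPPart_one
      (fun k hk => not_isConj_pow hD (by simp) hk))
  have hdc : ∑ χ : B, (d χ : ℤ) * az χ 0 = 0 := by
    refine horth (fun χ => az χ 0) (sum_zero_mul_conj hM hz isPPart_one fun k hk h => ?_)
    have h1 : (x ^ 2 ^ j) ^ k = 1 := isConj_one_right.1 h.symm
    apply hD.z_ne
    obtain ⟨i, rfl⟩ := hk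
    rwa [pow_succ, pow_mul, pow_two, hD.z_sq, one_pow, one_mul] at h1
  -- the degrees
  have hdne : ∀ χ : B, (d χ : ℂ) ≠ 0 := fun χ => by exact_mod_cast (hdpos χ χ.2).ne'
  rcases NumExcB.num_G (htZero B) (fun χ : B => (d χ : ℤ)) (fun χ : B => az χ 0)
    (fun χ : B => ax χ 0) hx4 hx1 hx0 hi₁ hc1 hc hc0 hi₀ hd1' hd'' hd0' hdc hda with h | h
  · -- positivity
    apply cube_pos hM hmax hD hy hyx hρ
    have h1 : ∀ χ : B, (χ : G → ℂ) (x ^ 2 ^ j) ^ 3 / (χ : G → ℂ) 1 =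
        κ ^ 3 / φ * (((az χ 0 : ℚ) ^ 3 / ((d χ : ℤ) : ℚ) : ℚ) : ℂ) := by
      intro χ
      rw [hκ1 χ χ.2, hdeg χ χ.2]
      have := hdne χ
      push_cast
      field_simp
    rw [Finset.sum_congr rfl fun χ _ => h1 χ, ← Finset.mul_sum, ← Rat.cast_sum, h, Rat.cast_zero,
      mul_zero]
  · -- divisibility
    obtain ⟨θ, hθ, hθ0, hθd⟩ := exists_odd_of_col hM hx hlx
    obtain ⟨η, hη, hη0, hηd⟩ := exists_odd_of_col hM hz hlz
    obtain ⟨χ, hχ, hχ0⟩ := H648.HeightForm.exists_height_zero (p := 2) hB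
    have hχd : Odd (d χ) := by
      obtain ⟨m, hm, h1⟩ := hdval χ hχ
      rw [hχ0, pow_zero, one_mul] at h1
      rw [← h1] at hm
      exact_mod_cast hm
    obtain ⟨g1, g2, hg1, hg2, eG⟩ := exists_odd_deg hχ hχ0
    obtain ⟨h1, h2, hh1, hh2, eH⟩ := exists_odd_deg hη hη0
    rw [blockDefect_eq hM hmax hD] at eG
    rw [blockDefect_z hM hmax hD] at eH
    have hK := Cfsg.Agent.S0145.card_centralizer_mul_card_class (x ^ 2 ^ j)
    have hZ := div_avg hM hD.ord hx hD.z_sq hθ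
    have e1 : ∀ χ : B, (χ : G → ℂ) (x ^ 2 ^ j) ^ 2 / (χ : G → ℂ) 1 * (ax χ 0 : ℂ) =
        κ ^ 2 / φ * (((az χ 0 : ℚ) ^ 2 * (ax χ 0 : ℚ) / ((d χ : ℤ) : ℚ) : ℚ) : ℂ) := by
      intro χ
      rw [hκ1 χ χ.2, hdeg χ χ.2]
      have := hdne χ
      push_cast
      field_simp
    rw [sum_filter_eq B (fun χ => (χ : G → ℂ) (x ^ 2 ^ j) ^ 2 / (χ : G → ℂ) 1 * (ax χ 0 : ℂ)),
      Finset.sum_congr rfl fun χ _ => e1 χ, ← Finset.mul_sum, ← Rat.cast_sum] at hZ
    refine val_contra hM hj rfl (s := ((∑ χ : B, (az χ 0 : ℚ) ^ 2 * (ax χ 0 : ℚ) /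
      ((d χ : ℤ) : ℚ) : ℚ) : ℂ)) ?_ ?_ Nat.card_pos.ne' hg1 hg2 hh1 hh2 hχd hηd hθd eG eH
      (hdeg χ hχ) (hκ2 η hη) hZ
    · rcases h with h | h
      · left; rw [h]; push_cast; rfl
      · right; rw [h]; push_cast; rfl
    · rw [← hK, mul_comm, hz.sub.centralizer_eq]
      congr 2
      ext t
      simp only [Finset.mem_filter, Finset.mem_univ, true_and]
      exact ⟨IsConj.symm, IsConj.symm⟩

end Cfsg.Agent.H613.ExcH
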