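import Mathlib
import Cfsg.Agent.H613.ExcH

/-!
# 2-blocks with dihedral defect groups
-/

set_option autoImplicit false
set_option linter.unusedSectionVars false

open Cfsg
open scoped ComplexConjugate

namespace Cfsg.Agent.H613.DihMain

open Cfsg.Agent.Blocks.Blau Cfsg.Agent.Blocks.Local Cfsg.Agent.Characters
open Cfsg.Agent.H613.SubSys Cfsg.Agent.H613.SubFus Cfsg.Agent.H644
open Cfsg.Agent.H649 Cfsg.Agent.H613.TwoCol Cfsg.Agent.H613.DihGrp
open Cfsg.Agent.H613.DihCol Cfsg.Agent.H613.DihFus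

universe u

/-- A dihedral subgroup. -/
theorem exists_isDih {G : Type u} [Group G] {D : Subgroup G} {j : ℕ} (hj : 1 ≤ j)
    (e : D ≃* DihedralGroup (2 ^ (j + 1))) : ∃ x : G, IsDih D x j := by
  let x₀ : D := e.symm (DihedralGroup.r 1)
  have hx₀ : e x₀ = DihedralGroup.r 1 := e.apply_symm_apply _
  have key : ∀ y (hy : y ∈ D), y ∉ Subgroup.zpowers (x₀ : G) →
      ∃ i, e ⟨y, hy⟩ = DihedralGroup.sr i := by
    intro y hy hyx
    rcases h : e ⟨y, hy⟩ with i | i
    · exfalso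
      apply hyx
      rw [Subgroup.mem_zpowers_iff]
      refine ⟨i.val, ?_⟩
      have h1 : x₀ ^ i.val = ⟨y, hy⟩ := by
        apply e.injective
        rw [map_pow, hx₀, h, DihedralGroup.r_one_pow, ZMod.natCast_val, ZMod.cast_id]
      have h2 := congrArg Subtype.val h1
      rw [Subgroup.coe_pow] at h2
      rw [zpow_natCast, h2]
    · exact ⟨i, rfl⟩
  refine ⟨x₀, hj, x₀.2, ?_, ?_, ?_, ?_⟩
  · rw [Subgroup.orderOf_coe, ← orderOf_injective e.toMonoidHom e.injective x₀]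
    change orderOf (e x₀) = _
    rw [hx₀, DihedralGroup.orderOf_r_one]
  · rw [Nat.card_congr e.toEquiv, DihedralGroup.nat_card, pow_succ 2 (j + 1), mul_comm]
  · intro y hy hyx
    obtain ⟨i, hi⟩ := key y hy hyx
    have h1 : (⟨y, hy⟩ : D) * ⟨y, hy⟩ = 1 := by
      apply e.injective
      rw [map_mul, hi, DihedralGroup.sr_mul_self, map_one]
    exact congrArg Subtype.val h1
  · intro y hy hyx
    obtain ⟨i, hi⟩ := key y hy hyx
    have h1 : (⟨y, hy⟩ : D) * x₀ * (⟨y, hy⟩ : D)⁻¹ = x₀⁻¹ := by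
      apply e.injective
      rw [map_mul, map_mul, map_inv, map_inv, hi, hx₀, DihedralGroup.inv_sr,
        DihedralGroup.sr_mul_r, DihedralGroup.sr_mul_sr, DihedralGroup.inv_r]
      congr 1
      ring
    exact congrArg Subtype.val h1

variable {G : Type u} [Group G] [Finite G] {M : Ideal AlgInt}
  {B : Set (IrrCharacter G)} {a : BrauerPairIdx G} {x : G} {j : ℕ}

theorem main (hM : IsPModular 2 M) (hmax : IsMaximalBrauerPair 2 M B a.1 a.2)
    (hD : IsDih a.1 x j) :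
    Nat.card B = 2 ^ j + 3 ∧ 1 ≤ blockRank 2 B ∧ blockRank 2 B ≤ 3 ∧
      Nat.card {χ : IrrCharacter G // χ ∈ B ∧ blockHeight 2 B (χ : G → ℂ) = 0} = 4 ∧
      ∀ χ ∈ B, blockHeight 2 B (χ : G → ℂ) ≤ 1 := by
  have : Fact (Nat.Prime 2) := ⟨Nat.prime_two⟩
  have hP := isPrime_of_isPModular hM
  have := Core.finite_irr (G := G)
  have := Fintype.ofFinite B
  obtain ⟨y, hy, hyx⟩ := hD.exists_notMem
  obtain ⟨dx, ax, hx⟩ := exists_colx hM hmax hD
  obtain ⟨dz, az, hz⟩ := exists_colz hM hmax hD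
  have hlz := blockRank_bel hM hmax hD hD.z_mem hD.z_ne
  have hval : ∀ χ ∈ B, ∃ m : ℤ, Odd m ∧ az χ 0 = 2 ^ blockHeight 2 B (χ : G → ℂ) * m :=
    fun χ hχ => hz.val_major hM (by rw [blockDefect_z hM hmax hD, blockDefect_eq hM hmax hD]) hχ
  have hdic := dichotomy hM hmax hD hy hyx (c := fun χ => az χ 0) hval
    (by rw [hz.sum_sq_int hM hlz, blockDefect_z hM hmax hD])
  have hpos := rho_pos (M := M) (a := a) (x := x) (j := j) y
  have hlpos : 1 ≤ blockRank 2 B := RankPos.one_le_blockRank (isPBlock_nonempty hM hmax.1.2.1)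
  rcases hdic with ⟨h4, h1, h0⟩ | ⟨h1, h2, -⟩
  · refine ⟨?_, hlpos, by omega, ?_, ?_⟩
    · rw [card_eq hM hmax hD hy hyx]
      have : 1 ≤ 2 ^ j := Nat.one_le_two_pow
      omega
    · rw [← card_htZero]
      exact (main_x hM hmax hD hx).1
    · intro χ hχ
      by_cases h : blockHeight 2 B (χ : G → ℂ) = 0
      · rw [h]; exact Nat.zero_le _
      · exact (height_le_one (c := fun χ => az χ 0) (hval χ hχ)
          (h0 ⟨χ, hχ⟩ fun h' => h (mem_htZero.1 h'))).le
  · exact absurd ⟨h1, h2⟩ (ExcH.exclusion hM hmax hD hy hyx)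

end Cfsg.Agent.H613.DihMain
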